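import Mathlib
import Cfsg.Agent.Presentations.Carmichael

/-!
A homomorphism from an alternating group out of Carmichael's three-cycle generators.
-/

set_option autoImplicit false

namespace Cfsg.Lib.AltTwelveCent

open Equiv Equiv.Perm

variable {G : Type*} [Group G]

/-- The images of the three-cycles `(a b i)`. -/
structure CycRel (t : ℕ → G) (m : ℕ) : Prop where
  cube : ∀ i < m, t i * t i * t i = 1
  pair : ∀ i < m, ∀ k < m, i ≠ k → t i * t k * (t i * t k) = 1

namespace CycRel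

variable {t : ℕ → G} {m : ℕ} (h : CycRel t m)

/-- The image of `(a b)(c d)`. -/
def dbl (t : ℕ → G) (c d : ℕ) : G := t c * (t d)⁻¹ * t c

theorem sq_eq_inv {i : ℕ} (hi : i < m) (h : CycRel t m) : t i * t i = (t i)⁻¹ :=
  eq_inv_of_mul_eq_one_left (h.cube i hi)

theorem sandwich {i k : ℕ} (hi : i < m) (hk : k < m) (hne : i ≠ k) (h : CycRel t m) :
    t i * t k * t i = (t k)⁻¹ := by
  have h1 := h.pair i hi k hk hne
  rw [← mul_assoc] at h1
  exact eq_inv_of_mul_eq_one_left h1

theorem sandwich_inv {i k : ℕ} (hi : i < m) (hk : k < m) (hne : i ≠ k) (h : CycRel t m) :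
    (t i)⁻¹ * (t k)⁻¹ * (t i)⁻¹ = t k := by
  have h1 := congrArg (fun x : G => x⁻¹) (sandwich hi hk hne h)
  simpa [mul_inv_rev, mul_assoc] using h1

theorem dbl_sq {c d : ℕ} (hc : c < m) (hd : d < m) (hne : c ≠ d) (h : CycRel t m) : dbl t c d * dbl t c d = 1 := by
  have h1 := sandwich_inv hd hc hne.symm h
  calc dbl t c d * dbl t c d = t c * ((t d)⁻¹ * (t c * t c) * (t d)⁻¹) * t c := by simp [dbl, mul_assoc]
    _ = t c * t c * t c := by rw [sq_eq_inv hc h, h1, sq_eq_inv hc h]
    _ = 1 := h.cube c hc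

theorem dbl_inv {c d : ℕ} (hc : c < m) (hd : d < m) (hne : c ≠ d) (h : CycRel t m) : (dbl t c d)⁻¹ = dbl t c d :=
  inv_eq_of_mul_eq_one_right (dbl_sq hc hd hne h)

theorem dbl_conj_other {c d e : ℕ} (hc : c < m) (hd : d < m) (he : e < m) (hne : c ≠ d) (hec : e ≠ c) (hed : e ≠ d)
    (h : CycRel t m) : dbl t c d * t e * (dbl t c d)⁻¹ = (t e)⁻¹ := by
  rw [dbl_inv hc hd hne h]
  calc dbl t c d * t e * dbl t c d = t c * ((t d)⁻¹ * (t c * t e * t c) * (t d)⁻¹) * t c := by simp [dbl, mul_assoc]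
    _ = t c * t e * t c := by rw [sandwich hc he hec.symm h, sandwich_inv hd he hed.symm h, sandwich hc he hec.symm h]
    _ = (t e)⁻¹ := sandwich hc he hec.symm h

theorem dbl_conj_left {c d : ℕ} (hc : c < m) (hd : d < m) (hne : c ≠ d)
    (h : CycRel t m) : dbl t c d * t c * (dbl t c d)⁻¹ = (t d)⁻¹ := by
  rw [dbl_inv hc hd hne h]
  calc dbl t c d * t c * dbl t c d = t c * ((t d)⁻¹ * (t c * t c * t c) * (t d)⁻¹) * t c := by simp [dbl, mul_assoc]
    _ = t c * t d * t c := by rw [h.cube c hc, mul_one, ← mul_inv_rev, sq_eq_inv hd h, inv_inv]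
    _ = (t d)⁻¹ := sandwich hc hd hne h

theorem dbl_conj_right {c d : ℕ} (hc : c < m) (hd : d < m) (hne : c ≠ d)
    (h : CycRel t m) : dbl t c d * t d * (dbl t c d)⁻¹ = (t c)⁻¹ := by
  have h1 := congrArg (fun x : G => (dbl t c d)⁻¹ * x⁻¹ * dbl t c d) (dbl_conj_left hc hd hne h)
  simp [mul_assoc] at h1
  rw [dbl_inv hc hd hne h] at h1 ⊢
  rw [mul_assoc]
  exact h1.symm

theorem dbl_conj_dbl (D : G) {c d : ℕ} {c' d' : ℕ} (hc : D * t c * D⁻¹ = (t c')⁻¹) (hd : D * t d * D⁻¹ = (t d')⁻¹) :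
    D * dbl t c d * D⁻¹ = (dbl t c' d')⁻¹ := by
  have hd' : D * (t d)⁻¹ * D⁻¹ = t d' := by
    have h1 := congrArg (fun x : G => x⁻¹) hd
    simpa [mul_inv_rev, mul_assoc] using h1
  calc D * dbl t c d * D⁻¹ = D * t c * D⁻¹ * (D * (t d)⁻¹ * D⁻¹) * (D * t c * D⁻¹) := by simp [dbl, mul_assoc]
    _ = (t c')⁻¹ * t d' * (t c')⁻¹ := by rw [hc, hd']
    _ = (dbl t c' d')⁻¹ := by simp [dbl, mul_inv_rev, mul_assoc]

end CycRel

/-- Moore's generators. -/
def mooreGen (t : ℕ → G) : ℕ → G
  | 0 => t 0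
  | k + 1 => CycRel.dbl t k (k + 1)

open CycRel in
theorem rel_moore {t : ℕ → G} {m : ℕ} (h : CycRel t m) : Cfsg.Lib.Presentations.Carmichael.Rel (mooreGen t) m := by
  refine ⟨fun h0 => ?_, fun i hi him => ?_, fun i hi => ?_, fun i j hij hj => ?_⟩
  · show t 0 ^ 3 = 1
    rw [pow_succ, pow_two]
    exact h.cube 0 h0
  · obtain ⟨k, rfl⟩ : ∃ k, i = k + 1 := ⟨i - 1, by omega⟩
    exact dbl_sq (by omega) him (by omega) h
  · rcases i with _ | k
    · show (t 0 * dbl t 0 1) ^ 3 = 1
      have e : t 0 * dbl t 0 1 = (t 0)⁻¹ * (t 1)⁻¹ * t 0 := by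
        simp only [dbl, ← mul_assoc]
        rw [sq_eq_inv (by omega) h]
      rw [e, pow_succ, pow_two]
      have h1 : (t 1)⁻¹ * (t 1)⁻¹ * (t 1)⁻¹ = 1 := by
        have := congrArg (fun x : G => x⁻¹) (h.cube 1 (by omega))
        simpa [mul_inv_rev, mul_assoc] using this
      calc (t 0)⁻¹ * (t 1)⁻¹ * t 0 * ((t 0)⁻¹ * (t 1)⁻¹ * t 0) * ((t 0)⁻¹ * (t 1)⁻¹ * t 0)
          = (t 0)⁻¹ * ((t 1)⁻¹ * (t 1)⁻¹ * (t 1)⁻¹) * t 0 := by simp [mul_assoc]
        _ = 1 := by rw [h1]; simp
    · show (dbl t k (k + 1) * dbl t (k + 1) (k + 2)) ^ 3 = 1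
      have hP := dbl_sq (t := t) (c := k) (d := k + 1) (by omega) (by omega) (by omega) h
      have hQ := dbl_sq (t := t) (c := k + 1) (d := k + 2) (by omega) (by omega) (by omega) h
      have h1 := dbl_conj_dbl (dbl t k (k + 1)) (dbl_conj_right (c := k) (d := k + 1) (by omega) (by omega) (by omega) h)
        (dbl_conj_other (c := k) (d := k + 1) (e := k + 2) (by omega) (by omega) (by omega) (by omega) (by omega) (by omega) h)
      have h2 := dbl_conj_dbl (dbl t (k + 1) (k + 2))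
        (dbl_conj_other (c := k + 1) (d := k + 2) (e := k) (by omega) (by omega) (by omega) (by omega) (by omega) (by omega) h)
        (dbl_conj_left (c := k + 1) (d := k + 2) (by omega) (by omega) (by omega) h)
      rw [dbl_inv (by omega) (by omega) (by omega) h] at h1 h2
      have hb : dbl t k (k + 1) * dbl t (k + 1) (k + 2) * dbl t k (k + 1) =
          dbl t (k + 1) (k + 2) * dbl t k (k + 1) * dbl t (k + 1) (k + 2) := h1.trans h2.symm
      generalize dbl t k (k + 1) = P at *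
      generalize dbl t (k + 1) (k + 2) = Q at *
      rw [pow_succ, pow_two]
      calc P * Q * (P * Q) * (P * Q) = P * Q * P * (Q * P * Q) := by simp [mul_assoc]
        _ = Q * P * (Q * Q) * P * Q := by rw [hb]; simp [mul_assoc]
        _ = 1 := by rw [hQ, mul_one, mul_assoc Q P P, hP, mul_one, hQ]
  · obtain ⟨l, rfl⟩ : ∃ l, j = l + 1 := ⟨j - 1, by omega⟩
    rcases i with _ | k
    · show t 0 * dbl t l (l + 1) * (t 0 * dbl t l (l + 1)) = 1
      have h1 := dbl_conj_other (c := l) (d := l + 1) (e := 0) (by omega) (by omega) (by omega) (by omega) (by omega) (by omega) h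
      rw [dbl_inv (by omega) (by omega) (by omega) h] at h1
      calc _ = t 0 * (dbl t l (l + 1) * t 0 * dbl t l (l + 1)) := by simp [mul_assoc]
        _ = 1 := by rw [h1, mul_inv_cancel]
    · show dbl t k (k + 1) * dbl t l (l + 1) * (dbl t k (k + 1) * dbl t l (l + 1)) = 1
      have h1 := dbl_conj_dbl (dbl t k (k + 1))
        (dbl_conj_other (c := k) (d := k + 1) (e := l) (by omega) (by omega) (by omega) (by omega) (by omega) (by omega) h)
        (dbl_conj_other (c := k) (d := k + 1) (e := l + 1) (by omega) (by omega) (by omega) (by omega) (by omega) (by omega) h)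
      rw [dbl_inv (c := k) (d := k + 1) (by omega) (by omega) (by omega) h,
        dbl_inv (c := l) (d := l + 1) (by omega) (by omega) (by omega) h] at h1
      rw [← mul_assoc, h1]
      exact dbl_sq (by omega) (by omega) (by omega) h

open CycRel in
theorem cycle_mem_moore {t : ℕ → G} {m : ℕ} (h : CycRel t m) :
    ∀ i < m, t i ∈ Subgroup.closure (mooreGen t '' Set.Iio m) := by
  intro i
  induction i with
  | zero => exact fun hi => Subgroup.subset_closure ⟨0, hi, rfl⟩
  | succ k ih =>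
    intro hk
    have hD : dbl t k (k + 1) ∈ Subgroup.closure (mooreGen t '' Set.Iio m) := Subgroup.subset_closure ⟨k + 1, hk, rfl⟩
    have h1 := mul_mem (mul_mem hD (ih (by omega))) (inv_mem hD)
    rw [dbl_conj_left (by omega) hk (by omega) h] at h1
    exact (inv_mem_iff (x := t (k + 1))).1 h1

/-- A group with the order of an alternating group generated by three-cycles maps onto any such generators. -/
theorem exists_hom {A : Type*} [Group A] [Finite A] {c : ℕ → A} {t : ℕ → G} {m : ℕ} (hc : CycRel c m) (ht : CycRel t m)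
    (hgen : Subgroup.closure (c '' Set.Iio m) = ⊤) (hcard : 2 * Nat.card A = (m + 2).factorial) :
    ∃ ψ : A →* G, ∀ i < m, ψ (c i) = t i := by
  let u : ℕ → A × G := fun i => (c i, t i)
  have hu : CycRel u m := ⟨fun i hi => Prod.ext (hc.cube i hi) (ht.cube i hi),
    fun i hi k hk hne => Prod.ext (hc.pair i hi k hk hne) (ht.pair i hi k hk hne)⟩
  set W := Subgroup.closure (mooreGen u '' Set.Iio m)
  obtain ⟨hfin, hle⟩ := Cfsg.Lib.Presentations.Carmichael.finite_and_card_le _ m (rel_moore hu)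
  have : Finite W := hfin
  have hle' : 2 * Nat.card W ≤ (m + 2).factorial := hle
  let π : W →* A := (MonoidHom.fst A G).comp W.subtype
  have hsurj : Function.Surjective π := by
    rw [← MonoidHom.range_eq_top, eq_top_iff, ← hgen, Subgroup.closure_le]
    rintro _ ⟨i, hi, rfl⟩
    exact ⟨⟨u i, cycle_mem_moore hu i hi⟩, rfl⟩
  have hb : Function.Bijective π := hsurj.bijective_of_nat_card_le (by omega)
  refine ⟨((MonoidHom.snd A G).comp W.subtype).comp (MulEquiv.ofBijective π hb).symm.toMonoidHom, fun i hi => ?_⟩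
  have h1 : (MulEquiv.ofBijective π hb).symm (c i) = ⟨u i, cycle_mem_moore hu i hi⟩ :=
    (MulEquiv.symm_apply_eq _).2 rfl
  show ((MulEquiv.ofBijective π hb).symm (c i) : A × G).2 = t i
  rw [h1]

end Cfsg.Lib.AltTwelveCent
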