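import Mathlib
import Cfsg.Agent.AltTwelveCent.AltPres

/-!
The alternating groups of degree twelve and thirteen inside the permutations of thirteen points: the centralizer of a
product of six transpositions, the three-cycles through two fixed points, and the elements moving them about.
-/

set_option autoImplicit false
set_option maxRecDepth 4000
set_option synthInstance.maxSize 1024
set_option synthInstance.maxHeartbeats 200000

namespace Cfsg.Lib.AltTwelveCent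

open Equiv

/-- Permutations of thirteen points. -/
abbrev P13 := Perm (Fin 13)

/-- The even permutations fixing a set of points. -/
def fixG (F : Finset (Fin 13)) : Subgroup P13 where
  carrier := {σ | Perm.sign σ = 1 ∧ ∀ x ∈ F, σ x = x}
  one_mem' := ⟨map_one _, fun _ _ => rfl⟩
  mul_mem' := fun {a b} ha hb => ⟨by rw [map_mul, ha.1, hb.1, one_mul], fun x hx => by
    rw [Perm.mul_apply, hb.2 x hx, ha.2 x hx]⟩
  inv_mem' := fun {a} ha => ⟨by rw [map_inv, ha.1, inv_one], fun x hx => by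
    rw [Perm.inv_eq_iff_eq, ha.2 x hx]⟩

theorem mem_fixG {F : Finset (Fin 13)} {σ : P13} : σ ∈ fixG F ↔ Perm.sign σ = 1 ∧ ∀ x ∈ F, σ x = x := Iff.rfl

instance (F : Finset (Fin 13)) : DecidablePred (· ∈ fixG F) := fun _ => decidable_of_iff _ mem_fixG.symm

/-- The product of six transpositions. -/
def abar : P13 := swap (0 : Fin 13) 1 * swap (2 : Fin 13) 3 * swap (4 : Fin 13) 5 * swap (6 : Fin 13) 7 *
  swap (8 : Fin 13) 9 * swap (10 : Fin 13) 11

/-- The centralizer in the alternating group of degree twelve. -/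
def Hb : Subgroup P13 := fixG {12} ⊓ Subgroup.centralizer {abar}

theorem mem_Hb {σ : P13} : σ ∈ Hb ↔ (Perm.sign σ = 1 ∧ σ 12 = 12) ∧ σ * abar = abar * σ := by
  simp [Hb, mem_fixG, Subgroup.mem_centralizer_singleton_iff]

instance : DecidablePred (· ∈ Hb) := fun _ => decidable_of_iff _ mem_Hb.symm

/-- The points fixed throughout: the thirteenth point unless it is used. -/
def outPts (ext : Bool) : Finset (Fin 13) := if ext then ∅ else {12}

/-- The points fixed by the component of the first block. -/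
def compPts (ext : Bool) : Finset (Fin 13) := outPts ext ∪ {0, 1, 2, 3}

/-- The alternating group. -/
def AT (ext : Bool) : Subgroup P13 := fixG (outPts ext)
/-- The component of the first block. -/
def AK (ext : Bool) : Subgroup P13 := fixG (compPts ext)

instance (ext : Bool) : DecidablePred (· ∈ AT ext) := fun x => inferInstanceAs (Decidable (x ∈ fixG (outPts ext)))
instance (ext : Bool) : DecidablePred (· ∈ AK ext) := fun x => inferInstanceAs (Decidable (x ∈ fixG (compPts ext)))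

/-- The swap of the first two blocks. -/
def sB : P13 := swap (0 : Fin 13) 4 * swap (1 : Fin 13) 5 * swap (2 : Fin 13) 6 * swap (3 : Fin 13) 7

/-- The three-cycle on the first three points. -/
def c0 : P13 := swap (0 : Fin 13) 1 * swap (1 : Fin 13) 2
/-- Its conjugate by the swap of blocks. -/
def c4 : P13 := swap (4 : Fin 13) 5 * swap (5 : Fin 13) 6

/-- The labels of the moving points. -/
def lab (k : ℕ) : Fin 13 := [(0 : Fin 13), 1, 2, 3, 4, 5, 6, 7, 10, 11, 12].getD k 12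
/-- The three-cycles through the points eight and nine. -/
def cyc (k : ℕ) : P13 := swap (8 : Fin 13) (lab k) * swap (8 : Fin 13) 9
/-- The number of generating cycles. -/
def deg (ext : Bool) : ℕ := if ext then 11 else 10

/-- Elements of the centralizer carrying the first three points to a cycle. -/
def gEl (k : ℕ) : P13 := [swap (0 : Fin 13) 8 * swap (8 : Fin 13) 6 * swap (6 : Fin 13) 4 * swap (4 : Fin 13) 2 * swap (1 : Fin 13) 9 * swap (9 : Fin 13) 7 * swap (7 : Fin 13) 5 * swap (5 : Fin 13) 3,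
  swap (0 : Fin 13) 8 * swap (8 : Fin 13) 6 * swap (6 : Fin 13) 4 * swap (4 : Fin 13) 2 * swap (2 : Fin 13) 1 * swap (1 : Fin 13) 9 * swap (9 : Fin 13) 7 * swap (7 : Fin 13) 5 * swap (5 : Fin 13) 3 * swap (10 : Fin 13) 11,
  swap (0 : Fin 13) 8 * swap (8 : Fin 13) 6 * swap (6 : Fin 13) 4 * swap (1 : Fin 13) 9 * swap (9 : Fin 13) 7 * swap (7 : Fin 13) 5,
  swap (0 : Fin 13) 8 * swap (8 : Fin 13) 6 * swap (6 : Fin 13) 4 * swap (1 : Fin 13) 9 * swap (9 : Fin 13) 7 * swap (7 : Fin 13) 5 * swap (2 : Fin 13) 3 * swap (10 : Fin 13) 11,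
  swap (0 : Fin 13) 8 * swap (8 : Fin 13) 6 * swap (6 : Fin 13) 2 * swap (2 : Fin 13) 4 * swap (1 : Fin 13) 9 * swap (9 : Fin 13) 7 * swap (7 : Fin 13) 3 * swap (3 : Fin 13) 5,
  swap (0 : Fin 13) 8 * swap (8 : Fin 13) 6 * swap (6 : Fin 13) 2 * swap (2 : Fin 13) 5 * swap (5 : Fin 13) 1 * swap (1 : Fin 13) 9 * swap (9 : Fin 13) 7 * swap (7 : Fin 13) 3 * swap (3 : Fin 13) 4 * swap (10 : Fin 13) 11,
  swap (0 : Fin 13) 8 * swap (8 : Fin 13) 4 * swap (1 : Fin 13) 9 * swap (9 : Fin 13) 5 * swap (2 : Fin 13) 6 * swap (3 : Fin 13) 7,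
  swap (0 : Fin 13) 8 * swap (8 : Fin 13) 4 * swap (1 : Fin 13) 9 * swap (9 : Fin 13) 5 * swap (2 : Fin 13) 7 * swap (7 : Fin 13) 3 * swap (3 : Fin 13) 6 * swap (10 : Fin 13) 11,
  swap (0 : Fin 13) 8 * swap (8 : Fin 13) 4 * swap (1 : Fin 13) 9 * swap (9 : Fin 13) 5 * swap (2 : Fin 13) 10 * swap (10 : Fin 13) 6 * swap (3 : Fin 13) 11 * swap (11 : Fin 13) 7,
  swap (0 : Fin 13) 8 * swap (8 : Fin 13) 4 * swap (1 : Fin 13) 9 * swap (9 : Fin 13) 5 * swap (2 : Fin 13) 11 * swap (11 : Fin 13) 6 * swap (3 : Fin 13) 10 * swap (10 : Fin 13) 7].getD k 1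
/-- Elements fixing the first block and carrying its image to a cycle. -/
def lEl (k : ℕ) : P13 := [swap (4 : Fin 13) 8 * swap (8 : Fin 13) 6 * swap (5 : Fin 13) 9 * swap (9 : Fin 13) 7,
  swap (4 : Fin 13) 8 * swap (8 : Fin 13) 6 * swap (6 : Fin 13) 5 * swap (5 : Fin 13) 9 * swap (9 : Fin 13) 7 * swap (10 : Fin 13) 11,
  swap (4 : Fin 13) 8 * swap (5 : Fin 13) 9,
  swap (4 : Fin 13) 8 * swap (5 : Fin 13) 9 * swap (6 : Fin 13) 7 * swap (10 : Fin 13) 11,
  swap (4 : Fin 13) 8 * swap (5 : Fin 13) 9 * swap (6 : Fin 13) 10 * swap (7 : Fin 13) 11,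
  swap (4 : Fin 13) 8 * swap (5 : Fin 13) 9 * swap (6 : Fin 13) 11 * swap (7 : Fin 13) 10].getD (k - 4) 1
/-- The pair exchanges used to separate two blocks. -/
def hEl (k : ℕ) : P13 := if k / 2 = 0 then swap (0 : Fin 13) 10 * swap (1 : Fin 13) 11 else
  swap (2 : Fin 13) 10 * swap (3 : Fin 13) 11

/-- Generators of the component part of the centralizer. -/
def hbGen : ℕ → P13
  | 0 => swap (4 : Fin 13) 6 * swap (5 : Fin 13) 7
  | 1 => swap (6 : Fin 13) 8 * swap (7 : Fin 13) 9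
  | 2 => swap (8 : Fin 13) 10 * swap (9 : Fin 13) 11
  | 3 => swap (4 : Fin 13) 5 * swap (6 : Fin 13) 7
  | k + 4 => if k < 4 then sB * hbGen k * sB else 1

/-- Words for the cosets of the stabilisers of the pairs. -/
def hbWords : List (List (List ℕ)) :=
  [[],
   [[4], [4, 7], [], [7]],
   [[0, 1, 4, 5, 1, 0], [4, 5, 1, 0, 3, 1, 5], [0, 1, 5, 1, 0], [5, 1, 0, 3, 1, 5], [], [5, 1, 3, 1, 5]],
   [[1, 4, 5, 1], [1, 4, 5, 1, 3], [1, 5, 1], [1, 5, 1, 3], [0], [0, 3], [], [3]],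
   [[4, 5], [4, 7, 5], [5], [7, 5], [0, 1], [0, 3, 1], [1], [3, 1], [], [1, 3, 1]],
   [[4, 5, 2], [4, 7, 5, 2], [5, 2], [7, 5, 2], [0, 1, 2], [0, 3, 1, 2], [1, 2], [3, 1, 2], [2], [1, 3, 1, 2], [], [2, 1, 3, 1, 2]]]

/-- The element of a word. -/
def hbWord (p q : ℕ) : P13 := (((hbWords.getD p []).getD q []).map hbGen).prod

/-- The coset step for the cycles. -/
def step (k : ℕ) (q : Fin 13) : P13 :=
  if q = lab k then 1 else if q = 8 then cyc k else if q = 9 then cyc k * cyc k else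
    match (List.range k).find? (fun l => lab l = q) with
    | some l => cyc l * cyc l * cyc k
    | none => 1

theorem lab_lt : ∀ x : Fin 13, x ≠ 8 → x ≠ 9 → ∃ k, k < 11 ∧ lab k = x := by decide +kernel

theorem lab_facts : ∀ k, k < 11 → ∀ l, l < 11 → (lab k = lab l → k = l) ∧ lab k ≠ 8 ∧ lab k ≠ 9 ∧
    ((lab k = 12) ↔ k = 10) ∧ ((lab k).val < 4 ↔ k < 4) := by decide +kernel

theorem cyc_rel : ∀ k, k < 11 → cyc k * cyc k * cyc k = 1 ∧ ∀ l, l < 11 → k ≠ l → cyc k * cyc l * (cyc k * cyc l) = 1 := by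
  decide +kernel

theorem step_facts : ∀ k, k < 11 → ∀ q : Fin 13, (q = 8 ∨ q = 9 ∨ ∃ l, l < k + 1 ∧ lab l = q) →
    step k q (lab k) = q ∧ ∀ l, l < 11 → l ≠ k → lab l ≠ q → step k q (lab l) = lab l := by decide +kernel

theorem abar_facts : abar ∈ Hb ∧ abar * abar = 1 ∧ abar ≠ 1 ∧ sB ∈ Hb ∧ sB * sB = 1 ∧ c4 = sB * c0 * sB ∧ c0 ≠ 1 ∧
    c4 ∈ fixG {0, 1, 2, 3, 12} := by decide +kernel

theorem gEl_facts : ∀ k, k < 10 → gEl k ∈ Hb ∧ gEl k * c0 = cyc k * gEl k ∧
    (4 ≤ k → lEl k ∈ Hb ∧ (∀ x : Fin 13, x.val < 4 → lEl k x = x) ∧ lEl k * c4 = cyc k * lEl k) := by decide +kernel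

theorem hEl_facts : ∀ k, k < 4 → hEl k ∈ Hb ∧ ∃ k' , k' < 10 ∧ 4 ≤ k' ∧ hEl k * cyc k = cyc k' * hEl k ∧
    ∀ l, l < 8 → 4 ≤ l → hEl k * cyc l = cyc l * hEl k ∧ k' ≠ l := by decide +kernel

theorem sB_cyc : ∀ k, k < 11 → (k < 4 → sB * cyc k = cyc (k + 4) * sB) ∧ (4 ≤ k → k < 8 → sB * cyc k = cyc (k - 4) * sB) ∧
    (8 ≤ k → sB * cyc k = cyc k * sB) := by decide +kernel

theorem hbWord_facts : ∀ p, p < 6 → 1 ≤ p → ∀ q : Fin 13, q.val < 2 * p + 2 →
    hbWord p q.val ⟨2 * p % 13, Nat.mod_lt _ (by omega)⟩ = q ∧ ∀ x : Fin 13, 2 * p + 2 ≤ x.val → hbWord p q.val x = x := by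
  decide +kernel

theorem hbGen_facts : ∀ k, k < 8 → hbGen k ∈ Hb ∧ (k < 4 → ∀ x : Fin 13, x.val < 4 → hbGen k x = x) ∧
    (4 ≤ k → hbGen k = sB * hbGen (k - 4) * sB) := by decide +kernel

end Cfsg.Lib.AltTwelveCent
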