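import Mathlib
import Cfsg.Agent.AltTwelveCent.AltModel

/-!
Generation of the alternating groups and of the centralizer by the standard elements.
-/

set_option autoImplicit false

namespace Cfsg.Lib.AltTwelveCent

open Equiv

theorem eq_one_of_eight_nine {σ : P13} (hs : Perm.sign σ = 1) (h : ∀ x : Fin 13, x ≠ 8 → x ≠ 9 → σ x = x) : σ = 1 := by
  by_cases h8 : σ 8 = 8
  · ext1 x
    by_cases hx8 : x = 8
    · subst hx8; simpa using h8
    by_cases hx9 : x = 9
    · subst hx9
      by_contra hne
      change ¬ σ 9 = 9 at hne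
      by_cases h98 : σ 9 = 8
      · exact absurd (σ.injective (h98.trans h8.symm)) (by decide)
      · exact hne (σ.injective (h (σ 9) h98 hne))
    simpa using h x hx8 hx9
  · exfalso
    have h89 : σ 8 = 9 := by
      by_contra hne
      exact h8 (σ.injective (h (σ 8) h8 hne))
    have h98 : σ 9 = 8 := by
      by_contra hne
      by_cases hne9 : σ 9 = 9
      · exact absurd (σ.injective (hne9.trans h89.symm)) (by decide)
      · exact hne9 (σ.injective (h (σ 9) hne hne9))
    have : σ = swap (8 : Fin 13) 9 := by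
      ext1 x
      by_cases hx8 : x = 8
      · subst hx8; rw [h89, swap_apply_left]
      by_cases hx9 : x = 9
      · subst hx9; rw [h98, swap_apply_right]
      rw [h x hx8 hx9, swap_apply_of_ne_of_ne hx8 hx9]
    rw [this, Perm.sign_swap (by decide)] at hs
    exact absurd hs (by decide)

theorem lab_inj {k l : ℕ} (hk : k < 11) (hl : l < 11) (h : lab k = lab l) : k = l := (lab_facts k hk l hl).1 h

theorem deg_le (ext : Bool) : deg ext ≤ 11 := by cases ext <;> decide

theorem cyc_mem : ∀ ext : Bool, ∀ k, k < deg ext → cyc k ∈ AT ext ∧ (4 ≤ k → cyc k ∈ AK ext) := by decide +kernel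

/-- An even permutation fixing the first labels is a product of the later cycles. -/
theorem fix_le_closure (ext : Bool) (k₀ : ℕ) {σ : P13} (hσ : σ ∈ AT ext) (hlo : ∀ l, l < k₀ → l < 11 → σ (lab l) = lab l) :
    σ ∈ Subgroup.closure (cyc '' Set.Ico k₀ (deg ext)) := by
  set W := Subgroup.closure (cyc '' Set.Ico k₀ (deg ext))
  suffices h : ∀ n, n ≤ deg ext → ∀ σ : P13, σ ∈ AT ext → (∀ l, l < k₀ → l < 11 → σ (lab l) = lab l) →
      (∀ l, n ≤ l → l < 11 → σ (lab l) = lab l) → σ ∈ W by
    refine h (deg ext) le_rfl σ hσ hlo fun l hl hl' => ?_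
    have hext : ext = false := by
      cases ext with
      | false => rfl
      | true => simp [deg] at hl; omega
    subst hext
    have : l = 10 := by simp [deg] at hl; omega
    subst this
    exact hσ.2 _ (by decide)
  intro n
  induction n with
  | zero =>
    intro _ σ hσ _ hfix
    rw [eq_one_of_eight_nine hσ.1 fun x h8 h9 => ?_]
    · exact one_mem W
    obtain ⟨k, hk, rfl⟩ := lab_lt x h8 h9
    exact hfix k (Nat.zero_le _) hk
  | succ k ih =>
    intro hn σ hσ hlo hfix
    have hk11 : k < 11 := lt_of_lt_of_le hn (deg_le ext)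
    by_cases hq : σ (lab k) = lab k
    · refine ih (by omega) σ hσ hlo fun l hl hl' => ?_
      rcases Nat.eq_or_lt_of_le hl with rfl | hlt
      · exact hq
      · exact hfix l hlt hl'
    have hk0 : k₀ ≤ k := by
      by_contra hlt
      exact hq (hlo k (by omega) hk11)
    set q := σ (lab k)
    have hlist : q = 8 ∨ q = 9 ∨ ∃ l, l < k + 1 ∧ lab l = q := by
      by_contra hcon
      push Not at hcon
      obtain ⟨h8, h9, hl⟩ := hcon
      obtain ⟨l, hl11, hlq⟩ := lab_lt q h8 h9
      have hkl : k + 1 ≤ l := by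
        by_contra hlt
        exact hl l (by omega) hlq
      have := lab_inj hl11 hk11 (σ.injective ((hfix l hkl hl11).trans hlq))
      omega
    obtain ⟨hs1, hs2⟩ := step_facts k hk11 q hlist
    have hmem : ∀ l, k₀ ≤ l → l ≤ k → cyc l ∈ W := fun l h1 h2 => Subgroup.subset_closure ⟨l, ⟨h1, by omega⟩, rfl⟩
    have hw : step k q ∈ W := by
      unfold step
      split_ifs
      · exact hmem k hk0 le_rfl
      · exact mul_mem (hmem k hk0 le_rfl) (hmem k hk0 le_rfl)
      · cases hf : (List.range k).find? (fun l => lab l = q) with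
        | none => exact one_mem W
        | some l =>
          have hl := List.mem_range.1 (List.mem_of_find?_eq_some hf)
          have hlq : lab l = q := by simpa using List.find?_some hf
          have hl0 : k₀ ≤ l := by
            by_contra hlt
            have := lab_inj (by omega) hk11 (σ.injective ((hlo l (by omega) (by omega)).trans hlq))
            omega
          exact mul_mem (mul_mem (hmem l hl0 hl.le) (hmem l hl0 hl.le)) (hmem k hk0 le_rfl)
    have hWle : W ≤ AT ext := (Subgroup.closure_le _).2 (by rintro _ ⟨l, hl, rfl⟩; exact (cyc_mem ext l hl.2).1)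
    have hrest : ∀ l, l < 11 → l ≠ k → σ (lab l) = lab l → ((step k q)⁻¹ * σ) (lab l) = lab l := by
      intro l hl hne he
      rw [Perm.mul_apply, he, Perm.inv_eq_iff_eq, hs2 l hl hne fun h => hne (lab_inj hl hk11 (σ.injective (he.trans h)))]
    have hτ := ih (by omega) ((step k q)⁻¹ * σ) (mul_mem (inv_mem (hWle hw)) hσ)
      (fun l hl hl' => hrest l hl' (by omega) (hlo l hl hl'))
      (fun l hl hl' => by
        rcases Nat.eq_or_lt_of_le hl with rfl | hlt
        · rw [Perm.mul_apply, Perm.inv_eq_iff_eq]; exact hs1.symm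
        · exact hrest l hl' (by omega) (hfix l hlt hl'))
    simpa using mul_mem hw hτ

theorem closure_cyc (ext : Bool) : Subgroup.closure (cyc '' Set.Iio (deg ext)) = AT ext := by
  refine le_antisymm ((Subgroup.closure_le _).2 (by rintro _ ⟨l, hl, rfl⟩; exact (cyc_mem ext l hl).1)) fun σ hσ => ?_
  have h := fix_le_closure ext 0 hσ fun l hl => absurd hl (Nat.not_lt_zero l)
  exact Subgroup.closure_mono (Set.image_mono fun x hx => hx.2) h

theorem AK_le_closure (ext : Bool) : AK ext ≤ Subgroup.closure (cyc '' Set.Ico 4 (deg ext)) := fun σ hσ => by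
  have hσ' : σ ∈ AT ext := ⟨hσ.1, fun x hx => hσ.2 x (Finset.mem_union_left _ hx)⟩
  refine fix_le_closure ext 4 hσ' fun l hl hl' => hσ.2 _ (Finset.mem_union_right _ ?_)
  have h := (lab_facts l hl' l hl').2.2.2.2.2 hl
  revert h
  generalize lab l = x
  revert x
  decide +kernel

theorem even_Hb_pair {σ : P13} (hσ : σ ∈ Hb) (h : ∀ x : Fin 13, 2 ≤ x.val → σ x = x) : σ = 1 := by
  have hs := (mem_Hb.1 hσ).1.1
  by_cases h0 : σ 0 = 0
  · ext1 x
    by_cases hx : 2 ≤ x.val
    · simpa using h x hx
    have hx01 : x = 0 ∨ x = 1 := by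
      revert x; decide +kernel
    rcases hx01 with rfl | rfl
    · simpa using h0
    · by_contra hne
      change ¬ σ 1 = 1 at hne
      by_cases h10 : σ 1 = 0
      · exact absurd (σ.injective (h10.trans h0.symm)) (by decide)
      · have : 2 ≤ (σ 1).val := by
          generalize σ 1 = y at hne h10
          revert y; decide +kernel
        exact hne (σ.injective (h _ this))
  · exfalso
    have hlow : ∀ x : Fin 13, ¬ 2 ≤ x.val → ¬ 2 ≤ (σ x).val := fun x hx hy => hx (σ.injective (h _ hy) ▸ hy)
    have h01 : σ 0 = 1 := by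
      have := hlow 0 (by decide)
      generalize σ 0 = y at h0 this
      revert y; decide +kernel
    have h10 : σ 1 = 0 := by
      have h1 := hlow 1 (by decide)
      have hne : σ 1 ≠ 1 := fun he => absurd (σ.injective (he.trans h01.symm)) (by decide)
      generalize σ 1 = y at h1 hne
      revert y; decide +kernel
    have : σ = swap (0 : Fin 13) 1 := by
      ext1 x
      by_cases hx : 2 ≤ x.val
      · rw [h x hx, swap_apply_of_ne_of_ne]
        · rintro rfl; exact absurd hx (by decide)
        · rintro rfl; exact absurd hx (by decide)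
      have hx01 : x = 0 ∨ x = 1 := by
        revert x; decide +kernel
      rcases hx01 with rfl | rfl
      · rw [h01, swap_apply_left]
      · rw [h10, swap_apply_right]
    rw [this, Perm.sign_swap (by decide)] at hs
    exact absurd hs (by decide)

theorem abar_pair : ∀ p, p < 6 → abar ⟨2 * p % 13, Nat.mod_lt _ (by omega)⟩ = ⟨(2 * p + 1) % 13, Nat.mod_lt _ (by omega)⟩ := by
  decide +kernel

/-- The centralizer is generated by the standard elements. -/
theorem Hb_le_closure : Hb ≤ Subgroup.closure (hbGen '' Set.Iio 8) := by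
  set W := Subgroup.closure (hbGen '' Set.Iio 8)
  have hWle : W ≤ Hb := (Subgroup.closure_le _).2 (by rintro _ ⟨l, hl, rfl⟩; exact (hbGen_facts l hl).1)
  suffices h : ∀ n, n ≤ 5 → ∀ σ : P13, σ ∈ Hb → (∀ x : Fin 13, 2 * n + 2 ≤ x.val → σ x = x) → σ ∈ W by
    intro σ hσ
    refine h 5 le_rfl σ hσ fun x hx => ?_
    have : x = 12 := Fin.ext (by have := x.isLt; show x.val = 12; omega)
    subst this
    exact (mem_Hb.1 hσ).1.2
  intro n
  induction n with
  | zero => intro _ σ hσ hfix; rw [even_Hb_pair hσ hfix]; exact one_mem W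
  | succ p ih =>
    intro hp σ hσ hfix
    obtain ⟨a, ha⟩ : ∃ a : Fin 13, a = ⟨2 * (p + 1) % 13, Nat.mod_lt _ (by omega)⟩ := ⟨_, rfl⟩
    have hav : a.val = 2 * (p + 1) := by rw [ha]; exact Nat.mod_eq_of_lt (by omega)
    have hq : (σ a).val < 2 * (p + 1) + 2 := by
      by_contra hge
      have := congrArg Fin.val (σ.injective (hfix (σ a) (by omega)))
      omega
    obtain ⟨hw1, hw2⟩ := hbWord_facts (p + 1) (by omega) (by omega) (σ a) hq
    have hw : hbWord (p + 1) (σ a).val ∈ W := by
      refine list_prod_mem fun x hx => ?_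
      obtain ⟨k, hk, rfl⟩ := List.mem_map.1 hx
      refine Subgroup.subset_closure ⟨k, ?_, rfl⟩
      have hall : ∀ p, p < 6 → ∀ q, q < 12 → ∀ k ∈ (hbWords.getD p []).getD q [], k < 8 := by decide +kernel
      exact hall (p + 1) (by omega) _ (by omega) k hk
    rw [← ha] at hw1
    set w := hbWord (p + 1) (σ a).val
    have hτ : w⁻¹ * σ ∈ W := by
      refine ih (by omega) _ (mul_mem (inv_mem (hWle hw)) hσ) fun x hx => ?_
      have hfa : (w⁻¹ * σ) a = a := by rw [Perm.mul_apply, Perm.inv_eq_iff_eq, hw1]
      by_cases hx2 : 2 * (p + 1) + 2 ≤ x.val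
      · rw [Perm.mul_apply, hfix x hx2, Perm.inv_eq_iff_eq, hw2 x hx2]
      rcases Nat.eq_or_lt_of_le (show a.val ≤ x.val by omega) with he | hlt
      · rw [show x = a from Fin.ext he.symm]; exact hfa
      have hxa : x = abar a := by
        rw [ha, abar_pair (p + 1) (by omega)]
        exact Fin.ext (by show x.val = (2 * (p + 1) + 1) % 13; omega)
      have hc := congrArg (fun z : P13 => z a) (mem_Hb.1 (mul_mem (inv_mem (hWle hw)) hσ)).2
      simp only [Perm.mul_apply] at hc hfa
      rw [hfa] at hc
      rw [hxa, Perm.mul_apply]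
      exact hc
    simpa using mul_mem hw hτ

end Cfsg.Lib.AltTwelveCent
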