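import Mathlib
import Cfsg.Agent.AltTwelveCent.AltGen

/-!
The two alternating groups as groups.
-/

set_option autoImplicit false

namespace Cfsg.Lib.AltTwelveCent

open Equiv

/-- The thirteen-point form of a permutation of twelve points. -/
noncomputable def incl : Perm (Fin 12) →* P13 := Perm.viaEmbeddingHom Fin.castSuccEmb

theorem incl_cast (σ : Perm (Fin 12)) (x : Fin 12) : incl σ x.castSucc = (σ x).castSucc :=
  Perm.viaEmbedding_apply σ Fin.castSuccEmb x

theorem incl_last (σ : Perm (Fin 12)) : incl σ 12 = 12 :=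
  Perm.viaEmbedding_apply_of_notMem σ Fin.castSuccEmb _ (by rintro ⟨x, hx⟩; exact absurd (congrArg Fin.val hx) (Nat.ne_of_lt x.isLt))

theorem incl_injective : Function.Injective incl := Perm.viaEmbeddingHom_injective _

theorem incl_sign (σ : Perm (Fin 12)) : Perm.sign (incl σ) = Perm.sign σ := by
  unfold incl
  rw [Perm.viaEmbeddingHom_apply]
  unfold Perm.viaEmbedding
  convert Perm.sign_extendDomain σ (Equiv.ofInjective _ Fin.castSuccEmb.injective) <;> rfl

theorem exists_incl {τ : P13} (h : τ 12 = 12) : ∃ σ : Perm (Fin 12), incl σ = τ := by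
  have h' : ∀ x : Fin 13, x ≠ 12 → τ x ≠ 12 := fun x hx he => hx (τ.injective (he.trans h.symm))
  have hne : ∀ x : Fin 12, x.castSucc ≠ (12 : Fin 13) := fun x => ne_of_lt (Fin.castSucc_lt_last x)
  refine ⟨Equiv.ofBijective (fun x => (τ x.castSucc).castPred (h' _ (hne x))) ?_, ?_⟩
  · rw [Finite.injective_iff_bijective.symm]
    intro x y hxy
    exact Fin.castSucc_injective _ (τ.injective (Fin.castPred_inj.1 hxy))
  · refine Equiv.ext fun x => ?_
    induction x using Fin.lastCases with
    | last => exact (incl_last _).trans h.symm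
    | cast x => rw [incl_cast]; simp

theorem mem_AT_true {σ : P13} : σ ∈ AT true ↔ σ ∈ alternatingGroup (Fin 13) := by
  simp [AT, mem_fixG, outPts]

/-- The alternating group of degree twelve. -/
noncomputable def equivTwelve : alternatingGroup (Fin 12) ≃* AT false :=
  MulEquiv.ofBijective ((incl.comp (alternatingGroup (Fin 12)).subtype).codRestrict (AT false) fun x =>
    ⟨(incl_sign _).trans (Perm.mem_alternatingGroup.1 x.2), fun y hy => by
      simp [outPts] at hy; subst hy; exact incl_last _⟩)
    ⟨fun x y hxy => Subtype.ext (incl_injective (congrArg Subtype.val hxy)), fun τ => by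
      obtain ⟨σ, hσ⟩ := exists_incl (τ.2.2 12 (by decide))
      exact ⟨⟨σ, Perm.mem_alternatingGroup.2 (by rw [← incl_sign σ, hσ]; exact τ.2.1)⟩, Subtype.ext hσ⟩⟩

/-- The alternating group of degree thirteen. -/
def equivThirteen : alternatingGroup (Fin 13) ≃* AT true :=
  MulEquiv.subgroupCongr (Subgroup.ext fun _ => mem_AT_true.symm)

theorem card_AT (ext : Bool) : 2 * Nat.card (AT ext) = (deg ext + 2).factorial := by
  cases ext
  · rw [← Nat.card_congr equivTwelve.toEquiv, two_mul_nat_card_alternatingGroup, Nat.card_perm, Nat.card_fin]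
    rfl
  · rw [← Nat.card_congr equivThirteen.toEquiv, two_mul_nat_card_alternatingGroup, Nat.card_perm, Nat.card_fin]
    rfl

theorem simple_AT (ext : Bool) : IsSimpleGroup (AT ext) := by
  cases ext
  · have := alternatingGroup.isSimpleGroup (show 5 ≤ Nat.card (Fin 12) by simp)
    exact equivTwelve.symm.isSimpleGroup
  · have := alternatingGroup.isSimpleGroup (show 5 ≤ Nat.card (Fin 13) by simp)
    exact equivThirteen.symm.isSimpleGroup

end Cfsg.Lib.AltTwelveCent
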