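import Mathlib
import Cfsg.Agent.AltTwelveCent.AltIso

/-!
An alternating group inside a group, from the centralizer of an involution and one component which agree.
-/

set_option autoImplicit false

namespace Cfsg.Lib.AltTwelveCent

open Equiv

/-- The centralizer and the component of the first block, agreeing where they meet. -/
structure AltLocal (G : Type*) [Group G] (ext : Bool) where
  f : Hb →* G
  j : AK ext →* G
  agree : ∀ x (h1 : x ∈ Hb) (h2 : x ∈ AK ext), f ⟨x, h1⟩ = j ⟨x, h2⟩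
  comm : ∀ x (h1 : x ∈ Hb), (∀ i : Fin 13, i.val < 4 → x i = i) → ∀ (hB : sB ∈ Hb) (hc : c4 ∈ AK ext),
    Commute (f ⟨x, h1⟩) (f ⟨sB, hB⟩ * j ⟨c4, hc⟩ * f ⟨sB, hB⟩)
  extra : ext = true → ∀ (hB : sB ∈ Hb) (hc : cyc 10 ∈ AK ext), Commute (f ⟨sB, hB⟩) (j ⟨cyc 10, hc⟩)

theorem c4_mem : ∀ ext : Bool, c4 ∈ AK ext := by decide +kernel

theorem Hb_le_AT (ext : Bool) : Hb ≤ AT ext := fun x hx => by
  obtain ⟨⟨hs, h12⟩, -⟩ := mem_Hb.1 hx
  refine ⟨hs, fun y hy => ?_⟩
  cases ext <;> simp [outPts] at hy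
  subst hy; exact h12

theorem stab_facts : ∀ y : Fin 13, abar y = c0 y → y ≠ 12 → y = 0 := by decide +kernel

theorem fix_of_comm_c0 {x : P13} (hx : x ∈ Hb) (hc : x * c0 = c0 * x) : ∀ i : Fin 13, i.val < 4 → x i = i := by
  obtain ⟨⟨-, h12⟩, ha⟩ := mem_Hb.1 hx
  have hA : ∀ i, x (abar i) = abar (x i) := fun i => congrArg (fun z : P13 => z i) ha
  have hC : ∀ i, x (c0 i) = c0 (x i) := fun i => congrArg (fun z : P13 => z i) hc
  have h0 : x 0 = 0 := by
    refine stab_facts (x 0) ?_ fun h => absurd (x.injective (h.trans h12.symm)) (by decide)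
    rw [← hA, ← hC]; exact congrArg x (by decide +kernel)
  have h1 : x 1 = 1 := by
    have := hA 0; rw [h0] at this; simpa [show abar 0 = 1 by decide +kernel] using this
  have h2 : x 2 = 2 := by
    have := hC 1; rw [h1] at this; simpa [show c0 1 = 2 by decide +kernel] using this
  have h3 : x 3 = 3 := by
    have := hA 2; rw [h2] at this; simpa [show abar 2 = 3 by decide +kernel] using this
  intro i hi
  have h : i = 0 ∨ i = 1 ∨ i = 2 ∨ i = 3 := by revert i; decide +kernel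
  rcases h with rfl | rfl | rfl | rfl <;> assumption

theorem hbGen_mem_AK : ∀ ext : Bool, ∀ i, i < 4 → hbGen i ∈ AK ext := by decide +kernel

theorem cyc_conj_cyc : ∀ k, k < 11 → 4 ≤ k → ∀ l, l < 11 → 4 ≤ l → k ≠ l → cyc k * cyc l * (cyc k * cyc l) = 1 :=
  fun k hk _ l hl _ hne => (cyc_rel k hk).2 l hl hne

namespace AltLocal

variable {G : Type*} [Group G] {ext : Bool} (D : AltLocal G ext)

open scoped Classical in
/-- The embedding of the centralizer, as a total map. -/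
noncomputable def fT (x : P13) : G := if h : x ∈ Hb then D.f ⟨x, h⟩ else 1

open scoped Classical in
/-- The embedding of the component, as a total map. -/
noncomputable def jT (x : P13) : G := if h : x ∈ AK ext then D.j ⟨x, h⟩ else 1

theorem fT_eq {x : P13} (h : x ∈ Hb) : D.fT x = D.f ⟨x, h⟩ := dif_pos h
theorem jT_eq {x : P13} (h : x ∈ AK ext) : D.jT x = D.j ⟨x, h⟩ := dif_pos h

theorem fT_mul {x y : P13} (hx : x ∈ Hb) (hy : y ∈ Hb) : D.fT (x * y) = D.fT x * D.fT y := by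
  rw [D.fT_eq hx, D.fT_eq hy, D.fT_eq (mul_mem hx hy), ← map_mul]; rfl

theorem fT_inv {x : P13} (hx : x ∈ Hb) : D.fT x⁻¹ = (D.fT x)⁻¹ := by
  rw [D.fT_eq hx, D.fT_eq (inv_mem hx), ← map_inv]; rfl

theorem jT_mul {x y : P13} (hx : x ∈ AK ext) (hy : y ∈ AK ext) : D.jT (x * y) = D.jT x * D.jT y := by
  rw [D.jT_eq hx, D.jT_eq hy, D.jT_eq (mul_mem hx hy), ← map_mul]; rfl

theorem jT_one : D.jT 1 = 1 := by rw [D.jT_eq (one_mem _)]; exact map_one D.j

theorem agree' {x : P13} (h1 : x ∈ Hb) (h2 : x ∈ AK ext) : D.fT x = D.jT x := by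
  rw [D.fT_eq h1, D.jT_eq h2, D.agree x h1 h2]

theorem fB_sq : D.fT sB * D.fT sB = 1 := by
  rw [← D.fT_mul abar_facts.2.2.2.1 abar_facts.2.2.2.1, abar_facts.2.2.2.2.1, D.fT_eq (one_mem _)]
  exact map_one D.f

theorem fB_inv : (D.fT sB)⁻¹ = D.fT sB := inv_eq_of_mul_eq_one_right D.fB_sq

/-- The element playing the three-cycle on the first three points. -/
noncomputable def r : G := D.fT sB * D.jT c4 * D.fT sB

theorem comm_r {x : P13} (hx : x ∈ Hb) (hc : x * c0 = c0 * x) : Commute (D.fT x) D.r := by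
  unfold r
  rw [D.fT_eq hx, D.fT_eq abar_facts.2.2.2.1, D.jT_eq (c4_mem ext)]
  exact D.comm x hx (fix_of_comm_c0 hx hc) _ _

theorem conj_r_eq {g g' : P13} (hg : g ∈ Hb) (hg' : g' ∈ Hb) (h : g * c0 * g⁻¹ = g' * c0 * g'⁻¹) :
    D.fT g * D.r * (D.fT g)⁻¹ = D.fT g' * D.r * (D.fT g')⁻¹ := by
  have hc : (g'⁻¹ * g) * c0 = c0 * (g'⁻¹ * g) := by
    calc g'⁻¹ * g * c0 = g'⁻¹ * (g * c0 * g⁻¹) * g := by simp [mul_assoc]
      _ = c0 * (g'⁻¹ * g) := by rw [h]; simp [mul_assoc]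
  have h1 := (D.comm_r (mul_mem (inv_mem hg') hg) hc).eq
  rw [D.fT_mul (inv_mem hg') hg, D.fT_inv hg'] at h1
  calc D.fT g * D.r * (D.fT g)⁻¹ = D.fT g' * ((D.fT g')⁻¹ * D.fT g * D.r) * (D.fT g)⁻¹ := by simp [mul_assoc]
    _ = D.fT g' * D.r * (D.fT g')⁻¹ := by rw [h1]; simp [mul_assoc]

theorem r_cube : D.r * D.r * D.r = 1 := by
  have h1 : D.jT c4 * D.jT c4 * D.jT c4 = 1 := by
    rw [← D.jT_mul (c4_mem ext) (c4_mem ext), ← D.jT_mul (mul_mem (c4_mem ext) (c4_mem ext)) (c4_mem ext),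
      show c4 * c4 * c4 = 1 by decide +kernel, D.jT_one]
  calc D.r * D.r * D.r
      = D.fT sB * (D.jT c4 * (D.fT sB * D.fT sB) * D.jT c4 * (D.fT sB * D.fT sB) * D.jT c4) * D.fT sB := by
        simp [r, mul_assoc]
    _ = 1 := by rw [D.fB_sq, mul_one, mul_one, h1, mul_one, D.fB_sq]

/-- The images of the generating cycles. -/
noncomputable def T (k : ℕ) : G := if k < 10 then D.fT (gEl k) * D.r * (D.fT (gEl k))⁻¹ else D.jT (cyc k)

theorem T_low {k : ℕ} (hk : k < 10) : D.T k = D.fT (gEl k) * D.r * (D.fT (gEl k))⁻¹ := if_pos hk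

theorem T_eq_j {k : ℕ} (hk : k < deg ext) (h4 : 4 ≤ k) : D.T k = D.jT (cyc k) := by
  by_cases hk10 : k < 10
  swap
  · exact if_neg hk10
  obtain ⟨hg, hgc, hl⟩ := gEl_facts k hk10
  obtain ⟨hl1, hlfix, hlc⟩ := hl h4
  have hlK : lEl k ∈ AK ext := by
    refine ⟨(mem_Hb.1 hl1).1.1, fun x hx => ?_⟩
    rcases Finset.mem_union.1 hx with hx | hx
    · exact (Hb_le_AT ext hl1).2 x hx
    · exact hlfix x (by simp at hx; rcases hx with rfl | rfl | rfl | rfl <;> decide)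
  have hgl : gEl k * c0 * (gEl k)⁻¹ = (lEl k * sB) * c0 * (lEl k * sB)⁻¹ := by
    rw [hgc, mul_inv_cancel_right, mul_inv_rev, show (sB : P13)⁻¹ = sB from inv_eq_of_mul_eq_one_right abar_facts.2.2.2.2.1]
    calc cyc k = lEl k * c4 * (lEl k)⁻¹ := by rw [hlc, mul_inv_cancel_right]
      _ = _ := by rw [abar_facts.2.2.2.2.2.1]; simp [mul_assoc]
  have hc4K := c4_mem ext
  have hcyK := (cyc_mem ext k hk).2 h4
  rw [D.T_low hk10, D.conj_r_eq hg (mul_mem hl1 abar_facts.2.2.2.1) hgl, D.fT_mul hl1 abar_facts.2.2.2.1,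
    mul_inv_rev, D.fB_inv, D.agree' hl1 hlK]
  calc D.jT (lEl k) * D.fT sB * D.r * (D.fT sB * (D.jT (lEl k))⁻¹)
      = D.jT (lEl k) * ((D.fT sB * D.fT sB) * D.jT c4 * (D.fT sB * D.fT sB)) * (D.jT (lEl k))⁻¹ := by
        simp [r, mul_assoc]
    _ = D.jT (cyc k) := by
        rw [D.fB_sq, one_mul, mul_one, ← D.jT_mul hlK hc4K, hlc, D.jT_mul hcyK hlK, mul_inv_cancel_right]

theorem T_equiv {h : P13} (hh : h ∈ Hb) {k k' : ℕ} (hk : k < 10) (hk' : k' < 10) (he : h * cyc k = cyc k' * h) :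
    D.fT h * D.T k * (D.fT h)⁻¹ = D.T k' := by
  obtain ⟨hg, hgc, -⟩ := gEl_facts k hk
  obtain ⟨hg', hgc', -⟩ := gEl_facts k' hk'
  have h1 : (h * gEl k) * c0 * (h * gEl k)⁻¹ = gEl k' * c0 * (gEl k')⁻¹ := by
    rw [hgc', mul_inv_cancel_right, mul_assoc h, hgc, ← mul_assoc h, he]
    simp [mul_assoc]
  rw [D.T_low hk, D.T_low hk', ← D.conj_r_eq (mul_mem hh hg) hg' h1, D.fT_mul hh hg]
  simp [mul_assoc]

theorem B_conj {k : ℕ} (hk : k < deg ext) (h4 : 4 ≤ k) :
    D.fT sB * D.T k * (D.fT sB)⁻¹ = D.T (if k < 8 then k - 4 else k) := by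
  have hB := abar_facts.2.2.2.1
  have hk11 : k < 11 := lt_of_lt_of_le hk (deg_le ext)
  obtain ⟨-, hmid, hhi⟩ := sB_cyc k hk11
  by_cases hk8 : k < 8
  · rw [if_pos hk8]; exact D.T_equiv hB (by omega) (by omega) (hmid h4 hk8)
  rw [if_neg hk8]
  by_cases hk10 : k < 10
  · exact D.T_equiv hB hk10 hk10 (hhi (by omega))
  have hext : ext = true := by
    cases ext
    · simp [deg] at hk; omega
    · rfl
  have hk' : k = 10 := by omega
  subst hk'
  rw [D.T_eq_j hk h4, D.fT_eq hB, D.jT_eq ((cyc_mem ext 10 hk).2 h4), (D.extra hext hB _).eq, mul_inv_cancel_right]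

theorem pair_high {k l : ℕ} (hk : k < deg ext) (hl : l < deg ext) (hk4 : 4 ≤ k) (hl4 : 4 ≤ l) (hne : k ≠ l) :
    D.T k * D.T l * (D.T k * D.T l) = 1 := by
  have hK := (cyc_mem ext k hk).2 hk4
  have hL := (cyc_mem ext l hl).2 hl4
  rw [D.T_eq_j hk hk4, D.T_eq_j hl hl4, ← D.jT_mul hK hL, ← D.jT_mul (mul_mem hK hL) (mul_mem hK hL),
    cyc_conj_cyc k (lt_of_lt_of_le hk (deg_le ext)) hk4 l (lt_of_lt_of_le hl (deg_le ext)) hl4 hne, D.jT_one]

theorem pair_conj {g a b : G} (h : g * a * g⁻¹ * (g * b * g⁻¹) * (g * a * g⁻¹ * (g * b * g⁻¹)) = 1) :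
    a * b * (a * b) = 1 := by
  have h1 : g * (a * b * (a * b)) * g⁻¹ = 1 := by
    rw [← h]; simp [mul_assoc]
  exact conj_eq_one_iff.1 h1

theorem pair_low {k l : ℕ} (hk : k < 4) (hl : l < deg ext) (hne : k ≠ l) :
    D.T k * D.T l * (D.T k * D.T l) = 1 := by
  have hd : 10 ≤ deg ext := by cases ext <;> decide
  have hB := abar_facts.2.2.2.1
  have hlow : ∀ i, i < 4 → D.fT sB * D.T i * (D.fT sB)⁻¹ = D.T (i + 4) := fun i hi =>
    D.T_equiv hB (by omega) (by omega) ((sB_cyc i (by omega)).1 hi)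
  by_cases hl4 : l < 4
  · refine pair_conj (g := D.fT sB) ?_
    rw [hlow k hk, hlow l hl4]
    exact D.pair_high (by omega) (by omega) (by omega) (by omega) (by omega)
  by_cases hl8 : l < 8
  · obtain ⟨hh, k', hk', hk'4, hek, hrest⟩ := hEl_facts k hk
    obtain ⟨hel, hne'⟩ := hrest l hl8 (by omega)
    refine pair_conj (g := D.fT (hEl k)) ?_
    rw [D.T_equiv hh (by omega) hk' hek, D.T_equiv hh (by omega) (by omega) hel]
    exact D.pair_high (by omega) hl hk'4 (by omega) hne'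
  · refine pair_conj (g := D.fT sB) ?_
    rw [hlow k hk, D.B_conj hl (by omega), if_neg hl8]
    exact D.pair_high (by omega) hl (by omega) (by omega) (by omega)

theorem T_rel : CycRel D.T (deg ext) := by
  refine ⟨fun k hk => ?_, fun k hk l hl hne => ?_⟩
  · by_cases hk10 : k < 10
    · rw [D.T_low hk10]
      calc _ = D.fT (gEl k) * (D.r * D.r * D.r) * (D.fT (gEl k))⁻¹ := by simp [mul_assoc]
        _ = 1 := by rw [D.r_cube]; simp
    · have hK := (cyc_mem ext k hk).2 (by omega)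
      rw [D.T_eq_j hk (by omega), ← D.jT_mul hK hK, ← D.jT_mul (mul_mem hK hK) hK,
        (cyc_rel k (lt_of_lt_of_le hk (deg_le ext))).1, D.jT_one]
  · by_cases hk4 : k < 4
    · exact D.pair_low hk4 hl hne
    by_cases hl4 : l < 4
    · have h := D.pair_low hl4 hk hne.symm
      have h1 : D.T k * D.T l = (D.T l)⁻¹ * (D.T l * D.T k) * D.T l := by simp [mul_assoc]
      rw [h1]
      calc _ = (D.T l)⁻¹ * (D.T l * D.T k * (D.T l * D.T k)) * D.T l := by simp [mul_assoc]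
        _ = 1 := by rw [h]; simp
    · exact D.pair_high hk hl (by omega) (by omega) hne

/-- The alternating group maps into the group, extending both given maps. -/
theorem exists_hom : ∃ ψ : AT ext →* G, (∀ x (h : x ∈ Hb), ψ ⟨x, Hb_le_AT ext h⟩ = D.f ⟨x, h⟩) ∧
    ∀ x (h : x ∈ AK ext), ∃ h' : x ∈ AT ext, ψ ⟨x, h'⟩ = D.j ⟨x, h⟩ := by
  let c : ℕ → AT ext := fun k => if h : k < deg ext then ⟨cyc k, (cyc_mem ext k h).1⟩ else 1
  have hcv : ∀ k, k < deg ext → (c k : P13) = cyc k := fun k hk => by simp only [c, dif_pos hk]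
  have hc : CycRel c (deg ext) := ⟨fun k hk => Subtype.ext (by
      simp only [Subgroup.coe_mul, OneMemClass.coe_one, hcv k hk]
      exact (cyc_rel k (lt_of_lt_of_le hk (deg_le ext))).1),
    fun k hk l hl hne => Subtype.ext (by
      simp only [Subgroup.coe_mul, OneMemClass.coe_one, hcv k hk, hcv l hl]
      exact (cyc_rel k (lt_of_lt_of_le hk (deg_le ext))).2 l (lt_of_lt_of_le hl (deg_le ext)) hne)⟩
  have hgen : Subgroup.closure (c '' Set.Iio (deg ext)) = ⊤ := by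
    refine Subgroup.map_injective (AT ext).subtype_injective ?_
    rw [MonoidHom.map_closure, ← MonoidHom.range_eq_map, Subgroup.range_subtype, ← Set.image_comp,
      Set.image_congr (s := Set.Iio (deg ext)) (f := ⇑(AT ext).subtype ∘ c) (g := cyc) fun k hk => hcv k hk]
    exact closure_cyc ext
  obtain ⟨ψ, hψ⟩ := AltTwelveCent.exists_hom hc D.T_rel hgen (card_AT ext)
  have hψc : ∀ k (hk : k < deg ext), ψ ⟨cyc k, (cyc_mem ext k hk).1⟩ = D.T k := fun k hk => by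
    rw [← hψ k hk]; exact congrArg ψ (Subtype.ext (hcv k hk).symm)
  have hB := abar_facts.2.2.2.1
  have hBT : sB ∈ AT ext := Hb_le_AT ext hB
  have hKT : AK ext ≤ AT ext := fun x hx => ⟨hx.1, fun y hy => hx.2 y (Finset.mem_union_left _ hy)⟩
  -- on the component, with and without the exchange of blocks
  have key : ∀ x, x ∈ AK ext → ∃ (h : x ∈ AT ext) (h' : sB * x * sB ∈ AT ext),
      ψ ⟨x, h⟩ = D.jT x ∧ ψ ⟨sB * x * sB, h'⟩ = D.fT sB * D.jT x * D.fT sB := by
    intro x hx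
    have hcl := AK_le_closure ext hx
    revert hx
    induction hcl using Subgroup.closure_induction with
    | mem y hy =>
      obtain ⟨k, ⟨hk4, hk⟩, rfl⟩ := hy
      intro _
      refine ⟨(cyc_mem ext k hk).1, mul_mem (mul_mem hBT (cyc_mem ext k hk).1) hBT,
        (hψc k hk).trans (D.T_eq_j hk hk4), ?_⟩
      have hk11 : k < 11 := lt_of_lt_of_le hk (deg_le ext)
      have hd : 10 ≤ deg ext := by cases ext <;> decide
      have hm : (if k < 8 then k - 4 else k) < deg ext := by split_ifs <;> omega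
      have he : sB * cyc k * sB = cyc (if k < 8 then k - 4 else k) := by
        obtain ⟨-, hmid, hhi⟩ := sB_cyc k hk11
        split_ifs with h8
        · rw [hmid hk4 h8, mul_assoc, abar_facts.2.2.2.2.1, mul_one]
        · rw [hhi (by omega), mul_assoc, abar_facts.2.2.2.2.1, mul_one]
      calc ψ ⟨sB * cyc k * sB, _⟩ = ψ ⟨_, (cyc_mem ext _ hm).1⟩ := congrArg ψ (Subtype.ext he)
        _ = _ := by rw [hψc _ hm, ← D.B_conj hk hk4, D.T_eq_j hk hk4, D.fB_inv]
    | one =>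
      intro _
      refine ⟨one_mem _, mul_mem (mul_mem hBT (one_mem _)) hBT, ?_, ?_⟩
      · rw [D.jT_one]; exact map_one ψ
      · calc ψ ⟨sB * 1 * sB, _⟩ = ψ 1 := congrArg ψ (Subtype.ext (by simp [abar_facts.2.2.2.2.1]))
          _ = _ := by rw [map_one, D.jT_one, mul_one, D.fB_sq]
    | mul y z hy hz ihy ihz =>
      intro _
      have hcl' : ∀ w ∈ Subgroup.closure (cyc '' Set.Ico 4 (deg ext)), w ∈ AK ext := fun w hw =>
        (Subgroup.closure_le _).2 (by rintro _ ⟨k, hk, rfl⟩; exact (cyc_mem ext k hk.2).2 hk.1) hw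
      obtain ⟨y1, y2, ey1, ey2⟩ := ihy (hcl' y hy)
      obtain ⟨z1, z2, ez1, ez2⟩ := ihz (hcl' z hz)
      refine ⟨mul_mem y1 z1, mul_mem (mul_mem hBT (mul_mem y1 z1)) hBT, ?_, ?_⟩
      · rw [D.jT_mul (hcl' y hy) (hcl' z hz), ← ey1, ← ez1, ← map_mul]; rfl
      · rw [D.jT_mul (hcl' y hy) (hcl' z hz)]
        calc ψ ⟨sB * (y * z) * sB, _⟩ = ψ (⟨_, y2⟩ * ⟨_, z2⟩) := congrArg ψ (Subtype.ext (by
              show sB * (y * z) * sB = sB * y * sB * (sB * z * sB)
              simp [mul_assoc, ← mul_assoc sB sB, abar_facts.2.2.2.2.1]))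
          _ = _ := by rw [map_mul, ey2, ez2]; simp [mul_assoc, ← mul_assoc (D.fT sB) (D.fT sB), D.fB_sq]
    | inv y hy ih =>
      intro _
      have hyK : y ∈ AK ext :=
        (Subgroup.closure_le _).2 (by rintro _ ⟨k, hk, rfl⟩; exact (cyc_mem ext k hk.2).2 hk.1) hy
      obtain ⟨y1, y2, ey1, ey2⟩ := ih hyK
      have hji : D.jT y⁻¹ = (D.jT y)⁻¹ := by
        rw [D.jT_eq hyK, D.jT_eq (inv_mem hyK), ← map_inv]; rfl
      refine ⟨inv_mem y1, mul_mem (mul_mem hBT (inv_mem y1)) hBT, ?_, ?_⟩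
      · rw [hji, ← ey1, ← map_inv]; rfl
      · calc ψ ⟨sB * y⁻¹ * sB, _⟩ = ψ (⟨_, y2⟩ : AT ext)⁻¹ := congrArg ψ (Subtype.ext (by
              show sB * y⁻¹ * sB = (sB * y * sB)⁻¹
              rw [mul_inv_rev, mul_inv_rev, show (sB : P13)⁻¹ = sB from inv_eq_of_mul_eq_one_right abar_facts.2.2.2.2.1]
              simp [mul_assoc]))
          _ = _ := by rw [map_inv, ey2, hji, mul_inv_rev, mul_inv_rev, D.fB_inv]; simp [mul_assoc]
  refine ⟨ψ, fun x hx => ?_, fun x hx => ?_⟩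
  · have hcl := Hb_le_closure hx
    revert hx
    induction hcl using Subgroup.closure_induction with
    | mem y hy =>
      obtain ⟨k, hk, rfl⟩ := hy
      intro hx
      have hK := hbGen_mem_AK ext
      rw [← D.fT_eq hx]
      by_cases hk4 : k < 4
      · obtain ⟨h, -, e, -⟩ := key _ (hK k hk4)
        rw [D.agree' hx (hK k hk4)]; exact e
      · obtain ⟨-, h', -, e⟩ := key _ (hK (k - 4) (by simp at hk; omega))
        have hg := (hbGen_facts k hk).2.2 (by omega)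
        have hgH := (hbGen_facts (k - 4) (by simp at hk; omega)).1
        calc ψ ⟨hbGen k, _⟩ = ψ ⟨_, h'⟩ := congrArg ψ (Subtype.ext hg)
          _ = _ := by
            rw [e, hg, D.fT_mul (mul_mem hB hgH) hB, D.fT_mul hB hgH, D.agree' hgH (hK (k - 4) (by simp at hk; omega))]
    | one => intro hx; exact (map_one ψ).trans (map_one D.f).symm
    | mul y z hy hz ihy ihz =>
      intro hx
      have hcl' : Subgroup.closure (hbGen '' Set.Iio 8) ≤ Hb :=
        (Subgroup.closure_le _).2 (by rintro _ ⟨k, hk, rfl⟩; exact (hbGen_facts k hk).1)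
      exact ((congrArg ψ (Subtype.ext rfl)).trans (map_mul ψ ⟨y, Hb_le_AT ext (hcl' hy)⟩ ⟨z, Hb_le_AT ext (hcl' hz)⟩)).trans
        (by rw [ihy (hcl' hy), ihz (hcl' hz), ← map_mul])
    | inv y hy ih =>
      intro hx
      have hyH : y ∈ Hb := by simpa using inv_mem hx
      exact ((congrArg ψ (Subtype.ext rfl)).trans (map_inv ψ ⟨y, Hb_le_AT ext hyH⟩)).trans
        (by rw [ih hyH, ← map_inv])
  · obtain ⟨h, -, e, -⟩ := key x hx
    exact ⟨h, by rw [e, D.jT_eq hx]⟩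

end AltLocal

end Cfsg.Lib.AltTwelveCent
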