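import Mathlib
import Cfsg.Agent.AltTwelveType.Setting

/-!
The subgroup of the model fixing the first block: the centralizer in the alternating group of degree eight of a
fixed-point-free involution, by the permutations of its four pairs and its flips.
-/

set_option autoImplicit false
set_option maxRecDepth 100000
set_option maxHeartbeats 1000000

namespace Cfsg.Lib.AltTwelveCent

open Equiv Cfsg.Lib.AltTwelveType

/-- The permutations of the four pairs. -/
def pTab : List (List ℕ) :=
  [[0, 1, 2, 3], [0, 1, 3, 2], [0, 2, 1, 3], [0, 2, 3, 1], [0, 3, 1, 2], [0, 3, 2, 1], [1, 0, 2, 3], [1, 0, 3, 2],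
   [1, 2, 0, 3], [1, 2, 3, 0], [1, 3, 0, 2], [1, 3, 2, 0], [2, 0, 1, 3], [2, 0, 3, 1], [2, 1, 0, 3], [2, 1, 3, 0],
   [2, 3, 0, 1], [2, 3, 1, 0], [3, 0, 1, 2], [3, 0, 2, 1], [3, 1, 0, 2], [3, 1, 2, 0], [3, 2, 0, 1], [3, 2, 1, 0]]
/-- Their inverses. -/
def pInvTab : List ℕ := [0, 1, 2, 4, 3, 5, 6, 7, 12, 18, 13, 19, 8, 10, 14, 20, 16, 22, 9, 11, 15, 21, 17, 23]
/-- Words for them in the exchanges of adjacent pairs. -/
def pWord : List (List ℕ) :=
  [[], [2], [1], [1, 2], [2, 1], [1, 2, 1], [0], [0, 2], [0, 1], [0, 1, 2], [0, 2, 1], [0, 1, 2, 1], [1, 0], [1, 0, 2],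
   [0, 1, 0], [0, 1, 0, 2], [1, 0, 2, 1], [0, 1, 0, 2, 1], [2, 1, 0], [1, 2, 1, 0], [0, 2, 1, 0], [0, 1, 2, 1, 0],
   [1, 0, 2, 1, 0], [0, 1, 0, 2, 1, 0]]

/-- The image of a pair. -/
def pVal (p : Fin 24) (k : ℕ) : ℕ := (pTab.getD p.val []).getD k 0

/-- The map with given permutation of pairs and flips. -/
def lFun (p : Fin 24) (f : Fin 16) (x : Fin 12) : Fin 12 :=
  if x.val < 4 then x else
    ⟨(4 + 2 * pVal p ((x.val - 4) / 2) + (x.val + if f.val.testBit (pVal p ((x.val - 4) / 2)) then 1 else 0) % 2) % 12,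
      Nat.mod_lt _ (by norm_num)⟩

/-- The inverse permutation of pairs. -/
def pInv (p : Fin 24) : Fin 24 := ⟨pInvTab.getD p.val 0 % 24, Nat.mod_lt _ (by norm_num)⟩
/-- The flips of the inverse. -/
def fInv (p : Fin 24) (f : Fin 16) : Fin 16 :=
  ⟨((List.range 4).map fun i => if f.val.testBit (pVal p i) then 2 ^ i else 0).sum % 16, Nat.mod_lt _ (by norm_num)⟩

theorem lFun_inv : ∀ p : Fin 24, ∀ f : Fin 16, ∀ x : Fin 12,
    lFun p f (lFun (pInv p) (fInv p f) x) = x ∧ lFun (pInv p) (fInv p f) (lFun p f x) = x := by decide +kernel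

/-- The permutation with given permutation of pairs and flips. -/
def lPerm (p : Fin 24) (f : Fin 16) : Perm (Fin 12) :=
  ⟨lFun p f, lFun (pInv p) (fInv p f), fun x => (lFun_inv p f x).2, fun x => (lFun_inv p f x).1⟩

/-- Even flip vectors. -/
def evenF (f : Fin 16) : Bool := [0, 3, 5, 6, 9, 10, 12, 15].contains f.val

theorem lPerm_sign : ∀ p : Fin 24, ∀ f : Fin 16, Perm.sign (lPerm p f) = if evenF f then 1 else -1 := by decide +kernel

theorem lPerm_comm : ∀ p : Fin 24, ∀ f : Fin 16, ∀ x : Fin 12, lFun p f (αp x) = αp (lFun p f x) := by decide +kernel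

/-- An element of the model fixing the first block. -/
def lq (p : Fin 24) (f : Fin 16) : Mh :=
  if h : evenF f = true then ⟨lPerm p f, mem_of (by rw [lPerm_sign, if_pos h]) (lPerm_comm p f)⟩ else 1

theorem lq_val {p : Fin 24} {f : Fin 16} (h : evenF f = true) : (lq p f).1 = lPerm p f := by
  simp only [lq, dif_pos h]

theorem lq_val_apply {p : Fin 24} {f : Fin 16} (h : evenF f = true) (x : Fin 12) : (lq p f).1 x = lFun p f x := by
  rw [lq_val h]; rfl

/-- The elements of the model fixing the first block. -/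
def Lb : Subgroup Mh where
  carrier := {m | ∀ x : Fin 12, x.val < 4 → m.1 x = x}
  one_mem' := fun _ _ => rfl
  mul_mem' := fun {a b} ha hb x hx => by
    show a.1 (b.1 x) = x
    rw [hb x hx, ha x hx]
  inv_mem' := fun {a} ha x hx => by
    show a.1⁻¹ x = x
    rw [Perm.inv_eq_iff_eq, ha x hx]

theorem mem_Lb {m : Mh} : m ∈ Lb ↔ ∀ x : Fin 12, x.val < 4 → m.1 x = x := Iff.rfl

theorem lq_mem (p : Fin 24) (f : Fin 16) : lq p f ∈ Lb := by
  by_cases h : evenF f = true
  · intro x hx
    rw [lq_val_apply h]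
    simp [lFun, hx]
  · rw [show lq p f = 1 by simp only [lq, dif_neg h]]
    exact one_mem Lb

theorem comm_αp (m : Mh) (x : Fin 12) : m.1 (αp x) = αp (m.1 x) :=
  Equiv.congr_fun (Subgroup.mem_centralizer_singleton_iff.1 m.2.2) x

theorem pair_table : ∀ a : Fin 4 → Fin 4, Function.Injective a → ∃ p : Fin 24, ∀ k : Fin 4, pVal p k.val = (a k).val := by
  decide +kernel

theorem flip_table : ∀ p : Fin 24, ∀ e : Fin 4 → Bool, ∃ f : Fin 16, ∀ k : Fin 4, f.val.testBit (pVal p k.val) = e k := by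
  decide +kernel

theorem αp_pair : ∀ x : Fin 12, (αp x).val / 2 = x.val / 2 ∧ (αp x).val % 2 = (x.val + 1) % 2 ∧
    ((αp x).val < 4 ↔ x.val < 4) := by
  decide +kernel

theorem αp_even : ∀ x : Fin 12, x.val % 2 = 1 → ∃ y : Fin 12, y.val % 2 = 0 ∧ αp y = x := by decide +kernel

/-- Every element fixing the first block has such coordinates. -/
theorem lb_coord {m : Mh} (hm : m ∈ Lb) : ∃ p : Fin 24, ∃ f : Fin 16, evenF f = true ∧ m = lq p f := by
  have hge : ∀ x : Fin 12, 4 ≤ x.val → 4 ≤ (m.1 x).val := fun x hx => by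
    by_contra hlt
    have := congrArg Fin.val (m.1.injective (hm (m.1 x) (by omega)))
    omega
  let pt : Fin 4 → Fin 12 := fun k => ⟨4 + 2 * k.val, by omega⟩
  let a : Fin 4 → Fin 4 := fun k => ⟨((m.1 (pt k)).val - 4) / 2, by have := (m.1 (pt k)).isLt; omega⟩
  have ha : Function.Injective a := fun k l h => by
    have h' := congrArg Fin.val h
    simp only [a] at h'
    have hk := hge (pt k) (by simp only [pt]; omega)
    have hl := hge (pt l) (by simp only [pt]; omega)
    by_cases hpar : (m.1 (pt k)).val % 2 = (m.1 (pt l)).val % 2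
    · have := congrArg Fin.val (m.1.injective (Fin.ext (show (m.1 (pt k)).val = (m.1 (pt l)).val by omega)))
      simp only [pt] at this
      exact Fin.ext (by omega)
    · exfalso
      obtain ⟨h1, h2, -⟩ := αp_pair (m.1 (pt l))
      have he : m.1 (pt k) = m.1 (αp (pt l)) := by rw [comm_αp]; exact Fin.ext (by omega)
      have := congrArg Fin.val (m.1.injective he)
      obtain ⟨-, h3, -⟩ := αp_pair (pt l)
      have hkv : (pt k).val % 2 = 0 := by simp only [pt]; omega
      have hlv : (pt l).val % 2 = 0 := by simp only [pt]; omega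
      omega
  obtain ⟨p, hp⟩ := pair_table a ha
  obtain ⟨f, hf⟩ := flip_table p fun k => decide ((m.1 (pt k)).val % 2 = 1)
  have heq : ∀ x, m.1 x = lFun p f x := by
    have hev : ∀ k : Fin 4, m.1 (pt k) = lFun p f (pt k) := fun k => by
      apply Fin.ext
      have h0 : ¬ (pt k).val < 4 := by simp only [pt]; omega
      have h1 : ((pt k).val - 4) / 2 = k.val := by simp only [pt]; omega
      have h2 : (pt k).val % 2 = 0 := by simp only [pt]; omega
      have hk := hge (pt k) (by omega)
      have hak : (a k).val = ((m.1 (pt k)).val - 4) / 2 := rfl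
      have := (m.1 (pt k)).isLt
      simp only [lFun, if_neg h0, h1, hp k]
      have hfk := hf k
      rw [hp k] at hfk
      rw [hfk]
      by_cases hd : (m.1 (pt k)).val % 2 = 1 <;> simp [hd] <;> omega
    intro x
    by_cases hx : x.val < 4
    · rw [hm x hx]; simp [lFun, hx]
    by_cases hpar : x.val % 2 = 0
    · have hxe : pt ⟨(x.val - 4) / 2, by omega⟩ = x := Fin.ext (by simp only [pt]; omega)
      rw [← hxe]; exact hev _
    · obtain ⟨y, hy, rfl⟩ := αp_even x (by omega)
      have hy4 : ¬ y.val < 4 := fun h => hx ((αp_pair y).2.2.2 h)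
      have hye : pt ⟨(y.val - 4) / 2, by omega⟩ = y := Fin.ext (by simp only [pt]; omega)
      rw [comm_αp, lPerm_comm, ← hye, hev]
  have hperm : m.1 = lPerm p f := Equiv.ext heq
  have hev : evenF f = true := by
    by_contra h
    have hs := Equiv.Perm.mem_alternatingGroup.1 m.2.1
    rw [hperm, lPerm_sign, if_neg h] at hs
    exact absurd hs (by decide)
  exact ⟨p, f, hev, Subtype.ext (hperm.trans (lq_val hev).symm)⟩

/-- The exchange of two adjacent pairs. -/
def lswap (i : ℕ) : Mh := lq (([6, 2, 1] : List (Fin 24)).getD i 0) 0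

/-- The flips as products of conjugates of the elementary generators. -/
def flipWord (f : Fin 16) : List Mh :=
  let A := pa 4; let C := pa 16; let B := lq 8 0 * pa 4 * (lq 8 0)⁻¹
  match f.val with
  | 3 => [A] | 5 => [A, B] | 6 => [B] | 9 => [A, B, C] | 10 => [B, C] | 12 => [C] | 15 => [A, C] | _ => []

theorem lswap_facts : (lswap 0).1 = (pa 8).1 ∧ (lswap 2).1 = (pa 32).1 ∧
    (lswap 1).1 = (lq 8 0 * pa 8 * (lq 8 0)⁻¹).1 := by decide +kernel

theorem word_facts : ∀ p : Fin 24, ∀ f : Fin 16, evenF f = true → ∀ x : Fin 12,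
    lFun p f x = ((flipWord f).prod * ((pWord.getD p.val []).map lswap).prod).1 x := by decide +kernel

theorem pWord_lt : ∀ p : Fin 24, ∀ i ∈ pWord.getD p.val [], i < 3 := by decide +kernel

/-- A subgroup invariant under the elements fixing the first block and containing the two elementary blocks holds
all of them. -/
theorem Lb_le_of {K : Subgroup Mh} (hconj : ∀ g ∈ Lb, ∀ k ∈ K, g * k * g⁻¹ ∈ K)
    (hK : pa 4 ∈ K ∧ pa 8 ∈ K ∧ pa 16 ∈ K ∧ pa 32 ∈ K) : Lb ≤ K := by
  obtain ⟨h4, h8, h16, h32⟩ := hK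
  have hg := lq_mem 8 0
  intro m hm
  obtain ⟨p, f, hf, rfl⟩ := lb_coord hm
  have he : lq p f = (flipWord f).prod * ((pWord.getD p.val []).map lswap).prod :=
    Subtype.ext (Equiv.ext fun x => (lq_val_apply hf x).trans (word_facts p f hf x))
  rw [he]
  refine mul_mem (list_prod_mem fun x hx => ?_) (list_prod_mem fun x hx => ?_)
  · have hB := hconj _ hg _ h4
    unfold flipWord at hx
    split at hx <;> simp at hx <;> rcases hx with rfl | rfl | rfl <;> assumption
  · obtain ⟨i, hi, rfl⟩ := List.mem_map.1 hx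
    obtain ⟨e0, e2, e1⟩ := lswap_facts
    have hi3 : i = 0 ∨ i = 1 ∨ i = 2 := by have := pWord_lt p i hi; omega
    rcases hi3 with rfl | rfl | rfl
    · rw [Subtype.ext e0]; exact h8
    · rw [Subtype.ext e1]; exact hconj _ hg _ h8
    · rw [Subtype.ext e2]; exact h32

end Cfsg.Lib.AltTwelveCent
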