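import Mathlib
import Cfsg.Prelude.Def_Solvable
import Cfsg.Agent.AltTwelveCent.AltLb
import Cfsg.Agent.Components.Cores
import Cfsg.Agent.Components.PComponents
import Cfsg.Agent.LargeExtra.Coprime
import Cfsg.Agent.S3344

/-!
The structure of the centralizer model fixing the first block, and the groups having it as centralizer of an
involution.
-/

set_option autoImplicit false
set_option maxRecDepth 100000
set_option maxHeartbeats 1000000
set_option linter.style.haveILetI false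

namespace Cfsg.Lib.AltTwelveCent

open Equiv Cfsg.Lib.AltTwelveType

/-- The partner of the first pair in the image of a splitting into two couples. -/
def splitImg (p : Fin 24) (i : Fin 3) : Fin 3 :=
  let a := pVal p 0
  let b := pVal p (i.val + 1)
  ⟨((if a = 0 then b else if b = 0 then a else 6 - a - b) - 1) % 3, Nat.mod_lt _ (by norm_num)⟩

theorem split_inv : ∀ p : Fin 24, ∀ i : Fin 3,
    splitImg (pInv p) (splitImg p i) = i ∧ splitImg p (splitImg (pInv p) i) = i := by decide +kernel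

/-- The action on the three splittings. -/
def splitPerm (p : Fin 24) : Perm (Fin 3) :=
  ⟨splitImg p, splitImg (pInv p), fun i => (split_inv p i).1, fun i => (split_inv p i).2⟩

/-- The pair read off an element. -/
def pairOf (m : Mh) (k : Fin 4) : ℕ := ((m.1 ⟨4 + 2 * k.val, by omega⟩).val - 4) / 2

/-- The index of a permutation of pairs. -/
def idxOf (a : Fin 4 → ℕ) : Fin 24 :=
  ((List.finRange 24).find? fun p => decide (∀ k : Fin 4, pVal p k.val = a k)).getD 0

theorem pairOf_lq : ∀ p : Fin 24, ∀ f : Fin 16, evenF f = true → ∀ k : Fin 4,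
    ((lFun p f ⟨4 + 2 * k.val, by omega⟩).val - 4) / 2 = pVal p k.val ∧ pVal p k.val < 4 := by decide +kernel

theorem idxOf_pVal : ∀ p : Fin 24, idxOf (fun k => pVal p k.val) = p := by decide +kernel

theorem split_comp : ∀ p q : Fin 24,
    splitPerm (idxOf fun k => pVal p (pVal q k.val)) = splitPerm p * splitPerm q := by decide +kernel

theorem pairOf_eq {p : Fin 24} {f : Fin 16} (hf : evenF f = true) : pairOf (lq p f) = fun k => pVal p k.val :=
  funext fun k => by
    unfold pairOf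
    rw [lq_val_apply hf]
    exact (pairOf_lq p f hf k).1

theorem pair_apply : ∀ p : Fin 24, ∀ f : Fin 16, ∀ x : Fin 12, 4 ≤ x.val →
    ((lFun p f x).val - 4) / 2 = pVal p ((x.val - 4) / 2) ∧ 4 ≤ (lFun p f x).val := by decide +kernel

theorem pairOf_mul {p q : Fin 24} {f g : Fin 16} (hf : evenF f = true) (hg : evenF g = true) :
    pairOf (lq p f * lq q g) = fun k => pVal p (pVal q k.val) := funext fun k => by
  show (((lq p f).1 ((lq q g).1 ⟨4 + 2 * k.val, _⟩)).val - 4) / 2 = _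
  rw [lq_val_apply hf, lq_val_apply hg]
  obtain ⟨h1, h2⟩ := pair_apply q g ⟨4 + 2 * k.val, by omega⟩ (by show 4 ≤ 4 + 2 * k.val; omega)
  rw [(pair_apply p f _ h2).1, h1]
  congr 2
  show (4 + 2 * k.val - 4) / 2 = k.val
  omega

/-- The action of the first block's stabiliser on the splittings of the other pairs. -/
def splitHom : Lb →* Perm (Fin 3) :=
  MonoidHom.mk' (fun m => splitPerm (idxOf (pairOf m.1))) fun a b => by
    obtain ⟨p, f, hf, ha⟩ := lb_coord a.2
    obtain ⟨q, g, hg, hb⟩ := lb_coord b.2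
    show splitPerm (idxOf (pairOf (a.1 * b.1))) = _
    rw [ha, hb, pairOf_mul hf hg, split_comp, pairOf_eq hf, pairOf_eq hg, idxOf_pVal, idxOf_pVal]

theorem splitHom_lq {p : Fin 24} {f : Fin 16} (hf : evenF f = true) :
    splitHom ⟨lq p f, lq_mem p f⟩ = splitPerm p := by
  show splitPerm (idxOf (pairOf (lq p f))) = _
  rw [pairOf_eq hf, idxOf_pVal]

/-- The permutations of pairs fixing all splittings. -/
def qP (i : Fin 4) : Fin 24 := ([0, 7, 16, 23] : List (Fin 24)).getD i.val 0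
/-- The even flip vectors in order. -/
def qF (i : Fin 8) : Fin 16 := ([0, 3, 5, 6, 9, 10, 12, 15] : List (Fin 16)).getD i.val 0
/-- The two-core in coordinates. -/
def qEl (x : Fin 4 × Fin 8) : Mh := lq (qP x.1) (qF x.2)
/-- The central involution of the component. -/
def sL : Mh := pa 20

theorem qF_even : ∀ i : Fin 8, evenF (qF i) = true := by decide +kernel

theorem ker_table : ∀ p : Fin 24, ∀ f : Fin 16, evenF f = true → splitPerm p = 1 →
    ∃ x : Fin 4 × Fin 8, qP x.1 = p ∧ qF x.2 = f := by decide +kernel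

theorem qP_split : ∀ i : Fin 4, splitPerm (qP i) = 1 := by decide +kernel

theorem split_onto : ∀ σ : Perm (Fin 3), ∃ p : Fin 24, splitPerm p = σ := by decide +kernel

theorem qEl_val : ∀ x : Fin 4 × Fin 8, (qEl x).1 = lPerm (qP x.1) (qF x.2) := fun x => lq_val (qF_even x.2)

theorem qEl_facts :
    (∀ x y : Fin 4 × Fin 8, lPerm (qP x.1) (qF x.2) = lPerm (qP y.1) (qF y.2) → x = y) ∧
    lPerm (qP 0) (qF 7) = (sL : Mh).1 ∧
    (∀ x y : Fin 4 × Fin 8, let a := lPerm (qP x.1) (qF x.2); let b := lPerm (qP y.1) (qF y.2);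
      a * b = b * a ∨ a * b = sL.1 * (b * a)) ∧
    (∀ x : Fin 4 × Fin 8, let a := lPerm (qP x.1) (qF x.2); a * a = 1 ∨ a * a = sL.1) ∧
    (∀ x : Fin 4 × Fin 8, (∀ y : Fin 4 × Fin 8,
      lPerm (qP x.1) (qF x.2) * lPerm (qP y.1) (qF y.2) = lPerm (qP y.1) (qF y.2) * lPerm (qP x.1) (qF x.2)) →
      x = (0, 0) ∨ x = (0, 7)) ∧
    lPerm (qP 0) (qF 0) = 1 := by decide +kernel

theorem free_table : ∀ p : Fin 24, ∀ f : Fin 16, evenF f = true → splitPerm p * splitPerm p ≠ 1 →
    ∀ x : Fin 4 × Fin 8, (∀ y : Fin 12, lFun p f (lFun (qP x.1) (qF x.2) y) = lFun (qP x.1) (qF x.2) (lFun p f y)) →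
      x = (0, 0) ∨ x = (0, 7) := by decide +kernel

theorem no_involution_perm : ∀ y : Perm (Fin 3), y * y = 1 → y ≠ 1 → ∃ g : Perm (Fin 3),
    (g * y * g⁻¹ * y) * (g * y * g⁻¹ * y) * (g * y * g⁻¹ * y) = 1 ∧ g * y * g⁻¹ * y ≠ 1 := by decide +kernel

theorem sL_mem : sL ∈ Lb := by
  rw [mem_Lb]
  decide +kernel

theorem sL_facts : sL * sL = 1 ∧ sL ≠ 1 :=
  ⟨pa_sq 20, fun h => absurd (pa_inj (h.trans pa_zero.symm)) (by decide)⟩

theorem mem_ker_iff {m : Lb} : m ∈ splitHom.ker ↔ ∃ x, (m : Mh) = qEl x := by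
  obtain ⟨p, f, hf, hm⟩ := lb_coord m.2
  have hmv : splitHom m = splitPerm p := by
    rw [show m = ⟨lq p f, lq_mem p f⟩ from Subtype.ext hm]; exact splitHom_lq hf
  constructor
  · intro h
    rw [MonoidHom.mem_ker, hmv] at h
    obtain ⟨x, h1, h2⟩ := ker_table p f hf h
    exact ⟨x, by rw [hm, qEl, h1, h2]⟩
  · rintro ⟨x, hx⟩
    rw [MonoidHom.mem_ker, show m = ⟨lq (qP x.1) (qF x.2), lq_mem _ _⟩ from Subtype.ext hx, splitHom_lq (qF_even _)]
    exact qP_split _

theorem sL_eq : sL = qEl (0, 7) := Subtype.ext (qEl_facts.2.1.symm.trans (qEl_val (0, 7)).symm)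

theorem card_ker : Nat.card splitHom.ker = 32 := by
  let f : Fin 4 × Fin 8 → splitHom.ker := fun x =>
    ⟨⟨qEl x, lq_mem _ _⟩, mem_ker_iff.2 ⟨x, rfl⟩⟩
  have hf : Function.Bijective f := ⟨fun x y h => qEl_facts.1 x y (by
      rw [← qEl_val, ← qEl_val]; exact congrArg (fun z : splitHom.ker => (z.1.1).1) h),
    fun m => by
      obtain ⟨x, hx⟩ := mem_ker_iff.1 m.2
      exact ⟨x, Subtype.ext (Subtype.ext hx.symm)⟩⟩
  rw [← Nat.card_congr (Equiv.ofBijective f hf), Nat.card_prod, Nat.card_fin, Nat.card_fin]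

theorem splitHom_surjective : Function.Surjective splitHom := fun σ => by
  obtain ⟨p, hp⟩ := split_onto σ
  exact ⟨⟨lq p 0, lq_mem p 0⟩, by rw [splitHom_lq (by decide), hp]⟩

theorem pCore_Lb : Cfsg.pCore 2 Lb = splitHom.ker := by
  haveI : Fact (Nat.Prime 2) := ⟨Nat.prime_two⟩
  refine le_antisymm (fun m hm => ?_) (Cfsg.Lib.Components.le_pCore (IsPGroup.of_card (n := 5) (by rw [card_ker]; norm_num)))
  by_contra hne
  rw [MonoidHom.mem_ker] at hne
  have hP : IsPGroup 2 ((Cfsg.pCore 2 Lb).map splitHom) := (Cfsg.Lib.Components.isPGroup_pCore 2).map _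
  haveI : ((Cfsg.pCore 2 Lb).map splitHom).Normal := Subgroup.Normal.map inferInstance _ splitHom_surjective
  set P := (Cfsg.pCore 2 Lb).map splitHom
  have hy : splitHom m ∈ P := ⟨m, hm, rfl⟩
  set y := splitHom m
  have hy2 : y * y = 1 := by
    obtain ⟨k, hk⟩ := hP ⟨y, hy⟩
    have h1 : y ^ 2 ^ k = 1 := congrArg Subtype.val hk
    have key : ∀ y : Perm (Fin 3), y * y = 1 ∨ (y ^ 3 = 1) := by decide +kernel
    refine (key y).resolve_right fun h3 => hne ?_
    have h := Nat.Coprime.pow_left k (show Nat.Coprime 2 3 by norm_num)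
    exact (pow_eq_one_iff_of_coprime h).1 ⟨h1, h3⟩
  obtain ⟨g, h3, hne1⟩ := no_involution_perm y hy2 hne
  have hmem : g * y * g⁻¹ * y ∈ P := mul_mem (Subgroup.Normal.conj_mem inferInstance y hy g) hy
  obtain ⟨k, hk⟩ := hP ⟨_, hmem⟩
  have h1 : (g * y * g⁻¹ * y) ^ 2 ^ k = 1 := congrArg Subtype.val hk
  refine hne1 ((pow_eq_one_iff_of_coprime (Nat.Coprime.pow_left k (show Nat.Coprime 2 3 by norm_num))).1 ⟨h1, ?_⟩)
  rw [pow_succ, pow_two]; exact h3

/-- A group with this centralizer of an involution. -/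
theorem classify {T : Type*} [Group T] [Finite T] (ψ : Lb →* T) (hinj : Function.Injective ψ)
    (hrange : ψ.range = Subgroup.centralizer {ψ ⟨sL, sL_mem⟩})
    (hnwc : ∃ g : T, ∃ x, x ≠ (0, 7) ∧ g * ψ ⟨sL, sL_mem⟩ * g⁻¹ = ψ ⟨qEl x, lq_mem _ _⟩) :
    (∃ (N : Subgroup T) (hN : N.Normal), IsMulCommutative N ∧ (∀ n ∈ N, n ^ 2 = 1) ∧ Nat.card N = 8 ∧
        Nonempty (T ⧸ N ≃* Matrix.ProjectiveSpecialLinearGroup (Fin 3) (ZMod 2))) ∨
    Nonempty (T ≃* alternatingGroup (Fin 8)) ∨ Nonempty (T ≃* alternatingGroup (Fin 9)) ∨ Cfsg.Spor.IsoM12 T := by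
  haveI : Fact (Nat.Prime 2) := ⟨Nat.prime_two⟩
  haveI : Fact (Nat.Prime 3) := ⟨Nat.prime_three⟩
  set s := ψ ⟨sL, sL_mem⟩ with hs
  set L := Subgroup.centralizer ({s} : Set T) with hL
  let E : Lb ≃* L := (MonoidHom.ofInjective hinj).trans (MulEquiv.subgroupCongr hrange)
  have hE : ∀ m, (E m : T) = ψ m := fun m => rfl
  have hcore : Cfsg.pCore 2 L = splitHom.ker.map E.toMonoidHom := by
    rw [← Cfsg.Lib.Components.pCore_map_equiv (p := 2) E, pCore_Lb]
  set Q := (Cfsg.pCore 2 L).map L.subtype with hQ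
  have hQm : ∀ {y : T}, y ∈ Q ↔ ∃ x, ψ ⟨qEl x, lq_mem _ _⟩ = y := fun {y} => by
    rw [hQ, hcore, Subgroup.map_map]
    constructor
    · rintro ⟨m, hm, rfl⟩
      obtain ⟨x, hx⟩ := mem_ker_iff.1 hm
      exact ⟨x, by rw [← hE]; exact congrArg (fun z => (E z : T)) (Subtype.ext hx.symm)⟩
    · rintro ⟨x, rfl⟩
      exact ⟨⟨qEl x, lq_mem _ _⟩, mem_ker_iff.2 ⟨x, rfl⟩, hE _⟩
  have hQcard : Nat.card Q = 32 := by
    rw [hQ, Subgroup.card_map_of_injective L.subtype_injective, hcore,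
      Subgroup.card_map_of_injective E.injective, card_ker]
  have hs2 : orderOf s = 2 := orderOf_eq_prime (by rw [pow_two, hs, ← map_mul,
      show (⟨sL, sL_mem⟩ : Lb) * ⟨sL, sL_mem⟩ = 1 from Subtype.ext sL_facts.1, map_one])
    (fun h => sL_facts.2 (congrArg Subtype.val (hinj (h.trans (map_one ψ).symm))))
  have hval : ∀ x y : Fin 4 × Fin 8, ∀ e : Lb, (e : Mh).1 = lPerm (qP x.1) (qF x.2) * lPerm (qP y.1) (qF y.2) →
      ψ e = ψ ⟨qEl x, lq_mem _ _⟩ * ψ ⟨qEl y, lq_mem _ _⟩ := fun x y e he => by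
    rw [← map_mul]; exact congrArg ψ (Subtype.ext (Subtype.ext (he.trans (by rw [← qEl_val, ← qEl_val]; rfl))))
  have h07 : ψ ⟨qEl (0, 7), lq_mem _ _⟩ = s := congrArg ψ (Subtype.ext sL_eq.symm)
  have h00 : ψ ⟨qEl (0, 0), lq_mem _ _⟩ = 1 := by
    rw [← map_one ψ]
    exact congrArg ψ (Subtype.ext (Subtype.ext ((qEl_val (0, 0)).trans qEl_facts.2.2.2.2.2)))
  obtain ⟨-, -, hcomm, hsq, hcen, -⟩ := qEl_facts
  have hQex : Cfsg.IsExtraspecial 2 Q := by
    refine Cfsg.Lib.LargeExtra.isExtraspecial_of (z := s) (IsPGroup.of_card (n := 5) (by rw [hQcard]; norm_num))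
      (hQm.2 ⟨_, h07⟩) ?_ ?_ ?_ ?_ ?_ ?_ ?_
    · intro h; rw [h, orderOf_one] at hs2; omega
    · rw [← pow_two, ← hs2, pow_orderOf_eq_one]
    · intro a ha
      have : a ∈ L := by
        obtain ⟨z, -, rfl⟩ := ha; exact z.2
      exact Subgroup.mem_centralizer_singleton_iff.1 this
    · intro a ha b hb
      obtain ⟨x, rfl⟩ := hQm.1 ha
      obtain ⟨y, rfl⟩ := hQm.1 hb
      rw [commutatorElement_def, ← map_inv, ← map_inv, ← map_mul, ← map_mul, ← map_mul]
      rcases hcomm x y with e | e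
      · refine Or.inl ?_
        rw [← map_one ψ]
        refine congrArg ψ (Subtype.ext (Subtype.ext ?_))
        show (qEl x).1 * (qEl y).1 * (qEl x).1⁻¹ * (qEl y).1⁻¹ = 1
        rw [qEl_val, qEl_val, e]; group
      · refine Or.inr (congrArg ψ (Subtype.ext (Subtype.ext ?_)))
        show (qEl x).1 * (qEl y).1 * (qEl x).1⁻¹ * (qEl y).1⁻¹ = sL.1
        rw [qEl_val, qEl_val, e]; group
    · intro a ha
      obtain ⟨x, rfl⟩ := hQm.1 ha
      rw [← map_mul]
      rcases hsq x with e | e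
      · refine Or.inl ?_
        rw [← map_one ψ]
        refine congrArg ψ (Subtype.ext (Subtype.ext ?_))
        show (qEl x).1 * (qEl x).1 = 1
        rw [qEl_val]; exact e
      · refine Or.inr (congrArg ψ (Subtype.ext (Subtype.ext ?_)))
        show (qEl x).1 * (qEl x).1 = sL.1
        rw [qEl_val]; exact e
    · intro a ha hall
      obtain ⟨x, rfl⟩ := hQm.1 ha
      refine (hcen x fun y => ?_).imp (fun e => by rw [e, h00]) fun e => by rw [e, h07]
      have := (hall _ (hQm.2 ⟨y, rfl⟩)).eq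
      rw [← map_mul, ← map_mul] at this
      have h := congrArg (fun z : Lb => (z.1).1) (hinj this)
      simp only [Subgroup.coe_mul, qEl_val] at h
      exact h.symm
    · have hx : ∃ x y : Fin 4 × Fin 8, lPerm (qP x.1) (qF x.2) * lPerm (qP y.1) (qF y.2) ≠
          lPerm (qP y.1) (qF y.2) * lPerm (qP x.1) (qF x.2) := by decide +kernel
      obtain ⟨x, y, hxy⟩ := hx
      refine ⟨_, hQm.2 ⟨x, rfl⟩, _, hQm.2 ⟨y, rfl⟩, fun h => hxy ?_⟩
      have h' := h.eq
      rw [← map_mul, ← map_mul] at h'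
      have := congrArg (fun z : Lb => (z.1).1) (hinj h')
      simpa only [Subgroup.coe_mul, qEl_val] using this
  let π : L →* Perm (Fin 3) := splitHom.comp E.symm.toMonoidHom
  have hπs : Function.Surjective π := splitHom_surjective.comp E.symm.surjective
  have hker : π.ker = Cfsg.pCore 2 L := by
    rw [hcore]; ext l
    rw [MonoidHom.mem_ker, Subgroup.mem_map_equiv, MonoidHom.mem_ker]; rfl
  let e : L ⧸ Cfsg.pCore 2 L ≃* Perm (Fin 3) :=
    (QuotientGroup.quotientMulEquivOfEq hker.symm).trans (QuotientGroup.quotientKerEquivOfSurjective π hπs)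
  obtain ⟨X⟩ : Nonempty (Sylow 3 L) := inferInstance
  obtain ⟨x, hx, hx1⟩ : ∃ x ∈ (X : Subgroup L), x ≠ 1 := by
    refine ((X : Subgroup L).bot_or_exists_ne_one).resolve_left fun hb => X.not_dvd_index ?_
    rw [hb, Subgroup.index_bot]
    refine dvd_trans ?_ (Subgroup.card_dvd_of_surjective π hπs)
    rw [Nat.card_perm, Nat.card_fin]
    decide
  have hCQX : Q ⊓ Subgroup.centralizer (((X : Subgroup L).map L.subtype : Subgroup T) : Set T) = Subgroup.zpowers s := by
    refine le_antisymm (fun y hy => ?_) (Subgroup.zpowers_le.2 ⟨hQm.2 ⟨_, h07⟩, ?_⟩)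
    · obtain ⟨hyQ, hyc⟩ := hy
      obtain ⟨q, rfl⟩ := hQm.1 hyQ
      obtain ⟨m, hm⟩ := E.surjective x
      obtain ⟨p, f, hf, hpf⟩ := lb_coord m.2
      obtain ⟨k, hk⟩ := X.2 ⟨x, hx⟩
      have hk' : x ^ 3 ^ k = 1 := congrArg Subtype.val hk
      have hnot : splitPerm p * splitPerm p ≠ 1 := by
        intro h
        have hmv : splitHom m = splitPerm p := by
          rw [show m = ⟨lq p f, lq_mem p f⟩ from Subtype.ext hpf]; exact splitHom_lq hf
        have h3 : splitPerm p ^ 3 ^ k = 1 := by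
          rw [← hmv, ← map_pow, show m ^ 3 ^ k = 1 from E.injective (by rw [map_pow, hm, hk', map_one]), map_one]
        have h1 : splitPerm p = 1 := (pow_eq_one_iff_of_coprime (Nat.Coprime.pow_left k (show Nat.Coprime 3 2 by norm_num))).1
          ⟨h3, by rw [pow_two]; exact h⟩
        rw [← hmv] at h1
        have hm32 : m ^ 32 = 1 := by
          have := pow_card_eq_one' (x := (⟨m, h1⟩ : splitHom.ker))
          rw [card_ker] at this
          exact congrArg Subtype.val this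
        exact hx1 (hm ▸ by
          rw [(pow_eq_one_iff_of_coprime (Nat.Coprime.pow_left k (show Nat.Coprime 3 32 by norm_num))).1
            ⟨E.injective (by rw [map_pow, hm, hk', map_one]), hm32⟩, map_one])
      have hc : (E m : T) * ψ ⟨qEl q, lq_mem _ _⟩ = ψ ⟨qEl q, lq_mem _ _⟩ * E m := by
        rw [hm]; exact Subgroup.mem_centralizer_iff.1 hyc _ ⟨x, hx, rfl⟩
      rw [hE, ← map_mul, ← map_mul] at hc
      rcases free_table p f hf hnot q (fun z => by
        have h := Equiv.congr_fun (congrArg (fun w : Lb => (w.1).1) (hinj hc)) z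
        simp only [Subgroup.coe_mul, Perm.mul_apply, hpf, qEl_val, lq_val hf] at h
        exact h) with rfl | rfl
      · rw [h00]; exact one_mem _
      · rw [h07]; exact Subgroup.mem_zpowers _
    · refine Subgroup.mem_centralizer_iff.2 ?_
      rintro _ ⟨z, -, rfl⟩
      exact Subgroup.mem_centralizer_singleton_iff.1 z.2
  obtain ⟨g, q, hq, hg⟩ := hnwc
  exact Cfsg.Agent.S3344.result s hs2 L rfl Q rfl hQex hQcard e X hCQX ⟨g, hQm.2 ⟨q, hg.symm⟩, fun h => by
    rw [hg, ← h07] at h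
    exact hq (qEl_facts.1 q (0, 7) (by
      rw [← qEl_val, ← qEl_val]; exact congrArg (fun z : Lb => (z.1).1) (hinj h)))⟩

end Cfsg.Lib.AltTwelveCent
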