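import Mathlib
import Cfsg.Agent.AltTwelveType.AltOrbit
import Cfsg.Agent.AltTwelveCent.AltLbExtra
import Cfsg.Agent.MTwelveType.Model
import Cfsg.Agent.InvolCalc.ZStarApps

/-!
The centralizer of the four-group of the first block is that group times a component, which is the alternating group
of degree eight or nine.
-/

set_option autoImplicit false
set_option linter.unusedSectionVars false
set_option linter.style.haveILetI false
set_option maxRecDepth 100000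
set_option maxHeartbeats 1000000

namespace Cfsg.Lib.AltTwelveCent

open Subgroup Cfsg.Lib.AltTwelveType
open scoped commutatorElement Pointwise

/-- The coordinate of an element commuting with the first block's four group. -/
def blk (m : Mh) : Fin 64 := ⟨(m.1 0).val % 64, Nat.mod_lt _ (by norm_num)⟩

theorem aFun_zero_pt : ∀ v : Fin 64, v.val < 4 → (aFun v 0).val = v.val ∧
    (∀ w : Fin 64, w.val < 4 → aFun v (aFun w 0) = aFun (axor v w) 0 ∧ (axor v w).val < 4) := by decide +kernel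

theorem fix_low : ∀ x : Fin 12, ¬ x.val < 4 → aFun 1 x = x := by decide +kernel

theorem low_gen : ∀ v : Fin 64, v.val < 4 → v = 0 ∨ v = 1 ∨ v = 2 ∨ v = axor 1 2 := by decide +kernel

theorem low_pts : ∀ x : Fin 12, x.val < 4 → ∃ v : Fin 64, v.val < 4 ∧ aFun v 0 = x := by decide +kernel

theorem comm_low {m : Mh} (h1 : m * pa 1 = pa 1 * m) (h2 : m * pa 2 = pa 2 * m) {v : Fin 64} (hv : v.val < 4) :
    m * pa v = pa v * m := by
  rcases low_gen v hv with rfl | rfl | rfl | rfl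
  · rw [pa_zero]; simp
  · exact h1
  · exact h2
  · rw [← pa_mul, ← mul_assoc, h1, mul_assoc, h2, mul_assoc]

theorem blk_lt {m : Mh} (h1 : m * pa 1 = pa 1 * m) : (blk m).val < 4 ∧ aFun (blk m) 0 = m.1 0 := by
  have h : (m.1 0).val < 4 := by
    by_contra hge
    have e := Equiv.congr_fun (congrArg Subtype.val h1) 0
    change m.1 (aFun 1 0) = aFun 1 (m.1 0) at e
    rw [fix_low _ hge] at e
    exact absurd (m.1.injective e) (by decide +kernel)
  have hb : (blk m).val = (m.1 0).val := Nat.mod_eq_of_lt (by have := (m.1 0).isLt; omega)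
  exact ⟨hb ▸ h, Fin.ext (((aFun_zero_pt (blk m) (hb ▸ h)).1).trans hb)⟩

theorem split_low {m : Mh} (h1 : m * pa 1 = pa 1 * m) (h2 : m * pa 2 = pa 2 * m) : pa (blk m) * m ∈ Lb := by
  obtain ⟨hb, hb0⟩ := blk_lt h1
  intro x hx
  obtain ⟨w, hw, rfl⟩ := low_pts x hx
  have e := Equiv.congr_fun (congrArg Subtype.val (comm_low h1 h2 hw)) 0
  change m.1 (aFun w 0) = aFun w (m.1 0) at e
  show aFun (blk m) (m.1 (aFun w 0)) = aFun w 0
  rw [e, ← hb0]
  have key : ∀ v w : Fin 64, v.val < 4 → w.val < 4 → aFun v (aFun w (aFun v 0)) = aFun w 0 := by decide +kernel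
  exact key _ _ hb hw

theorem blk_mul {m n : Mh} (hm1 : m * pa 1 = pa 1 * m) (hm2 : m * pa 2 = pa 2 * m) (hn1 : n * pa 1 = pa 1 * n) :
    blk (m * n) = axor (blk m) (blk n) := by
  obtain ⟨hbm, hm0⟩ := blk_lt hm1
  obtain ⟨hbn, hn0⟩ := blk_lt hn1
  have e := Equiv.congr_fun (congrArg Subtype.val (comm_low hm1 hm2 hbn)) 0
  change m.1 (aFun (blk n) 0) = aFun (blk n) (m.1 0) at e
  have h : (m * n).1 0 = aFun (axor (blk n) (blk m)) 0 := by
    show m.1 (n.1 0) = _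
    rw [← hn0, e, ← hm0]
    exact ((aFun_zero_pt _ hbn).2 _ hbm).1
  have hlt := ((aFun_zero_pt _ hbn).2 _ hbm).2
  apply Fin.ext
  show ((m * n).1 0).val % 64 = _
  rw [h, (aFun_zero_pt _ hlt).1, axor_comm (blk m), Nat.mod_eq_of_lt (by omega)]

theorem pa_low_comm {v : Fin 64} (w : Fin 64) : pa v * pa w = pa w * pa v := by
  rw [pa_mul, pa_mul, axor_comm]

theorem blk_pa : ∀ v : Fin 64, v.val < 4 → (⟨(aFun v 0).val % 64, Nat.mod_lt _ (by norm_num)⟩ : Fin 64) = v := by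
  decide +kernel

theorem act_twelve : ∀ k : Fin 24, k.val < 8 → ∀ v : Fin 64, v.val < 4 → (act 12 (act k (act 12 v))).val < 4 := by
  decide +kernel

theorem kinv_twelve : kinv 12 = 12 := by decide +kernel

theorem blocks_facts :
    (∀ v : Fin 64, v.val < 4 → blockCycle 1 v = v ∧ blockCycle 2 v = v) ∧
    axor (blockCycle 1 8) 8 = 4 ∧ axor (blockCycle 1 12) 12 = 8 ∧
    axor (blockCycle 2 32) 32 = 16 ∧ axor (blockCycle 2 48) 48 = 32 ∧ axor 1 20 = 21 ∧
    blockCycle 1 (blockCycle 2 20) = 40 := by decide +kernel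

theorem lb_comm_low {m : Mh} (hm : m ∈ Lb) : m * pa 1 = pa 1 * m ∧ m * pa 2 = pa 2 * m := by
  obtain ⟨p, f, hf, rfl⟩ := lb_coord hm
  have key : ∀ p : Fin 24, ∀ f : Fin 16, ∀ x : Fin 12,
      lFun p f (aFun 1 x) = aFun 1 (lFun p f x) ∧ lFun p f (aFun 2 x) = aFun 2 (lFun p f x) := by decide +kernel
  constructor <;> refine Subtype.ext (Equiv.ext fun x => ?_) <;>
    show (lq p f).1 (aFun _ x) = aFun _ ((lq p f).1 x) <;> rw [lq_val_apply hf, lq_val_apply hf]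
  · exact (key p f x).1
  · exact (key p f x).2

theorem pa_mem_Lb {v : Fin 64} (h : v.val % 4 = 0) : pa v ∈ Lb := by
  intro x hx
  have key : ∀ v : Fin 64, v.val % 4 = 0 → ∀ x : Fin 12, x.val < 4 → aFun v x = x := by decide +kernel
  exact key v h x hx

theorem twenty_mul : qEl (1, 0) = pa 40 := Subtype.ext ((qEl_val (1, 0)).trans (Equiv.ext (by decide +kernel)))

variable {G : Type*} [Group G] [Finite G] (S : Setting G)

/-- The centralizer of the four group of the first block. -/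
def C0 : Subgroup G := centralizer {S.el 1, S.el 2}

theorem mem_C0 {x : G} : x ∈ C0 S ↔ x * S.el 1 = S.el 1 * x ∧ x * S.el 2 = S.el 2 * x := by
  rw [C0, mem_centralizer_iff]
  exact ⟨fun h => ⟨(h _ (Or.inl rfl)).symm, (h _ (Or.inr rfl)).symm⟩, fun h y hy => by
    rcases hy with rfl | rfl
    · exact h.1.symm
    · exact h.2.symm⟩

theorem C0_comm_low {x : G} (hx : x ∈ C0 S) {v : Fin 64} (hv : v.val < 4) : x * S.el v = S.el v * x := by
  obtain ⟨h1, h2⟩ := (mem_C0 S).1 hx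
  rcases low_gen v hv with rfl | rfl | rfl | rfl
  · rw [S.el_zero]; simp
  · exact h1
  · exact h2
  · rw [← S.el_mul, ← mul_assoc, h1, mul_assoc, h2, mul_assoc]

theorem φ_mem_C0 {m : Mh} (h1 : m * pa 1 = pa 1 * m) (h2 : m * pa 2 = pa 2 * m) : S.φ m ∈ C0 S := by
  refine (mem_C0 S).2 ⟨?_, ?_⟩
  · show S.φ m * S.φ (pa 1) = S.φ (pa 1) * S.φ m
    rw [← map_mul, h1, map_mul]
  · show S.φ m * S.φ (pa 2) = S.φ (pa 2) * S.φ m
    rw [← map_mul, h2, map_mul]

theorem Lb_C0 {m : Mh} (hm : m ∈ Lb) : S.φ m ∈ C0 S := φ_mem_C0 S (lb_comm_low hm).1 (lb_comm_low hm).2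

theorem el_mem_C0 (v : Fin 64) : S.el v ∈ C0 S := (mem_C0 S).2 ⟨S.el_comm v 1, S.el_comm v 2⟩

/-- The four group of the first block. -/
def V0 : Subgroup G where
  carrier := {x | ∃ v : Fin 64, v.val < 4 ∧ S.el v = x}
  one_mem' := ⟨0, by decide, S.el_zero⟩
  mul_mem' := by
    rintro _ _ ⟨v, hv, rfl⟩ ⟨w, hw, rfl⟩
    exact ⟨_, ((aFun_zero_pt v hv).2 w hw).2, (S.el_mul v w).symm⟩
  inv_mem' := by
    rintro _ ⟨v, hv, rfl⟩
    exact ⟨v, hv, (inv_eq_of_mul_eq_one_right (S.el_sq v)).symm⟩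

theorem el_mem_V0 {v : Fin 64} (hv : v.val < 4) : S.el v ∈ V0 S := ⟨v, hv, rfl⟩

theorem V0_le_C0 : V0 S ≤ C0 S := by rintro _ ⟨v, -, rfl⟩; exact el_mem_C0 S v

theorem normalizer_V0_C0 {g : G} (hg : g ∈ normalizer (V0 S : Set G)) : g ∈ normalizer (C0 S : Set G) := by
  have h : ∀ g ∈ normalizer (V0 S : Set G), ∀ x ∈ C0 S, g * x * g⁻¹ ∈ C0 S := by
    intro g hg x hx
    have hc : ∀ v : Fin 64, v.val < 4 → g * x * g⁻¹ * S.el v = S.el v * (g * x * g⁻¹) := by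
      intro v hv
      obtain ⟨w, hw, hwe⟩ := (mem_normalizer_iff.1 (inv_mem hg) (S.el v)).1 (el_mem_V0 S hv)
      have hxw := C0_comm_low S hx hw
      rw [hwe, inv_inv] at hxw
      calc g * x * g⁻¹ * S.el v = g * (x * (g⁻¹ * S.el v * g)) * g⁻¹ := by group
        _ = S.el v * (g * x * g⁻¹) := by rw [hxw]; group
    exact (mem_C0 S).2 ⟨hc 1 (by decide), hc 2 (by decide)⟩
  refine mem_normalizer_iff.2 fun x => ⟨h g hg x, fun hx => ?_⟩
  have := h g⁻¹ (inv_mem hg) _ hx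
  rwa [show g⁻¹ * (g * x * g⁻¹) * g⁻¹⁻¹ = x by group] at this

theorem relIndex_sup_eq {H : Type*} [Group H] [Finite H] (N P : Subgroup H) [N.Normal] :
    P.relIndex (N ⊔ P) = P.relIndex N := by
  have h1 : (P ⊓ N).relIndex N * N.relIndex (N ⊔ P) = (P ⊓ N).relIndex P * P.relIndex (N ⊔ P) := by
    rw [relIndex_mul_relIndex _ _ _ inf_le_right le_sup_left, relIndex_mul_relIndex _ _ _ inf_le_left le_sup_right]
  rw [relIndex_sup_left, inf_relIndex_right, inf_comm, inf_relIndex_right, mul_comm] at h1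
  exact (Nat.eq_of_mul_eq_mul_left (Nat.pos_of_ne_zero index_ne_zero_of_finite) h1).symm

/-- The four group splits off its centralizer. -/
theorem exists_split : ∃ K : Subgroup G, K ≤ C0 S ∧ (∀ g ∈ C0 S, ∀ k ∈ K, g * k * g⁻¹ ∈ K) ∧
    (∀ x ∈ C0 S, ∀ y ∈ C0 S, ⁅x, y⁆ ∈ K) ∧ (∀ x ∈ C0 S, ∃ v : Fin 64, v.val < 4 ∧ S.el v * x ∈ K) ∧
    (∀ v : Fin 64, v.val < 4 → S.el v ∈ K → v = 0) := by
  haveI : Fact (Nat.Prime 2) := ⟨Nat.prime_two⟩
  let P : Sylow 2 G := S.φ (pk 12) • S.syl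
  have hmemP : ∀ {x : G}, x ∈ (P : Subgroup G) → ∃ m ∈ Sm, S.φ (pk 12 * m * (pk 12)⁻¹) = x := by
    intro x hx
    have hx' : x ∈ MulAut.conj (S.φ (pk 12)) • (S.syl : Subgroup G) := hx
    rw [mem_pointwise_smul_iff_inv_smul_mem, MulAut.smul_def, ← map_inv, MulAut.conj_apply, S.syl_eq] at hx'
    obtain ⟨m, hm, e⟩ := hx'
    exact ⟨m, hm, by rw [map_mul, map_mul, map_inv, e]; group⟩
  have hPN : (P : Subgroup G) ≤ normalizer (V0 S : Set G) := by
    intro x hx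
    refine Cfsg.Lib.ZStarApps.mem_normalizer_of_maps fun y hy => ?_
    obtain ⟨m, ⟨a, k, hk, rfl⟩, rfl⟩ := hmemP hx
    obtain ⟨v, hv, rfl⟩ := hy
    refine ⟨act 12 (act k (act 12 v)), act_twelve k hk v hv, ?_⟩
    have e : pk 12 * (pa a * pk k) * (pk 12)⁻¹ * pa v * (pk 12 * (pa a * pk k) * (pk 12)⁻¹)⁻¹ =
        pa (act 12 (act k (act 12 v))) := by
      have h12 : (pk 12)⁻¹ * pa v * pk 12 = pa (act 12 v) := by
        rw [pk_inv, kinv_twelve, pk_pa, mul_assoc, show pk 12 * pk 12 = 1 by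
          rw [pk_mul, show kmul 12 12 = 0 by decide +kernel, pk_zero], mul_one]
      calc _ = pk 12 * (pa a * pk k * ((pk 12)⁻¹ * pa v * pk 12) * (pa a * pk k)⁻¹) * (pk 12)⁻¹ := by group
        _ = pa (act 12 (act k (act 12 v))) := by rw [h12, pa_conj, pk_pa, mul_inv_cancel_right]
    exact (congrArg S.φ e.symm).trans (by rw [map_mul, map_mul, map_inv]; rfl)
  -- the index of the Sylow part
  have hidx : ¬ 2 ∣ ((P : Subgroup G).subgroupOf (C0 S)).index := by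
    set N := normalizer (V0 S : Set G)
    have hle : C0 S ≤ N := by
      intro x hx
      refine Cfsg.Lib.ZStarApps.mem_normalizer_of_maps ?_
      rintro _ ⟨v, hv, rfl⟩
      exact ⟨v, hv, by rw [C0_comm_low S hx hv]; group⟩
    haveI : ((C0 S).subgroupOf N).Normal := normal_subgroupOf_of_le_normalizer fun g hg => normalizer_V0_C0 S hg
    have h1 : ((P : Subgroup G).subgroupOf N).relIndex ((C0 S).subgroupOf N) = (P : Subgroup G).relIndex (C0 S) :=
      relIndex_subgroupOf hle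
    intro hd
    apply P.not_dvd_index
    refine (hd.trans ?_).trans (relIndex_dvd_index_of_le hPN)
    show (P : Subgroup G).relIndex (C0 S) ∣ _
    rw [← h1, ← relIndex_sup_eq ((C0 S).subgroupOf N) ((P : Subgroup G).subgroupOf N)]
    exact relIndex_dvd_index_of_le le_sup_right
  set H := (P : Subgroup G).subgroupOf (C0 S)
  have hmod : ∀ h : H, ∃ m : Mh, S.φ m = ((h : C0 S) : G) ∧ m * pa 1 = pa 1 * m ∧ m * pa 2 = pa 2 * m := by
    intro h
    obtain ⟨m, -, e⟩ := hmemP (mem_subgroupOf.1 h.2)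
    obtain ⟨h1, h2⟩ := (mem_C0 S).1 (h : C0 S).2
    refine ⟨_, e, S.inj ?_, S.inj ?_⟩
    · rw [map_mul S.φ _ (pa 1), map_mul S.φ (pa 1), e]; exact h1
    · rw [map_mul S.φ _ (pa 2), map_mul S.φ (pa 2), e]; exact h2
  choose mo hmo hmo1 hmo2 using hmod
  letI : CommGroup (V0 S) :=
    { (inferInstance : Group (V0 S)) with
      mul_comm := fun a b => Subtype.ext (by
        obtain ⟨v, -, hv⟩ := a.2
        obtain ⟨w, -, hw⟩ := b.2
        show (a : G) * b = b * a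
        rw [← hv, ← hw, S.el_comm]) }
  let π : H →* V0 S := MonoidHom.mk' (fun h => ⟨S.el (blk (mo h)), el_mem_V0 S (blk_lt (hmo1 h)).1⟩) fun a b => by
    apply Subtype.ext
    show S.el (blk (mo (a * b))) = S.el (blk (mo a)) * S.el (blk (mo b))
    rw [show mo (a * b) = mo a * mo b from S.inj (by rw [map_mul, hmo, hmo, hmo]; rfl), blk_mul (hmo1 a) (hmo2 a) (hmo1 b),
      S.el_mul]
  have hV0P : ∀ v : Fin 64, S.el v ∈ (P : Subgroup G) := by
    intro v
    show S.el v ∈ MulAut.conj (S.φ (pk 12)) • (S.syl : Subgroup G)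
    rw [mem_pointwise_smul_iff_inv_smul_mem, MulAut.smul_def, ← map_inv, MulAut.conj_apply, ← map_inv, pk_inv, kinv_twelve, S.φ_el]
    exact S.AG_le (S.el_mem _)
  obtain ⟨τ, hτ⟩ : ∃ τ : C0 S →* V0 S, ∀ v : Fin 64, ∀ hv : v.val < 4,
      τ ⟨S.el v, el_mem_C0 S v⟩ = ⟨S.el v, el_mem_V0 S hv⟩ := by
    refine ⟨MonoidHom.transfer π, ?_⟩
    intro v hv
    have hcen : ∀ g : C0 S, g * ⟨S.el v, el_mem_C0 S v⟩ = ⟨S.el v, el_mem_C0 S v⟩ * g := fun g =>
      Subtype.ext (C0_comm_low S g.2 hv)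
    rw [MonoidHom.transfer_eq_pow π _ (fun k g₀ _ => by
      have hzk : Commute g₀ ((⟨S.el v, el_mem_C0 S v⟩ : C0 S) ^ k) :=
        (show Commute g₀ ⟨S.el v, el_mem_C0 S v⟩ from hcen g₀).pow_right k
      rw [mul_assoc, ← hzk.eq, inv_mul_cancel_left])]
    have hzH : (⟨S.el v, el_mem_C0 S v⟩ : C0 S) ∈ H := mem_subgroupOf.2 (hV0P v)
    have hπv : π ⟨_, hzH⟩ = ⟨S.el v, el_mem_V0 S hv⟩ := by
      apply Subtype.ext
      show S.el (blk (mo ⟨_, hzH⟩)) = S.el v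
      rw [show mo ⟨_, hzH⟩ = pa v from S.inj (hmo _)]
      exact congrArg S.el (blk_pa v hv)
    have hpow : ∀ hm, π ⟨(⟨S.el v, el_mem_C0 S v⟩ : C0 S) ^ H.index, hm⟩ = π ⟨_, hzH⟩ ^ H.index := fun hm => by
      rw [← map_pow]; rfl
    rw [hpow, hπv]
    obtain ⟨j, hj⟩ : Odd H.index := Nat.not_even_iff_odd.1 fun h => hidx (even_iff_two_dvd.1 h)
    have hsq : (⟨S.el v, el_mem_V0 S hv⟩ : V0 S) ^ 2 = 1 := Subtype.ext (by
      show S.el v ^ 2 = 1
      rw [pow_two, S.el_sq])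
    rw [hj, pow_succ, pow_mul, hsq, one_pow, one_mul]
  refine ⟨τ.ker.map (C0 S).subtype, map_subtype_le _, ?_, ?_, ?_, ?_⟩
  · rintro g hg _ ⟨k, hk, rfl⟩
    refine ⟨⟨g, hg⟩ * k * (⟨g, hg⟩ : C0 S)⁻¹, ?_, rfl⟩
    have hk1 : τ k = 1 := hk
    show τ _ = 1
    rw [map_mul, map_mul, map_inv, hk1, mul_one, mul_inv_cancel]
  · intro x hx y hy
    refine ⟨⁅(⟨x, hx⟩ : C0 S), ⟨y, hy⟩⁆, ?_, rfl⟩
    show τ _ = 1
    rw [map_commutatorElement, commutatorElement_eq_one_iff_mul_comm]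
    exact mul_comm _ _
  · intro x hx
    obtain ⟨v, hv, hve⟩ := (τ ⟨x, hx⟩).2
    refine ⟨v, hv, ⟨⟨S.el v, el_mem_C0 S v⟩ * ⟨x, hx⟩, ?_, rfl⟩⟩
    show τ _ = 1
    rw [map_mul, hτ v hv]
    apply Subtype.ext
    show S.el v * (τ ⟨x, hx⟩ : G) = 1
    rw [← hve, S.el_sq]
  · rintro v hv ⟨k, hk, hke⟩
    have hke' : k = ⟨S.el v, el_mem_C0 S v⟩ := Subtype.ext hke
    subst hke'
    have h1 : τ ⟨S.el v, el_mem_C0 S v⟩ = 1 := hk
    rw [hτ v hv] at h1
    exact S.el_inj ((congrArg Subtype.val h1).trans S.el_zero.symm)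

end Cfsg.Lib.AltTwelveCent
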