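import Mathlib
import Cfsg.Agent.AltTwelveCent.AltComp

/-!
The component of the first block is an alternating group of degree eight or nine.
-/

set_option autoImplicit false
set_option linter.unusedSectionVars false
set_option linter.style.haveILetI false
set_option maxRecDepth 100000
set_option maxHeartbeats 1000000

namespace Cfsg.Lib.AltTwelveCent

open Subgroup Cfsg.Lib.AltTwelveType
open scoped commutatorElement

variable {G : Type*} [Group G] [Finite G]

/-- A complement of the four group in its centralizer, holding the commutators. -/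
structure IsComp (S : Setting G) (K : Subgroup G) : Prop where
  le : K ≤ C0 S
  conj : ∀ g ∈ C0 S, ∀ k ∈ K, g * k * g⁻¹ ∈ K
  comm : ∀ x ∈ C0 S, ∀ y ∈ C0 S, ⁅x, y⁆ ∈ K
  split : ∀ x ∈ C0 S, ∃ v : Fin 64, v.val < 4 ∧ S.el v * x ∈ K
  disj : ∀ v : Fin 64, v.val < 4 → S.el v ∈ K → v = 0

theorem exists_comp (S : Setting G) : ∃ K, IsComp S K :=
  let ⟨K, h1, h2, h3, h4, h5⟩ := exists_split S
  ⟨K, h1, h2, h3, h4, h5⟩

variable {S : Setting G} (hA : ∀ v, S.o v = oAlt v) {K : Subgroup G} (hK : IsComp S K)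

include hA in
theorem cycle_mem_C0 (b : Fin 3) (hb : b = 1 ∨ b = 2) {n : G} (hn : ∀ v, n * S.el v * n⁻¹ = S.el (blockCycle b v)) :
    n ∈ C0 S := by
  refine (mem_C0 S).2 ⟨?_, ?_⟩ <;> refine mul_inv_eq_iff_eq_mul.1 ((hn _).trans (congrArg S.el ?_))
  · rcases hb with rfl | rfl
    · exact (blocks_facts.1 1 (by decide)).1
    · exact (blocks_facts.1 1 (by decide)).2
  · rcases hb with rfl | rfl
    · exact (blocks_facts.1 2 (by decide)).1
    · exact (blocks_facts.1 2 (by decide)).2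

include hA hK in
theorem el_mem_comp {b : Fin 3} (hb : b = 1 ∨ b = 2) {u v : Fin 64} (h : axor (blockCycle b u) u = v) : S.el v ∈ K := by
  obtain ⟨n, hn⟩ := Setting.ind_cycle hA b
  have h1 := hK.comm n (cycle_mem_C0 hA b hb hn) (S.el u) (el_mem_C0 S u)
  rwa [commutatorElement_def, hn, inv_eq_of_mul_eq_one_right (S.el_sq u), S.el_mul, h] at h1

include hA hK in
theorem Lb_le_comp {m : Mh} (hm : m ∈ Lb) : S.φ m ∈ K := by
  refine Lb_le_of (K := K.comap S.φ) (fun g hg k hk => ?_) ?_ hm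
  · show S.φ (g * k * g⁻¹) ∈ K
    rw [map_mul, map_mul, map_inv]
    exact hK.conj _ (Lb_C0 S hg) _ hk
  · obtain ⟨-, e1, e2, e3, e4, -⟩ := blocks_facts
    exact ⟨el_mem_comp hA hK (Or.inl rfl) e1, el_mem_comp hA hK (Or.inl rfl) e2, el_mem_comp hA hK (Or.inr rfl) e3,
      el_mem_comp hA hK (Or.inr rfl) e4⟩

include hA hK in
theorem cent_twenty {c : G} (hc : c ∈ K) (h : c * S.el 20 = S.el 20 * c) : ∃ m ∈ Lb, S.φ m = c := by
  obtain ⟨h1, h2⟩ := (mem_C0 S).1 (hK.le hc)
  have h21 : c * S.α = S.α * c := by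
    rw [← S.el_alpha, ← blocks_facts.2.2.2.2.2.1, ← S.el_mul, ← mul_assoc, h1, mul_assoc, h, mul_assoc]
  obtain ⟨m, rfl⟩ := S.mem_cent.1 h21
  have hm1 : m * pa 1 = pa 1 * m := S.inj (by rw [map_mul, map_mul]; exact h1)
  have hm2 : m * pa 2 = pa 2 * m := S.inj (by rw [map_mul, map_mul]; exact h2)
  have hl := split_low hm1 hm2
  have hv : S.el (blk m) ∈ K := by
    have := mul_mem (Lb_le_comp hA hK hl) (inv_mem hc)
    rwa [map_mul, mul_inv_cancel_right] at this
  have h0 := hK.disj _ (blk_lt hm1).1 hv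
  rw [h0, pa_zero, one_mul] at hl
  exact ⟨m, hl, rfl⟩

/-- The model inside the component. -/
def compHom : Lb →* K where
  toFun m := ⟨S.φ m, Lb_le_comp hA hK m.2⟩
  map_one' := Subtype.ext (map_one S.φ)
  map_mul' a b := Subtype.ext (map_mul S.φ (a : Mh) b)

theorem compHom_inj : Function.Injective (compHom hA hK) := fun _ _ h =>
  Subtype.ext (S.inj (congrArg Subtype.val h))

theorem compHom_range : (compHom hA hK).range = centralizer {compHom hA hK ⟨sL, sL_mem⟩} := by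
  ext c
  rw [mem_centralizer_singleton_iff]
  constructor
  · rintro ⟨m, rfl⟩
    rw [← map_mul, ← map_mul]
    refine congrArg _ (Subtype.ext ?_)
    show (m : Mh) * pa 20 = pa 20 * m
    obtain ⟨h1, -⟩ := lb_comm_low m.2
    have h21 : (m : Mh) * pa 21 = pa 21 * m := (αm_central (m : Mh)).symm
    have e20 : pa 20 = pa 1 * pa 21 := by rw [pa_mul]; rfl
    rw [e20, ← mul_assoc, h1, mul_assoc, h21, mul_assoc]
  · intro h
    obtain ⟨m, hm, e⟩ := cent_twenty hA hK c.2 (congrArg Subtype.val h)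
    exact ⟨⟨m, hm⟩, Subtype.ext e⟩

include hA hK in
theorem compHom_fused : ∃ g : K, ∃ x, x ≠ (0, 7) ∧
    g * compHom hA hK ⟨sL, sL_mem⟩ * g⁻¹ = compHom hA hK ⟨qEl x, lq_mem _ _⟩ := by
  obtain ⟨n1, h1⟩ := Setting.ind_cycle hA 1
  obtain ⟨n2, h2⟩ := Setting.ind_cycle hA 2
  have hn := mul_mem (cycle_mem_C0 hA 1 (Or.inl rfl) h1) (cycle_mem_C0 hA 2 (Or.inr rfl) h2)
  obtain ⟨v, hv, hk⟩ := hK.split _ hn
  refine ⟨⟨_, hk⟩, (1, 0), by decide, Subtype.ext ?_⟩
  show S.el v * (n1 * n2) * S.el 20 * (S.el v * (n1 * n2))⁻¹ = S.φ (qEl (1, 0))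
  rw [twenty_mul]
  calc _ = S.el v * (n1 * (n2 * S.el 20 * n2⁻¹) * n1⁻¹) * (S.el v)⁻¹ := by group
    _ = S.el 40 := by
      rw [h2, h1, blocks_facts.2.2.2.2.2.2, S.el_comm v 40, mul_inv_cancel_right]

/-- The nine products of the cycles of the last two blocks. -/
def cycPerm (q : Fin 3 × Fin 3) (v : Fin 64) : Fin 64 := (blockCycle 1)^[q.1.val] ((blockCycle 2)^[q.2.val] v)

theorem cycPerm_facts :
    (∀ q v, v.val < 4 → cycPerm q v = v) ∧
    (∀ q r, ∃ s, ∀ v, cycPerm q (cycPerm r v) = cycPerm s v) ∧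
    (∀ q, ∃ r, (∀ v, cycPerm r (cycPerm q v) = v) ∧ ∀ v, cycPerm q (cycPerm r v) = v) ∧
    (∀ v, cycPerm (0, 0) v = v) ∧
    (∀ q r : Fin 3 × Fin 3, (∀ v, cycPerm q v = cycPerm r v) → q = r) := by decide +kernel

/-- The group of the nine products. -/
def cycGroup : Subgroup (Equiv.Perm (Fin 64)) where
  carrier := {σ | ∃ q, ∀ v, σ v = cycPerm q v}
  one_mem' := ⟨(0, 0), fun v => (cycPerm_facts.2.2.2.1 v).symm⟩
  mul_mem' := by
    rintro σ τ ⟨q, hq⟩ ⟨r, hr⟩
    obtain ⟨s, hs⟩ := cycPerm_facts.2.1 q r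
    exact ⟨s, fun v => by rw [Equiv.Perm.mul_apply, hq, hr, hs]⟩
  inv_mem' := by
    rintro σ ⟨q, hq⟩
    obtain ⟨r, -, hr⟩ := cycPerm_facts.2.2.1 q
    exact ⟨r, fun v => by rw [Equiv.Perm.inv_eq_iff_eq, hq, hr]⟩

theorem card_cycGroup : Nat.card cycGroup = 9 := by
  let f : Fin 3 × Fin 3 → cycGroup := fun q =>
    ⟨⟨cycPerm q, cycPerm (cycPerm_facts.2.2.1 q).choose, (cycPerm_facts.2.2.1 q).choose_spec.1,
      (cycPerm_facts.2.2.1 q).choose_spec.2⟩, q, fun _ => rfl⟩
  have hf : Function.Bijective f := ⟨fun q r h => cycPerm_facts.2.2.2.2 q r fun v =>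
      Equiv.congr_fun (congrArg Subtype.val h) v,
    fun σ => by obtain ⟨q, hq⟩ := σ.2; exact ⟨q, Subtype.ext (Equiv.ext fun v => (hq v).symm)⟩⟩
  rw [← Nat.card_congr (Equiv.ofBijective f hf), Nat.card_prod, Nat.card_fin]

include hA hK in
theorem nine_dvd : 9 ∣ Nat.card K := by
  let Y : Subgroup K := (normalizer (S.AG : Set G)).subgroupOf K
  have hθ : ∀ y : Y, ∀ v, ∃ w, S.el w = ((y : K) : G) * S.el v * ((y : K) : G)⁻¹ := fun y v =>
    (mem_normalizer_iff.1 (mem_subgroupOf.1 y.2) _).1 (S.el_mem v)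
  choose θ hθ using hθ
  let ρ : Y →* Equiv.Perm (Fin 64) := MonoidHom.mk'
    (fun y => Equiv.ofBijective (θ y) (Finite.injective_iff_bijective.1 fun a b h => S.el_inj (by
      have := congrArg S.el h
      rw [hθ, hθ] at this
      exact mul_left_cancel (mul_right_cancel this))))
    fun a b => Equiv.ext fun v => S.el_inj (by
      show S.el (θ (a * b) v) = S.el (θ a (θ b v))
      rw [hθ, hθ, hθ]
      show (a : G) * b * S.el v * ((a : G) * b)⁻¹ = _
      group)
  have hle : cycGroup ≤ ρ.range := by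
    rintro σ ⟨q, hq⟩
    have hit : ∀ (b : Fin 3) (n : ℕ), S.Ind (blockCycle b)^[n] := by
      intro b n
      induction n with
      | zero => exact ⟨1, fun v => by simp⟩
      | succ n ih => rw [Function.iterate_succ]; exact ih.comp S (Setting.ind_cycle hA b)
    obtain ⟨n, hn⟩ : S.Ind (cycPerm q) := (hit 1 q.1.val).comp S (hit 2 q.2.val)
    have hnC : n ∈ C0 S := (mem_C0 S).2
      ⟨mul_inv_eq_iff_eq_mul.1 ((hn 1).trans (congrArg S.el (cycPerm_facts.1 q 1 (by decide)))),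
       mul_inv_eq_iff_eq_mul.1 ((hn 2).trans (congrArg S.el (cycPerm_facts.1 q 2 (by decide))))⟩
    obtain ⟨v, hv, hk⟩ := hK.split n hnC
    have hconj : ∀ w, S.el v * n * S.el w * (S.el v * n)⁻¹ = S.el (cycPerm q w) := fun w => by
      rw [show S.el v * n * S.el w * (S.el v * n)⁻¹ = S.el v * (n * S.el w * n⁻¹) * (S.el v)⁻¹ by group, hn,
        S.el_comm v, mul_inv_cancel_right]
    have hN : S.el v * n ∈ normalizer (S.AG : Set G) := by
      refine Cfsg.Lib.ZStarApps.mem_normalizer_of_maps ?_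
      rintro _ ⟨w, rfl⟩
      rw [hconj]; exact S.el_mem _
    exact ⟨⟨⟨_, hk⟩, mem_subgroupOf.2 hN⟩, Equiv.ext fun w => S.el_inj (by
      show S.el (θ _ w) = _
      rw [hθ, hq]; exact hconj w)⟩
  have h1 := Subgroup.card_dvd_of_le hle
  rw [card_cycGroup] at h1
  exact h1.trans ((card_range_dvd ρ).trans (card_subgroup_dvd_card Y))

/-- An element of the two-group of the Mathieu group by a number. -/
def mEl (i : Fin 64) : Cfsg.Lib.MTwelveType.M4 :=
  ⟨(i.val % 4 : ℕ), (i.val / 4 % 4 : ℕ), decide (i.val / 16 % 2 = 1), decide (i.val / 32 = 1)⟩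

/-- Four independent commuting involutions do not exist. -/
def mTest : Bool :=
  let l := (List.finRange 64).filter fun i => decide (mEl i * mEl i = 1) && decide (mEl i ≠ 1)
  let cm : Fin 64 → Fin 64 → Bool := fun i j => decide (mEl i * mEl j = mEl j * mEl i)
  l.all fun a => l.all fun b => !cm a b || decide (b = a) ||
    l.all fun c => !cm a c || !cm b c || decide (c = a) || decide (c = b) || decide (mEl c = mEl a * mEl b) ||
      l.all fun d => !cm a d || !cm b d || !cm c d || decide (d = a) || decide (d = b) || decide (d = c) ||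
        decide (mEl d = mEl a * mEl b) || decide (mEl d = mEl a * mEl c) || decide (mEl d = mEl b * mEl c) ||
        decide (mEl d = mEl a * mEl b * mEl c)

theorem mTest_true : mTest = true := by decide +kernel

theorem mEl_surjective : Function.Surjective mEl := by
  rintro ⟨x, y, s, e⟩
  haveI : NeZero (2 ^ 2) := ⟨by norm_num⟩
  have hx : x.val < 4 := ZMod.val_lt x
  have hy : y.val < 4 := ZMod.val_lt y
  refine ⟨⟨x.val + 4 * y.val + (if s then 16 else 0) + (if e then 32 else 0), by cases s <;> cases e <;> simp <;> omega⟩, ?_⟩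
  have h1 : ∀ a : ℕ, a = x.val → (a : ZMod (2 ^ 2)) = x := fun a h => by rw [h, ZMod.natCast_zmod_val]
  have h2 : ∀ a : ℕ, a = y.val → (a : ZMod (2 ^ 2)) = y := fun a h => by rw [h, ZMod.natCast_zmod_val]
  unfold mEl
  ext
  · exact h1 _ (by cases s <;> cases e <;> simp <;> omega)
  · exact h2 _ (by cases s <;> cases e <;> simp <;> omega)
  · cases s <;> cases e <;> simp <;> omega
  · cases s <;> cases e <;> simp <;> omega

theorem no_sixteen_M4 {a b c d : Cfsg.Lib.MTwelveType.M4} (ha : a * a = 1) (hb : b * b = 1) (hab : a * b = b * a)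
    (ha1 : a ≠ 1) (hb1 : b ≠ 1) (hba : b ≠ a) (hc : c * c = 1) (hac : a * c = c * a) (hbc : b * c = c * b)
    (hc1 : c ≠ 1) (hca : c ≠ a) (hcb : c ≠ b) (hcab : c ≠ a * b) (hd : d * d = 1) (had : a * d = d * a)
    (hbd : b * d = d * b) (hcd : c * d = d * c) :
    d = 1 ∨ d = a ∨ d = b ∨ d = a * b ∨ d = c ∨ d = a * c ∨ d = b * c ∨ d = a * b * c := by
  obtain ⟨ia, rfl⟩ := mEl_surjective a
  obtain ⟨ib, rfl⟩ := mEl_surjective b
  obtain ⟨ic, rfl⟩ := mEl_surjective c
  obtain ⟨id, rfl⟩ := mEl_surjective d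
  by_cases hd1 : mEl id = 1
  · exact Or.inl hd1
  have h := mTest_true
  simp only [mTest, List.all_eq_true, List.mem_filter, List.mem_finRange, true_and, Bool.and_eq_true,
    decide_eq_true_eq, Bool.or_eq_true, Bool.not_eq_true', decide_eq_false_iff_not] at h
  rcases h ia ⟨ha, ha1⟩ ib ⟨hb, hb1⟩ with (h' | h') | h'
  · exact absurd hab h'
  · exact absurd (congrArg mEl h') hba
  rcases h' ic ⟨hc, hc1⟩ with ((((h'' | h'') | h'') | h'') | h'') | h''
  · exact absurd hac h''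
  · exact absurd hbc h''
  · exact absurd (congrArg mEl h'') hca
  · exact absurd (congrArg mEl h'') hcb
  · exact absurd h'' hcab
  rcases h'' id ⟨hd, hd1⟩ with (((((((((e | e) | e) | e) | e) | e) | e) | e) | e) | e)
  · exact absurd had e
  · exact absurd hbd e
  · exact absurd hcd e
  · exact Or.inr (Or.inl (congrArg mEl e))
  · exact Or.inr (Or.inr (Or.inl (congrArg mEl e)))
  · exact Or.inr (Or.inr (Or.inr (Or.inr (Or.inl (congrArg mEl e)))))
  · exact Or.inr (Or.inr (Or.inr (Or.inl e)))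
  · exact Or.inr (Or.inr (Or.inr (Or.inr (Or.inr (Or.inl e)))))
  · exact Or.inr (Or.inr (Or.inr (Or.inr (Or.inr (Or.inr (Or.inl e))))))
  · exact Or.inr (Or.inr (Or.inr (Or.inr (Or.inr (Or.inr (Or.inr e))))))

theorem axor_mod : ∀ v w : Fin 64, v.val % 4 = 0 → w.val % 4 = 0 → (axor v w).val % 4 = 0 := by decide +kernel

include hA hK in
theorem not_M12 (h : Cfsg.Spor.IsoM12 K) : False := by
  haveI : Fact (Nat.Prime 2) := ⟨Nat.prime_two⟩
  obtain ⟨f⟩ := h
  have hmem : ∀ v : Fin 64, v.val % 4 = 0 → S.el v ∈ K := fun v hv => Lb_le_comp hA hK (pa_mem_Lb hv)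
  let W : Subgroup K :=
    { carrier := {x | ∃ v : Fin 64, v.val % 4 = 0 ∧ S.el v = (x : G)}
      one_mem' := ⟨0, by decide, S.el_zero⟩
      mul_mem' := by
        rintro x y ⟨v, hv, e1⟩ ⟨w, hw, e2⟩
        refine ⟨axor v w, axor_mod v w hv hw, by rw [← S.el_mul, e1, e2]; rfl⟩
      inv_mem' := by
        rintro x ⟨v, hv, e⟩
        exact ⟨v, hv, by rw [Subgroup.coe_inv, ← e, inv_eq_of_mul_eq_one_right (S.el_sq v)]⟩ }
  have hW : IsPGroup 2 W := fun x => ⟨1, Subtype.ext (Subtype.ext (by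
    obtain ⟨v, -, e⟩ := x.2
    show ((x : K) : G) ^ 2 ^ 1 = 1
    rw [pow_one, pow_two, ← e, S.el_sq]))⟩
  obtain ⟨P, hP⟩ := hW.exists_le_sylow
  let P' : Sylow 2 ↥Cfsg.Spor.M12 := P.mapSurjective (f := f.toMonoidHom) f.surjective
  obtain ⟨c, hc⟩ := Cfsg.Lib.MTwelveType.exists_typed P P'
    ⟨(P : Subgroup K).equivMapOfInjective f.toMonoidHom f.injective⟩
  subst hc
  let e : Fin 64 → Cfsg.Lib.MTwelveType.M4 := fun v =>
    if hv : v.val % 4 = 0 then c.e.symm ⟨⟨S.el v, hmem v hv⟩, hP ⟨v, hv, rfl⟩⟩ else 1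
  have he : ∀ v w : Fin 64, v.val % 4 = 0 → w.val % 4 = 0 → (axor v w).val % 4 = 0 → e v * e w = e (axor v w) := by
    intro v w hv hw hvw
    simp only [e, dif_pos hv, dif_pos hw, dif_pos hvw]
    rw [← map_mul]
    exact congrArg _ (Subtype.ext (Subtype.ext (S.el_mul v w)))
  have hinj : ∀ v w : Fin 64, v.val % 4 = 0 → w.val % 4 = 0 → e v = e w → v = w := by
    intro v w hv hw h
    simp only [e, dif_pos hv, dif_pos hw] at h
    exact S.el_inj (congrArg (fun z => ((z : (c.S : Subgroup K)) : K).1) (c.e.symm.injective h))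
  have h1 : e 0 = 1 := by
    simp only [e, dif_pos (show (0 : Fin 64).val % 4 = 0 from rfl)]
    exact (congrArg _ (Subtype.ext (Subtype.ext S.el_zero))).trans (map_one c.e.symm)
  have hsq : ∀ v : Fin 64, v.val % 4 = 0 → e v * e v = 1 := fun v hv => by
    have hz : ∀ a : Fin 64, axor a a = 0 := by decide +kernel
    rw [he v v hv hv (by rw [hz]; rfl), hz, h1]
  have hcom : ∀ v w : Fin 64, v.val % 4 = 0 → w.val % 4 = 0 → (axor v w).val % 4 = 0 → e v * e w = e w * e v := by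
    intro v w hv hw hvw
    rw [he v w hv hw hvw, he w v hw hv (by rw [axor_comm]; exact hvw), axor_comm]
  have hne : ∀ v w : Fin 64, v.val % 4 = 0 → w.val % 4 = 0 → v ≠ w → e v ≠ e w := fun v w hv hw hne h =>
    hne (hinj v w hv hw h)
  have e12 : e 4 * e 8 = e 12 := he 4 8 rfl rfl rfl
  have e20 : e 4 * e 16 = e 20 := he 4 16 rfl rfl rfl
  have e24 : e 8 * e 16 = e 24 := he 8 16 rfl rfl rfl
  have e28 : e 12 * e 16 = e 28 := he 12 16 rfl rfl rfl
  have key := no_sixteen_M4 (hsq 4 rfl) (hsq 8 rfl) (hcom 4 8 rfl rfl rfl)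
    (h1 ▸ hne 4 0 rfl rfl (by decide)) (h1 ▸ hne 8 0 rfl rfl (by decide)) (hne 8 4 rfl rfl (by decide))
    (hsq 16 rfl) (hcom 4 16 rfl rfl rfl) (hcom 8 16 rfl rfl rfl) (h1 ▸ hne 16 0 rfl rfl (by decide))
    (hne 16 4 rfl rfl (by decide)) (hne 16 8 rfl rfl (by decide)) (e12 ▸ hne 16 12 rfl rfl (by decide))
    (hsq 32 rfl) (hcom 4 32 rfl rfl rfl) (hcom 8 32 rfl rfl rfl) (hcom 16 32 rfl rfl rfl)
  rw [e12, e20, e24, e28, ← h1] at key
  rcases key with h | h | h | h | h | h | h | h <;>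
    exact hne _ _ rfl rfl (by decide) h

theorem card_sl_three_two : Nat.card (Matrix.ProjectiveSpecialLinearGroup (Fin 3) (ZMod 2)) ∣ 168 := by
  haveI : Fact (Nat.Prime 2) := ⟨Nat.prime_two⟩
  have h : Nat.card (GL (Fin 3) (ZMod 2)) = 168 := by
    rw [Matrix.card_GL_field]
    simp [Fin.prod_univ_three]
  have h1 : Nat.card (Matrix.ProjectiveSpecialLinearGroup (Fin 3) (ZMod 2)) ∣
      Nat.card (Matrix.SpecialLinearGroup (Fin 3) (ZMod 2)) := card_quotient_dvd_card _
  exact h1.trans (h ▸ card_dvd_of_injective Matrix.SpecialLinearGroup.toGL Matrix.SpecialLinearGroup.toGL_injective)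

include hA hK in
/-- The component is alternating of degree eight or nine. -/
theorem comp_cases : Nonempty (K ≃* alternatingGroup (Fin 8)) ∨ Nonempty (K ≃* alternatingGroup (Fin 9)) := by
  rcases classify (compHom hA hK) (compHom_inj hA hK) (compHom_range hA hK) (compHom_fused hA hK) with
    ⟨N, hN, -, -, h8, ⟨q⟩⟩ | h | h | h
  · exfalso
    have h1 := nine_dvd hA hK
    rw [card_eq_card_quotient_mul_card_subgroup N, h8, Nat.card_congr q.toEquiv] at h1
    have h2 := h1.trans (Nat.mul_dvd_mul_right card_sl_three_two 8)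
    norm_num at h2
  · exact Or.inl h
  · exact Or.inr h
  · exact (not_M12 hA hK h).elim

end Cfsg.Lib.AltTwelveCent
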