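import Mathlib
import Cfsg.Agent.AltTwelveCent.AltKernel
import Cfsg.Agent.AltTwelveCent.AltEmbed

/-!
The component is the alternating group on the points outside the first block, in a way that extends the model.
-/

set_option autoImplicit false
set_option linter.unusedSectionVars false
set_option linter.style.haveILetI false
set_option maxRecDepth 100000
set_option maxHeartbeats 1000000

namespace Cfsg.Lib.AltTwelveCent

open Equiv Cfsg.Lib.AltTwelveType

/-- The number of moved points. -/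
def movedNum {n : ℕ} (g : Fin n → Fin n) : ℕ := ((List.finRange n).filter fun x => decide (g x ≠ x)).length

/-- The points of the component by number. -/
def ptEmb : Bool → Fin 9 → Fin 13
  | _, i => if h : i.val < 8 then ⟨i.val + 4, by omega⟩ else 12

theorem ptEmb_injective : ∀ ext, ∀ i k : Fin 9, ptEmb ext i = ptEmb ext k → i = k := by decide +kernel

/-- The degree of the component. -/
def cdeg (ext : Bool) : ℕ := if ext then 9 else 8

theorem cdeg_le (ext : Bool) : cdeg ext ≤ 9 := by cases ext <;> decide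

/-- The points of the component. -/
def ptE (ext : Bool) : Fin (cdeg ext) ↪ Fin 13 :=
  ⟨fun i => ptEmb ext (Fin.castLE (cdeg_le ext) i), fun i k h =>
    Fin.castLE_injective (cdeg_le ext) (ptEmb_injective ext _ _ h)⟩

theorem ptE_range : ∀ ext : Bool, ∀ x : Fin 13, (∃ i, ptE ext i = x) ↔ x ∉ compPts ext := by decide +kernel

/-- A permutation fixing the points off the range comes from the range. -/
theorem exists_via {α β : Type*} [Finite α] (ι : α ↪ β) {τ : Perm β} (h : ∀ y, y ∉ Set.range ι → τ y = y) :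
    ∃ σ : Perm α, Perm.viaEmbeddingHom ι σ = τ := by
  have hr : ∀ x, ∃ y, ι y = τ (ι x) := fun x => by
    by_contra hne
    have h1 := τ.injective (h (τ (ι x)) (fun ⟨y, hy⟩ => hne ⟨y, hy⟩))
    exact hne ⟨x, h1.symm⟩
  choose s hs using hr
  refine ⟨Equiv.ofBijective s (Finite.injective_iff_bijective.1 fun a b hab => ι.injective (τ.injective (by
    rw [← hs, ← hs, hab]))), Equiv.ext fun y => ?_⟩
  by_cases hy : y ∈ Set.range ι
  · obtain ⟨x, rfl⟩ := hy
    rw [Perm.viaEmbeddingHom_apply, Perm.viaEmbedding_apply]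
    exact hs x
  · rw [Perm.viaEmbeddingHom_apply, Perm.viaEmbedding_apply_of_notMem _ _ _ hy, h y hy]

theorem via_mem (ext : Bool) {σ : Perm (Fin (cdeg ext))} (hs : Perm.sign σ = 1) :
    Perm.viaEmbeddingHom (ptE ext) σ ∈ AK ext := by
  refine ⟨?_, fun x hx => ?_⟩
  · rw [Perm.viaEmbeddingHom_apply]
    unfold Perm.viaEmbedding
    rw [Perm.sign_extendDomain]; exact hs
  · exact Perm.viaEmbedding_apply_of_notMem σ _ _ fun ⟨i, hi⟩ => (ptE_range ext x).1 ⟨i, hi⟩ hx

theorem exists_via_AK (ext : Bool) {τ : P13} (hτ : τ ∈ AK ext) :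
    ∃ σ : Perm (Fin (cdeg ext)), Perm.sign σ = 1 ∧ Perm.viaEmbeddingHom (ptE ext) σ = τ := by
  obtain ⟨σ, hσ⟩ := exists_via (ptE ext) (τ := τ) fun y hy => hτ.2 y (by
    by_contra hn; exact hy ((ptE_range ext y).2 hn))
  refine ⟨σ, ?_, hσ⟩
  have h := hτ.1
  rw [← hσ, Perm.viaEmbeddingHom_apply] at h
  unfold Perm.viaEmbedding at h
  rwa [Perm.sign_extendDomain] at h

theorem via_support {α β : Type*} [Fintype α] [Fintype β] [DecidableEq α] [DecidableEq β] (ι : α ↪ β) (σ : Perm α) :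
    (Perm.viaEmbeddingHom ι σ).support.card = σ.support.card := by
  rw [← Finset.card_map ι (s := σ.support)]
  congr 1
  ext y
  rw [Perm.mem_support, Finset.mem_map, Perm.viaEmbeddingHom_apply]
  by_cases hy : y ∈ Set.range ι
  · obtain ⟨x, rfl⟩ := hy
    simp [Perm.viaEmbedding_apply]
  · rw [Perm.viaEmbedding_apply_of_notMem _ _ _ hy]
    exact ⟨fun h => absurd rfl h, fun ⟨x, _, hx⟩ => absurd ⟨x, hx⟩ hy⟩

theorem invol_type {n : ℕ} (hn : n ≤ 9) {x : Perm (Fin n)} (h2 : x * x = 1) (hx : x ≠ 1) (hs : Perm.sign x = 1) :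
    x.cycleType = Multiset.replicate 2 2 ∨ x.cycleType = Multiset.replicate 4 2 := by
  obtain ⟨k, hk⟩ := Perm.cycleType_prime_order (σ := x) (by
    rw [orderOf_eq_prime (p := 2) (by rw [pow_two, h2]) hx]; exact Nat.prime_two)
  rw [orderOf_eq_prime (p := 2) (by rw [pow_two, h2]) hx] at hk
  have hle : x.cycleType.sum ≤ n := by
    have := Finset.card_le_univ x.support
    rw [Fintype.card_fin, ← Perm.sum_cycleType] at this
    exact this
  rw [Perm.sign_of_cycleType, hk, Multiset.sum_replicate, Multiset.card_replicate] at hs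
  rw [hk, Multiset.sum_replicate, smul_eq_mul] at hle
  have hk4 : k ≤ 3 := by omega
  rw [hk]
  interval_cases k
  · exact absurd hs (by decide)
  · exact Or.inl rfl
  · exact absurd hs (by decide)
  · exact Or.inr rfl

theorem cent_index_two {n : ℕ} {x : Perm (Fin n)} (h2 : x * x = 1) (hx : x ≠ 1) :
    2 * Nat.card ↥(alternatingGroup (Fin n) ⊓ Subgroup.centralizer ({x} : Set (Perm (Fin n)))) =
      Nat.card ↥(Subgroup.centralizer ({x} : Set (Perm (Fin n)))) := by
  set C := Subgroup.centralizer ({x} : Set (Perm (Fin n)))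
  let s : ↥C →* ℤˣ := Perm.sign.comp C.subtype
  obtain ⟨a, ha⟩ : ∃ a, x a ≠ a := by
    by_contra h
    push Not at h
    exact hx (Equiv.ext h)
  have hsw : swap a (x a) ∈ C := Subgroup.mem_centralizer_singleton_iff.2 (by
    have hxx : x (x a) = a := Equiv.congr_fun h2 a
    rw [Equiv.mul_swap_eq_swap_mul, hxx, swap_comm (x a) a])
  have hs : Function.Surjective s := by
    intro u
    rcases Int.units_eq_one_or u with rfl | rfl
    · exact ⟨1, map_one s⟩
    · exact ⟨⟨_, hsw⟩, Perm.sign_swap ha.symm⟩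
  have hk : Nat.card s.ker = Nat.card ↥(alternatingGroup (Fin n) ⊓ C) := Nat.card_congr
    { toFun := fun y => ⟨y.1.1, Perm.mem_alternatingGroup.2 y.2, y.1.2⟩
      invFun := fun y => ⟨⟨y.1, y.2.2⟩, Perm.mem_alternatingGroup.1 y.2.1⟩
      left_inv := fun _ => rfl
      right_inv := fun _ => rfl }
  have := s.ker.card_mul_index
  rw [Subgroup.index_ker, MonoidHom.range_eq_top.2 hs, hk, Subgroup.card_top, Nat.card_eq_fintype_card (α := ℤˣ),
    Fintype.card_units_int] at this
  omega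

theorem cent_four (ext : Bool) {x : Perm (Fin (cdeg ext))} (hc : x.cycleType = Multiset.replicate 2 2) :
    2 * 192 ≠ Nat.card ↥(Subgroup.centralizer ({x} : Set (Perm (Fin (cdeg ext))))) := by
  rw [Perm.nat_card_centralizer, hc]
  cases ext <;> simp [cdeg, Nat.factorial]

/-- The standard involution. -/
def sStd (ext : Bool) : Perm (Fin (cdeg ext)) :=
  match ext with
  | false => swap (0 : Fin 8) 1 * swap (2 : Fin 8) 3 * swap (4 : Fin 8) 5 * swap (6 : Fin 8) 7
  | true => swap (0 : Fin 9) 1 * swap (2 : Fin 9) 3 * swap (4 : Fin 9) 5 * swap (6 : Fin 9) 7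

theorem sStd_facts : ∀ ext : Bool, (sStd ext).cycleType = Multiset.replicate 4 2 ∧
    ∀ i, ptE ext (sStd ext i) = (if (ptE ext i).val < 4 then ptE ext i else abar (ptE ext i)) := by
  decide +kernel

/-- The candidates for the images of the generators. -/
def uList : List (Fin 24 × Fin 16) :=
  ((List.finRange 24).flatMap fun p => (List.finRange 16).map fun f => (p, f)).filter fun e =>
    evenF e.2 && decide (∀ x, lFun e.1 e.2 (lFun e.1 e.2 x) = x) && decide (movedNum (lFun e.1 e.2) = 4)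

/-- The candidate images satisfying the relations are conjugate to the generators. -/
def autTest : Bool :=
  let u := uList
  let F : Fin 24 × Fin 16 → Fin 12 → Fin 12 := fun e x => lFun e.1 e.2 x
  let same : (Fin 12 → Fin 12) → (Fin 12 → Fin 12) → Bool := fun g h => (List.finRange 12).all fun x => g x == h x
  u.all fun a => u.all fun b => !same (F a ∘ F b) (F b ∘ F a) || !decide (movedNum (F a ∘ F b) = 4) ||
    u.all fun d => !same (F b ∘ F d ∘ F b ∘ F d) id || !decide (movedNum (F b ∘ F d) = 8) ||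
      !same (F a ∘ F d ∘ F a ∘ F d) id ||
      u.all fun c => !same (F b ∘ F c ∘ F b ∘ F c ∘ F b ∘ F c) id || same (F b) (F c) ||
        same (F a ∘ F c ∘ F a ∘ F c) id || !same (F a ∘ F c ∘ F a ∘ F c ∘ F a ∘ F c ∘ F a ∘ F c) id ||
        !same (F c ∘ F d ∘ F c ∘ F d ∘ F c ∘ F d) id || same (F c) (F d) ||
        (List.finRange 24).any fun p => (List.finRange 16).any fun f =>
          let σ : Fin 12 → Fin 12 := lFun p f
          same (F a ∘ σ) (σ ∘ aFun 4) && same (F b ∘ σ) (σ ∘ aFun 8) && same (F c ∘ σ) (σ ∘ lFun 2 0) &&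
            same (F d ∘ σ) (σ ∘ aFun 32)

theorem autTest_true : autTest = true := by decide +kernel

theorem gen_eqs : lswap 1 = lq 2 0 ∧
    (pa 16).1 = ((lswap 1 * pa 8 * pa 32 * lswap 1) * pa 4 * (lswap 1 * pa 8 * pa 32 * lswap 1)⁻¹).1 ∧
    (lq 8 0).1 = (pa 8 * lswap 1).1 := by
  refine ⟨rfl, ?_, ?_⟩ <;> decide +kernel

/-- The model is generated by four involutions. -/
theorem Lb_le_gens {K : Subgroup Mh} (h4 : pa 4 ∈ K) (h8 : pa 8 ∈ K) (h32 : pa 32 ∈ K) (hc : lq 2 0 ∈ K) : Lb ≤ K := by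
  obtain ⟨e1, e16, e8⟩ := gen_eqs
  rw [← e1] at hc
  have h16 : pa 16 ∈ K := by
    rw [Subtype.ext e16]
    have := mul_mem (mul_mem (mul_mem hc h8) h32) hc
    exact mul_mem (mul_mem this h4) (inv_mem this)
  have hg : lq 8 0 ∈ K := by rw [Subtype.ext e8]; exact mul_mem h8 hc
  intro m hm
  obtain ⟨p, f, hf, rfl⟩ := lb_coord hm
  have he : lq p f = (flipWord f).prod * ((pWord.getD p.val []).map lswap).prod :=
    Subtype.ext (Equiv.ext fun x => (lq_val_apply hf x).trans (word_facts p f hf x))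
  rw [he]
  refine mul_mem (list_prod_mem fun x hx => ?_) (list_prod_mem fun x hx => ?_)
  · have hB := mul_mem (mul_mem hg h4) (inv_mem hg)
    unfold flipWord at hx
    split at hx <;> simp at hx <;> rcases hx with rfl | rfl | rfl <;> assumption
  · obtain ⟨i, hi, rfl⟩ := List.mem_map.1 hx
    obtain ⟨e0, e2, -⟩ := lswap_facts
    have hi3 : i = 0 ∨ i = 1 ∨ i = 2 := by have := pWord_lt p i hi; omega
    rcases hi3 with rfl | rfl | rfl
    · rw [Subtype.ext e0]; exact h8
    · exact hc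
    · rw [Subtype.ext e2]; exact h32

theorem incl_αp : incl αp = abar := by
  refine Equiv.ext fun x => ?_
  induction x using Fin.lastCases with
  | last => rw [show (Fin.last 12 : Fin 13) = 12 from rfl, incl_last]; decide +kernel
  | cast x => rw [incl_cast]; revert x; decide +kernel

theorem incl_mem_Hb (m : Mh) : incl m.1 ∈ Hb := by
  refine mem_Hb.2 ⟨⟨(incl_sign _).trans (Perm.mem_alternatingGroup.1 m.2.1), incl_last _⟩, ?_⟩
  rw [← incl_αp, ← map_mul, ← map_mul, Subgroup.mem_centralizer_singleton_iff.1 m.2.2]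

theorem exists_model {x : P13} (hx : x ∈ Hb) : ∃ m : Mh, incl m.1 = x := by
  obtain ⟨⟨hs, h12⟩, hc⟩ := mem_Hb.1 hx
  obtain ⟨σ, rfl⟩ := exists_incl h12
  rw [incl_sign] at hs
  rw [← incl_αp, ← map_mul, ← map_mul] at hc
  exact ⟨⟨σ, Perm.mem_alternatingGroup.2 hs, Subgroup.mem_centralizer_singleton_iff.2 (incl_injective hc)⟩, rfl⟩

theorem cast_val (x : Fin 12) : (Fin.castSucc x).val = x.val := rfl

theorem compPts_iff : ∀ ext : Bool, ∀ x : Fin 13, x ∈ compPts ext → x.val < 4 ∨ x = 12 := by decide +kernel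

theorem low_mem_compPts : ∀ ext : Bool, ∀ x : Fin 13, x.val < 4 → x ∈ compPts ext := by decide +kernel

theorem incl_Lb_mem (ext : Bool) {m : Mh} (hm : m ∈ Lb) : incl m.1 ∈ AK ext := by
  refine ⟨(incl_sign _).trans (Perm.mem_alternatingGroup.1 m.2.1), fun x hx => ?_⟩
  rcases compPts_iff ext x hx with h | rfl
  · induction x using Fin.lastCases with
    | last => exact incl_last _
    | cast x => rw [incl_cast, hm x h]
  · exact incl_last _

/-- An element of the component commuting with the model involution lies in the model. -/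
theorem AK_cent (ext : Bool) {τ : P13} (hτ : τ ∈ AK ext) (hc : τ * incl (pa 20).1 = incl (pa 20).1 * τ) :
    ∃ p f, evenF f = true ∧ τ = incl (lPerm p f) := by
  have hlow : ∀ x : Fin 13, x.val < 4 → τ x = x := fun x hx => hτ.2 x (low_mem_compPts ext x hx)
  have happ : ∀ x, τ (incl (pa 20).1 x) = incl (pa 20).1 (τ x) := fun x => congrArg (fun z : P13 => z x) hc
  have hfix : ∀ x : Fin 13, incl (pa 20).1 x = x → x.val < 4 ∨ x = 12 := by
    intro x
    induction x using Fin.lastCases with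
    | last => exact fun _ => Or.inr rfl
    | cast x =>
      rw [incl_cast, Fin.castSucc_inj, cast_val]
      have key : ∀ x : Fin 12, aFun 20 x = x → x.val < 4 := by decide +kernel
      exact fun h => Or.inl (key x h)
  have h12 : τ 12 = 12 := by
    have h20 : incl (pa 20).1 12 = 12 := incl_last _
    have h := happ 12
    rw [h20] at h
    rcases hfix _ h.symm with hl | he
    · have he : τ (τ 12) = τ 12 := hlow _ hl
      rw [τ.injective he] at hl
      exact absurd hl (by decide)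
    · exact he
  have hHb : τ ∈ Hb := by
    refine mem_Hb.2 ⟨⟨hτ.1, h12⟩, Equiv.ext fun x => ?_⟩
    show τ (abar x) = abar (τ x)
    have key : ∀ x : Fin 13, (4 ≤ x.val ∧ x ≠ 12 → abar x = incl (pa 20).1 x) ∧ (x.val < 4 → (abar x).val < 4) ∧
        (x = 12 → abar x = x) := by
      intro x
      induction x using Fin.lastCases with
      | last =>
        refine ⟨fun h => absurd rfl h.2, fun h => absurd h (by decide), fun _ => ?_⟩
        decide +kernel
      | cast x =>
        rw [incl_cast]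
        revert x; decide +kernel
    by_cases hx : x.val < 4
    · rw [hlow x hx, hlow _ ((key x).2.1 hx)]
    by_cases hx12 : x = 12
    · subst hx12; rw [(key 12).2.2 rfl, h12, (key 12).2.2 rfl]
    have h4 : 4 ≤ (τ x).val := by
      by_contra hlt
      exact hx (by rw [← τ.injective (hlow (τ x) (by omega))]; omega)
    rw [(key x).1 ⟨by omega, hx12⟩, happ, ← (key (τ x)).1 ⟨h4, fun h => hx12 (τ.injective (h.trans h12.symm))⟩]
  obtain ⟨m, hm⟩ := exists_model hHb
  have hmL : m ∈ Lb := fun x hx => Fin.castSucc_injective _ (by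
    rw [← incl_cast, hm]; exact hlow _ hx)
  obtain ⟨p, f, hf, rfl⟩ := lb_coord hmL
  exact ⟨p, f, hf, by rw [← hm, lq_val hf]⟩

theorem lPerm_app (p : Fin 24) (f : Fin 16) (x : Fin 12) : lPerm p f x = lFun p f x := rfl

theorem moved_support {n : ℕ} (g : Perm (Fin n)) : movedNum g = g.support.card := by
  unfold movedNum
  rw [← List.toFinset_card_of_nodup ((List.nodup_finRange n).filter _)]
  congr 1
  ext x
  simp

theorem moved_incl (σ : Perm (Fin 12)) : (incl σ).support.card = movedNum σ := by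
  rw [moved_support]
  rw [← Finset.card_map Fin.castSuccEmb (s := σ.support)]
  congr 1
  ext x
  induction x using Fin.lastCases with
  | last =>
    simp [show (Fin.last 12 : Fin 13) = 12 from rfl, incl_last]
    exact fun x _ h => absurd (congrArg Fin.val h) (Nat.ne_of_lt x.isLt)
  | cast x => simp [incl_cast]

variable {G : Type*} [Group G] [Finite G] {S : Setting G} (hA : ∀ v, S.o v = oAlt v) {K : Subgroup G} (hK : IsComp S K)

include hA hK in
/-- The component matched with the alternating group on its points. -/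
theorem exists_match (ext : Bool) (e : K ≃* alternatingGroup (Fin (cdeg ext))) :
    ∃ j : AK ext →* G, Function.Injective j ∧ j.range = K ∧
      ∀ m (hm : m ∈ Lb), j ⟨incl m.1, incl_Lb_mem ext hm⟩ = S.φ m := by
  let ψ := compHom hA hK
  let θ₀ : K →* Perm (Fin (cdeg ext)) := (alternatingGroup (Fin (cdeg ext))).subtype.comp e.toMonoidHom
  have hθ₀ : Function.Injective θ₀ := Subtype.val_injective.comp e.injective
  have hθ₀s : ∀ k, Perm.sign (θ₀ k) = 1 := fun k => Perm.mem_alternatingGroup.1 (e k).2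
  let s : K := ψ ⟨sL, sL_mem⟩
  have hs2 : s * s = 1 := by
    rw [← map_mul, show (⟨sL, sL_mem⟩ : Lb) * ⟨sL, sL_mem⟩ = 1 from Subtype.ext sL_facts.1, map_one]
  have hs1 : s ≠ 1 := fun h => sL_facts.2 (congrArg Subtype.val (compHom_inj hA hK (h.trans (map_one ψ).symm)))
  -- the distinguished involution has four cycles
  have hstype : (θ₀ s).cycleType = Multiset.replicate 4 2 := by
    refine (invol_type (cdeg_le ext) (by rw [← map_mul, hs2, map_one]) (fun h => hs1 (hθ₀ (h.trans (map_one θ₀).symm)))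
      (hθ₀s s)).resolve_left fun h => cent_four ext h ?_
    rw [← cent_index_two (by rw [← map_mul, hs2, map_one]) (fun h => hs1 (hθ₀ (h.trans (map_one θ₀).symm)))]
    have hC : Nat.card (Subgroup.centralizer ({s} : Set K)) = 192 := by
      rw [← compHom_range hA hK, ← Nat.card_congr (MonoidHom.ofInjective (compHom_inj hA hK)).toEquiv]
      have := splitHom.ker.card_mul_index
      rw [card_ker, Subgroup.index_ker, MonoidHom.range_eq_top.2 splitHom_surjective, Subgroup.card_top,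
        Nat.card_perm, Nat.card_fin] at this
      rw [← this]; rfl
    rw [← hC]
    congr 1
    exact Nat.card_congr
      { toFun := fun c => ⟨θ₀ c, Perm.mem_alternatingGroup.2 (hθ₀s c), Subgroup.mem_centralizer_singleton_iff.2 (by
          rw [← map_mul, ← map_mul, Subgroup.mem_centralizer_singleton_iff.1 c.2])⟩
        invFun := fun c => ⟨e.symm ⟨c, c.2.1⟩, Subgroup.mem_centralizer_singleton_iff.2 (hθ₀ (by
          rw [map_mul, map_mul]
          simp only [θ₀, MonoidHom.coe_comp, Function.comp_apply, MulEquiv.coe_toMonoidHom, MulEquiv.apply_symm_apply,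
            Subgroup.coe_subtype]
          exact Subgroup.mem_centralizer_singleton_iff.1 c.2.2))⟩
        left_inv := fun c => Subtype.ext (e.injective (by simp [θ₀]))
        right_inv := fun c => Subtype.ext (by simp [θ₀]) }
  obtain ⟨σ₀, hσ₀⟩ := isConj_iff.1 (Perm.isConj_iff_cycleType_eq.2 (hstype.trans (sStd_facts ext).1.symm))
  let θ : K →* Perm (Fin (cdeg ext)) := (MulAut.conj σ₀).toMonoidHom.comp θ₀
  have hθ : Function.Injective θ := fun a b h => hθ₀ (MulEquiv.injective (MulAut.conj σ₀) h)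
  have hθs : ∀ k, Perm.sign (θ k) = 1 := fun k => by
    show Perm.sign (σ₀ * θ₀ k * σ₀⁻¹) = 1
    rw [map_mul, map_mul, hθ₀s, mul_one, map_inv, mul_inv_cancel]
  let J : K →* P13 := (Perm.viaEmbeddingHom (ptE ext)).comp θ
  have hJ : Function.Injective J := (Perm.viaEmbeddingHom_injective _).comp hθ
  have hJmem : ∀ k, J k ∈ AK ext := fun k => via_mem ext (hθs k)
  have hJs : J s = incl (pa 20).1 := by
    show Perm.viaEmbeddingHom (ptE ext) (σ₀ * θ₀ s * σ₀⁻¹) = _
    rw [hσ₀]
    refine Equiv.ext fun x => ?_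
    by_cases hx : x ∈ compPts ext
    · rw [Perm.viaEmbeddingHom_apply, Perm.viaEmbedding_apply_of_notMem _ _ _ fun ⟨i, hi⟩ => (ptE_range ext x).1 ⟨i, hi⟩ hx]
      exact ((incl_Lb_mem ext (pa_mem_Lb (v := 20) rfl)).2 x hx).symm
    · obtain ⟨i, rfl⟩ := (ptE_range ext x).2 hx
      rw [Perm.viaEmbeddingHom_apply, Perm.viaEmbedding_apply, (sStd_facts ext).2]
      have key : ∀ x : Fin 13, (if x.val < 4 then x else abar x) =
          (if h : x.val < 12 then (aFun 20 ⟨x.val, h⟩).castSucc else 12) := by decide +kernel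
      rw [key]
      generalize ptE ext i = x
      induction x using Fin.lastCases with
      | last => rw [dif_neg (by simp), show (Fin.last 12 : Fin 13) = 12 from rfl, incl_last]
      | cast x => rw [dif_pos (show (Fin.castSucc x).val < 12 from x.isLt), incl_cast]; rfl
  have hJrange : ∀ τ ∈ AK ext, ∃ k, J k = τ := by
    intro τ hτ
    obtain ⟨σ, hσ, rfl⟩ := exists_via_AK ext hτ
    refine ⟨e.symm ⟨σ₀⁻¹ * σ * σ₀, Perm.mem_alternatingGroup.2 (by
      rw [map_mul, map_mul, hσ, mul_one, map_inv, inv_mul_cancel])⟩, ?_⟩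
    show Perm.viaEmbeddingHom _ (σ₀ * θ₀ _ * σ₀⁻¹) = _
    simp [θ₀, mul_assoc]
  -- the supports of the images
  have hsupp : ∀ k : K, k * k = 1 → k ≠ 1 → ((J k).support.card = 4 ∨ ∃ c : K, c * k * c⁻¹ = s) := by
    intro k hk hk1
    rcases invol_type (cdeg_le ext) (by rw [← map_mul, hk, map_one]) (fun h => hk1 (hθ₀ (h.trans (map_one θ₀).symm)))
      (hθ₀s k) with h | h
    · refine Or.inl ?_
      show (Perm.viaEmbeddingHom (ptE ext) (σ₀ * θ₀ k * σ₀⁻¹)).support.card = 4
      rw [via_support, Perm.card_support_conj, ← Perm.sum_cycleType, h]; rfl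
    · refine Or.inr ?_
      obtain ⟨c, hc⟩ := isConj_iff.1 (Perm.isConj_iff_cycleType_eq.2 (h.trans hstype.symm))
      obtain ⟨d, hd, hds⟩ : ∃ d, Perm.sign d = 1 ∧ d * θ₀ k * d⁻¹ = θ₀ s := by
        rcases Int.units_eq_one_or (Perm.sign c) with hc1 | hc1
        · exact ⟨c, hc1, hc⟩
        obtain ⟨a, ha⟩ : ∃ a, θ₀ s a ≠ a := by
          by_contra hcon
          push Not at hcon
          exact hs1 (hθ₀ ((Equiv.ext hcon).trans (map_one θ₀).symm))
        have hss : θ₀ s * θ₀ s = 1 := by rw [← map_mul, hs2, map_one]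
        have hcomm : swap a (θ₀ s a) * θ₀ s = θ₀ s * swap a (θ₀ s a) := by
          rw [Equiv.mul_swap_eq_swap_mul, show θ₀ s (θ₀ s a) = a from Equiv.congr_fun hss a, swap_comm (θ₀ s a) a]
        refine ⟨swap a (θ₀ s a) * c, by rw [map_mul, Perm.sign_swap ha.symm, hc1]; decide, ?_⟩
        rw [mul_inv_rev, show swap a (θ₀ s a) * c * θ₀ k * (c⁻¹ * (swap a (θ₀ s a))⁻¹) =
          swap a (θ₀ s a) * (c * θ₀ k * c⁻¹) * (swap a (θ₀ s a))⁻¹ by group, hc, hcomm, mul_inv_cancel_right]
      refine ⟨e.symm ⟨d, Perm.mem_alternatingGroup.2 hd⟩, hθ₀ ?_⟩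
      rw [map_mul, map_mul, map_inv]
      simpa [θ₀] using hds
  have h4 : ∀ (m : Mh) (hm : m ∈ Lb) (v : Fin 64), weight v = 1 → IsConj (S.φ m) (S.el v) →
      (J (ψ ⟨m, hm⟩)).support.card = 4 := by
    intro m hm v hv hconj
    have hw : ¬ IsConj (S.φ m) (S.el 20) := fun h => by
      have := (Setting.conj_iff_weight hA).1 (hconj.symm.trans h)
      rw [hv] at this
      exact absurd this (by decide +kernel)
    have hm1 : ψ ⟨m, hm⟩ ≠ 1 := fun h => by
      obtain ⟨g, hg⟩ := isConj_iff.1 hconj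
      rw [show S.φ m = 1 from congrArg Subtype.val h, mul_one, mul_inv_cancel] at hg
      have hv0 := S.el_inj (hg.symm.trans S.el_zero.symm)
      rw [hv0] at hv
      exact absurd hv (by decide +kernel)
    have hmsq : ψ ⟨m, hm⟩ * ψ ⟨m, hm⟩ = 1 := Subtype.ext (by
      obtain ⟨g, hg⟩ := isConj_iff.1 hconj
      show S.φ m * S.φ m = 1
      have e1 : S.φ m = g⁻¹ * S.el v * g := by rw [← hg]; group
      rw [e1, show g⁻¹ * S.el v * g * (g⁻¹ * S.el v * g) = g⁻¹ * (S.el v * S.el v) * g by group, S.el_sq]; group)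
    refine (hsupp _ hmsq hm1).resolve_right fun ⟨c, hc⟩ => hw (isConj_iff.2 ⟨c, congrArg Subtype.val hc⟩)
  have hcoord : ∀ (m : Mh) (hm : m ∈ Lb), ∃ p f, evenF f = true ∧ J (ψ ⟨m, hm⟩) = incl (lPerm p f) := by
    intro m hm
    refine AK_cent ext (hJmem _) ?_
    rw [← hJs, ← map_mul J, ← map_mul J]
    refine congrArg J ?_
    have hc := compHom_range hA hK
    exact Subgroup.mem_centralizer_singleton_iff.1 (hc ▸ (⟨⟨m, hm⟩, rfl⟩ : ψ ⟨m, hm⟩ ∈ ψ.range))
  have hc2 : lq 2 0 ∈ Lb := lq_mem 2 0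
  obtain ⟨pa', fa', hfa, ea⟩ := hcoord (pa 4) (pa_mem_Lb rfl)
  obtain ⟨pb, fb, hfb, eb⟩ := hcoord (pa 8) (pa_mem_Lb rfl)
  obtain ⟨pc, fc, hfc, ec⟩ := hcoord (lq 2 0) hc2
  obtain ⟨pd, fd, hfd, ed⟩ := hcoord (pa 32) (pa_mem_Lb rfl)
  -- words are sent to words
  let Φ : Lb →* P13 := J.comp ψ
  have hfun : ∀ (m : Lb) (p : Fin 24) (f : Fin 16), Φ m = incl (lPerm p f) → ∀ (n : Lb) (q : Fin 24) (g : Fin 16),
      Φ n = incl (lPerm q g) → Φ (m * n) = incl (lPerm p f * lPerm q g) := fun m p f hm n q g hn => by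
    rw [map_mul Φ, hm, hn, map_mul incl]
  have hrel1 : ∀ {σ : Perm (Fin 12)} {m : Lb}, Φ m = incl σ → (m = 1 ↔ σ = 1) := fun {σ m} h =>
    ⟨fun h1 => incl_injective (by rw [← h, h1, map_one, map_one]),
     fun h1 => compHom_inj hA hK (hJ (by show Φ m = J (ψ 1); rw [h, h1, map_one, map_one, map_one]))⟩
  set A : Lb := ⟨pa 4, pa_mem_Lb rfl⟩
  set B : Lb := ⟨pa 8, pa_mem_Lb rfl⟩
  set C : Lb := ⟨lq 2 0, hc2⟩
  set D : Lb := ⟨pa 32, pa_mem_Lb rfl⟩
  have hΦA : Φ A = incl (lPerm pa' fa') := ea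
  have hΦB : Φ B = incl (lPerm pb fb) := eb
  have hΦC : Φ C = incl (lPerm pc fc) := ec
  have hΦD : Φ D = incl (lPerm pd fd) := ed
  have hmoved : ∀ {m : Lb} {σ : Perm (Fin 12)}, Φ m = incl σ → (J (ψ m)).support.card = movedNum σ :=
    fun {m σ} h => by rw [show J (ψ m) = incl σ from h, moved_incl]
  have facts : (pa 4 * pa 8).1 = (pa 12).1 ∧ (pa 8 * pa 32).1 = (pa 40).1 ∧
      (lq 2 0).1 = (lq 8 0 * pa 8 * (lq 8 0)⁻¹).1 ∧
      ((pa 8 * lq 2 0) * (pa 8 * lq 2 0) * (pa 8 * lq 2 0)).1 = 1 ∧ (pa 8).1 ≠ (lq 2 0).1 ∧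
      ((lq 2 0 * pa 32) * (lq 2 0 * pa 32) * (lq 2 0 * pa 32)).1 = 1 ∧ (lq 2 0).1 ≠ (pa 32).1 ∧
      ((pa 4 * lq 2 0) * (pa 4 * lq 2 0)).1 ≠ 1 ∧
      ((pa 4 * lq 2 0) * (pa 4 * lq 2 0) * ((pa 4 * lq 2 0) * (pa 4 * lq 2 0))).1 = 1 ∧
      ((pa 4 * pa 32) * (pa 4 * pa 32)).1 = 1 ∧ ((pa 8 * pa 32) * (pa 8 * pa 32)).1 = 1 ∧
      (pa 4 * pa 8).1 = (pa 8 * pa 4).1 := by decide +kernel
  obtain ⟨f12, f40, fcj, fbc, fbc', fcd, fcd', fac', fac, fad, fbd, fab⟩ := facts
  have wts : weight 4 = 1 ∧ weight 8 = 1 ∧ weight 32 = 1 ∧ weight 12 = 1 := by decide +kernel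
  have hel : ∀ v, IsConj (S.φ (pa v)) (S.el v) := fun v => IsConj.refl _
  have sA : movedNum (lPerm pa' fa') = 4 := (hmoved hΦA).symm.trans (h4 (pa 4) (pa_mem_Lb rfl) 4 wts.1 (hel 4))
  have sB' : movedNum (lPerm pb fb) = 4 := (hmoved hΦB).symm.trans (h4 (pa 8) (pa_mem_Lb rfl) 8 wts.2.1 (hel 8))
  have sD : movedNum (lPerm pd fd) = 4 := (hmoved hΦD).symm.trans (h4 (pa 32) (pa_mem_Lb rfl) 32 wts.2.2.1 (hel 32))
  have sC : movedNum (lPerm pc fc) = 4 := (hmoved hΦC).symm.trans (h4 (lq 2 0) hc2 8 wts.2.1 (isConj_iff.2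
    ⟨(S.φ (lq 8 0))⁻¹, by rw [inv_inv, ← map_inv, ← map_mul, ← map_mul, Subtype.ext fcj]; simp [Setting.el, mul_assoc]⟩))
  have sAB : movedNum (lPerm pa' fa' * lPerm pb fb) = 4 := by
    rw [← hmoved (hfun A pa' fa' hΦA B pb fb hΦB)]
    refine h4 (pa 4 * pa 8) (mul_mem A.2 B.2) 12 wts.2.2.2 ?_
    rw [Subtype.ext f12]; exact hel 12
  have sBD : movedNum (lPerm pb fb * lPerm pd fd) = 8 := by
    rw [← hmoved (hfun B pb fb hΦB D pd fd hΦD)]
    obtain ⟨g, x, -, hg⟩ := compHom_fused hA hK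
    obtain ⟨n1, h1⟩ := Setting.ind_cycle hA 1
    obtain ⟨n2, h2⟩ := Setting.ind_cycle hA 2
    obtain ⟨v, hv, hk⟩ := hK.split _ (mul_mem (cycle_mem_C0 hA 1 (Or.inl rfl) h1) (cycle_mem_C0 hA 2 (Or.inr rfl) h2))
    have hcj : ψ (B * D) = ⟨_, hk⟩ * s * (⟨_, hk⟩ : K)⁻¹ := Subtype.ext (by
      show S.φ (pa 8 * pa 32) = S.el v * (n1 * n2) * S.el 20 * (S.el v * (n1 * n2))⁻¹
      rw [show S.el v * (n1 * n2) * S.el 20 * (S.el v * (n1 * n2))⁻¹ =
        S.el v * (n1 * (n2 * S.el 20 * n2⁻¹) * n1⁻¹) * (S.el v)⁻¹ by group, h2, h1, blocks_facts.2.2.2.2.2.2,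
        S.el_comm v 40, mul_inv_cancel_right, Subtype.ext f40]; rfl)
    rw [hcj, map_mul, map_mul, map_inv, Perm.card_support_conj, hJs, moved_incl]
    decide +kernel
  have hrel : ∀ {m : Lb} {σ : Perm (Fin 12)}, Φ m = incl σ → (m : Mh).1 = 1 → σ = 1 := fun h h1 =>
    (hrel1 h).1 (Subtype.ext (Subtype.ext h1))
  have hne : ∀ {m : Lb} {σ : Perm (Fin 12)}, Φ m = incl σ → (m : Mh).1 ≠ 1 → σ ≠ 1 := fun h h1 h2 =>
    h1 (by rw [(hrel1 h).2 h2]; rfl)
  have two : ∀ {m n : Lb} {σ τ : Perm (Fin 12)}, Φ m = incl σ → Φ n = incl τ → Φ (m * n) = incl (σ * τ) :=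
    fun h h' => by rw [map_mul Φ, h, h', map_mul incl]
  have pAD := two (two hΦA hΦD) (two hΦA hΦD)
  have pBD := two (two hΦB hΦD) (two hΦB hΦD)
  have pBC := two (two (two hΦB hΦC) (two hΦB hΦC)) (two hΦB hΦC)
  have pCD := two (two (two hΦC hΦD) (two hΦC hΦD)) (two hΦC hΦD)
  have pAC := two (two hΦA hΦC) (two hΦA hΦC)
  have pAC4 := two pAC pAC
  have hsq : ∀ {m : Lb} {σ : Perm (Fin 12)}, Φ m = incl σ → (m : Mh) * (m : Mh) = 1 → ∀ x, σ (σ x) = x :=
    fun h h1 x => Equiv.congr_fun (hrel (two h h) (congrArg Subtype.val h1)) x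
  have hu : ∀ {p : Fin 24} {f : Fin 16}, evenF f = true → (∀ x, lPerm p f (lPerm p f x) = x) →
      movedNum (lPerm p f) = 4 → (p, f) ∈ uList := fun {p f} he hi hm => by
    simp only [uList, List.mem_filter, List.mem_flatMap, List.mem_map, List.mem_finRange, true_and, Prod.mk.injEq,
      Bool.and_eq_true, decide_eq_true_eq]
    exact ⟨⟨p, f, rfl, rfl⟩, ⟨he, hi⟩, hm⟩
  have sqC : (lq 2 0 * lq 2 0 : Mh) = 1 := by
    apply Subtype.ext; decide +kernel
  have hT := autTest_true
  simp only [autTest, List.all_eq_true, Bool.or_eq_true, Bool.not_eq_true', Bool.and_eq_true, decide_eq_false_iff_not,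
    List.any_eq_true, beq_iff_eq, List.mem_finRange, true_and, forall_const] at hT
  have fls : ∀ {g h : Fin 12 → Fin 12}, ((List.finRange 12).all fun x => g x == h x) = false → ¬ (∀ x, g x = h x) := by
    intro g h hf hall
    rw [List.all_eq_false] at hf
    obtain ⟨x, -, hx⟩ := hf
    simp [hall x] at hx
  obtain ⟨p, f, hσa, hσb, hσc, hσd⟩ : ∃ p f, lPerm pa' fa' * lPerm p f = lPerm p f * (pa 4).1 ∧
      lPerm pb fb * lPerm p f = lPerm p f * (pa 8).1 ∧ lPerm pc fc * lPerm p f = lPerm p f * (lq 2 0).1 ∧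
      lPerm pd fd * lPerm p f = lPerm p f * (pa 32).1 := by
    rcases hT _ (hu hfa (hsq hΦA (pa_sq 4)) sA) _ (hu hfb (hsq hΦB (pa_sq 8)) sB') with (h | h) | h
    · exact absurd (fun x => Equiv.congr_fun (incl_injective ((two hΦA hΦB).symm.trans
        ((congrArg Φ (Subtype.ext (Subtype.ext fab))).trans (two hΦB hΦA)))) x) (fls h)
    · exact absurd sAB h
    rcases h _ (hu hfd (hsq hΦD (pa_sq 32)) sD) with ((h | h) | h) | h
    · refine absurd (fun x => ?_) (fls h)
      have := Equiv.congr_fun (hrel pBD fbd) x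
      simp only [Perm.mul_apply, lPerm_app, Perm.one_apply] at this
      simpa only [Function.comp_apply, id_eq] using this
    · exact absurd sBD h
    · refine absurd (fun x => ?_) (fls h)
      have := Equiv.congr_fun (hrel pAD fad) x
      simp only [Perm.mul_apply, lPerm_app, Perm.one_apply] at this
      simpa only [Function.comp_apply, id_eq] using this
    rcases h _ (hu hfc (hsq hΦC sqC) sC) with (((((h | h) | h) | h) | h) | h) | h
    · refine absurd (fun x => ?_) (fls h)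
      have := Equiv.congr_fun (hrel pBC fbc) x
      simp only [Perm.mul_apply, lPerm_app, Perm.one_apply] at this
      simpa only [Function.comp_apply, id_eq] using this
    · exfalso
      have heq : B = C := compHom_inj hA hK (hJ (by
        show Φ B = Φ C
        rw [hΦB, hΦC]; exact congrArg incl (Equiv.ext fun x => h x)))
      exact fbc' (congrArg (fun z : Lb => (z : Mh).1) heq)
    · refine absurd (Equiv.ext fun x => ?_) (hne pAC fac')
      simp only [Perm.mul_apply, lPerm_app, Perm.one_apply]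
      simpa only [Function.comp_apply, id_eq] using h x
    · refine absurd (fun x => ?_) (fls h)
      have := Equiv.congr_fun (hrel pAC4 fac) x
      simp only [Perm.mul_apply, lPerm_app, Perm.one_apply] at this
      simpa only [Function.comp_apply, id_eq] using this
    · refine absurd (fun x => ?_) (fls h)
      have := Equiv.congr_fun (hrel pCD fcd) x
      simp only [Perm.mul_apply, lPerm_app, Perm.one_apply] at this
      simpa only [Function.comp_apply, id_eq] using this
    · exfalso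
      have heq : C = D := compHom_inj hA hK (hJ (by
        show Φ C = Φ D
        rw [hΦC, hΦD]; exact congrArg incl (Equiv.ext fun x => h x)))
      exact fcd' (congrArg (fun z : Lb => (z : Mh).1) heq)
    obtain ⟨p, f, ⟨⟨ha, hb⟩, hc⟩, hd⟩ := h
    refine ⟨p, f, Equiv.ext fun x => ha x, Equiv.ext fun x => hb x, Equiv.ext fun x => ?_, Equiv.ext fun x => hd x⟩
    show lFun pc fc (lFun p f x) = lFun p f ((lq 2 0).1 x)
    rw [lq_val_apply (by decide +kernel)]
    exact hc x
  let τ : P13 := incl (lPerm p f)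
  have hτfix : ∀ x, x ∈ compPts ext → τ x = x := fun x hx => by
    rcases compPts_iff ext x hx with h | rfl
    · induction x using Fin.lastCases with
      | last => exact incl_last _
      | cast x =>
        show incl (lPerm p f) x.castSucc = x.castSucc
        rw [incl_cast]
        congr 1
        show lFun p f x = x
        have h' : x.val < 4 := h
        simp [lFun, h']
    · exact incl_last _
  let J' : K →* P13 := (MulAut.conj τ⁻¹).toMonoidHom.comp J
  have hJ'val : ∀ k, J' k = τ⁻¹ * J k * τ := fun k => by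
    show τ⁻¹ * J k * τ⁻¹⁻¹ = _
    rw [inv_inv]
  have hnorm : ∀ z ∈ AK ext, τ * z * τ⁻¹ ∈ AK ext ∧ τ⁻¹ * z * τ ∈ AK ext := fun z hz => by
    have hti : ∀ x, x ∈ compPts ext → τ⁻¹ x = x := fun x hx => by rw [Perm.inv_eq_iff_eq, hτfix x hx]
    refine ⟨⟨by rw [map_mul, map_mul, map_inv, hz.1, mul_one, mul_inv_cancel], fun x hx => ?_⟩,
      ⟨by rw [map_mul, map_mul, map_inv, hz.1, mul_one, inv_mul_cancel], fun x hx => ?_⟩⟩
    · rw [Perm.mul_apply, Perm.mul_apply, hti x hx, hz.2 x hx, hτfix x hx]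
    · rw [Perm.mul_apply, Perm.mul_apply, hτfix x hx, hz.2 x hx, hti x hx]
  let J'' : K →* AK ext := J'.codRestrict _ fun k => by rw [hJ'val]; exact (hnorm _ (hJmem k)).2
  have hb : Function.Bijective J'' := by
    refine ⟨fun a b h => hJ ((MulEquiv.injective (MulAut.conj τ⁻¹)) (congrArg Subtype.val h)), fun z => ?_⟩
    obtain ⟨k, hk⟩ := hJrange _ (hnorm z z.2).1
    exact ⟨k, Subtype.ext (by show J' k = z; rw [hJ'val, hk]; group)⟩
  let E := MulEquiv.ofBijective J'' hb
  refine ⟨K.subtype.comp E.symm.toMonoidHom, Subtype.val_injective.comp E.symm.injective, ?_, ?_⟩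
  · rw [MonoidHom.range_comp, MonoidHom.range_eq_top.2 E.symm.surjective, ← MonoidHom.range_eq_map, K.range_subtype]
  · intro m hm
    have hgen : Lb ≤ ((J'.comp ψ).eqLocus ((incl.comp ((alternatingGroup (Fin 12) ⊓
        Subgroup.centralizer ({αp} : Set (Perm (Fin 12)))).subtype)).comp Lb.subtype)).map Lb.subtype := by
      refine Lb_le_gens ⟨A, ?_, rfl⟩ ⟨B, ?_, rfl⟩ ⟨D, ?_, rfl⟩ ⟨C, ?_, rfl⟩
      · show J' (ψ A) = incl (pa 4).1
        rw [hJ'val, show J (ψ A) = _ from hΦA, mul_assoc, ← map_mul incl, hσa, map_mul incl, inv_mul_cancel_left]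
      · show J' (ψ B) = incl (pa 8).1
        rw [hJ'val, show J (ψ B) = _ from hΦB, mul_assoc, ← map_mul incl, hσb, map_mul incl, inv_mul_cancel_left]
      · show J' (ψ D) = incl (pa 32).1
        rw [hJ'val, show J (ψ D) = _ from hΦD, mul_assoc, ← map_mul incl, hσd, map_mul incl, inv_mul_cancel_left]
      · show J' (ψ C) = incl (lq 2 0).1
        rw [hJ'val, show J (ψ C) = _ from hΦC, mul_assoc, ← map_mul incl, hσc, map_mul incl, inv_mul_cancel_left]
    obtain ⟨m', hm', he⟩ := hgen hm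
    have hm'' : m' = ⟨m, hm⟩ := Subtype.ext he
    subst hm''
    have hE : E.symm ⟨incl m.1, incl_Lb_mem ext hm⟩ = ψ ⟨m, hm⟩ :=
      (MulEquiv.symm_apply_eq E).2 (Subtype.ext hm'.symm)
    exact congrArg Subtype.val hE

end Cfsg.Lib.AltTwelveCent
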