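import Mathlib
import Cfsg.Agent.AltTwelveCent.AltTheta
import Cfsg.Agent.SolvStruct.AltAut

/-!
The centralizer and the component fit together, so that an alternating group of degree twelve or thirteen lies in
the group.
-/

set_option autoImplicit false
set_option linter.unusedSectionVars false
set_option linter.style.haveILetI false
set_option maxRecDepth 100000
set_option maxHeartbeats 1000000

namespace Cfsg.Lib.AltTwelveCent

open Equiv Cfsg.Lib.AltTwelveType
open scoped commutatorElement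

/-- The model element of a permutation in the centralizer. -/
noncomputable def toMh : Hb →* Mh :=
  MonoidHom.mk' (fun x => (exists_model x.2).choose) fun a b => Subtype.ext (incl_injective (by
    rw [(exists_model (a * b).2).choose_spec]
    show (a : P13) * b = incl ((exists_model a.2).choose.1 * (exists_model b.2).choose.1)
    rw [map_mul, (exists_model a.2).choose_spec, (exists_model b.2).choose_spec]))

theorem incl_toMh (x : Hb) : incl (toMh x).1 = (x : P13) := (exists_model x.2).choose_spec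

theorem toMh_eq {x : P13} (h : x ∈ Hb) {m : Mh} (hm : incl m.1 = x) : toMh ⟨x, h⟩ = m :=
  Subtype.ext (incl_injective (by rw [incl_toMh, hm]))

theorem toMh_injective : Function.Injective toMh := fun a b h => Subtype.ext (by
  rw [← incl_toMh a, ← incl_toMh b, h])

theorem sB_model : incl (pk 4).1 = sB ∧ pk 4 * pk 4 = 1 := by
  refine ⟨Equiv.ext fun x => ?_, by rw [pk_mul, show kmul 4 4 = 0 by decide +kernel, pk_zero]⟩
  induction x using Fin.lastCases with
  | last => rw [show (Fin.last 12 : Fin 13) = 12 from rfl, incl_last]; decide +kernel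
  | cast x => rw [incl_cast]; revert x; decide +kernel

theorem c4_facts : c4 * c4 * c4 = 1 ∧
    (∀ v : Fin 64, v.val % 16 = 0 → ∀ x : Fin 12, c4 (aFun v x).castSucc =
      if h : (c4 x.castSucc).val < 12 then (aFun v ⟨_, h⟩).castSucc else 12) ∧
    (∀ v : Fin 64, v.val % 4 = 0 → v.val < 16 → ∃ w : Fin 64, w.val % 4 = 0 ∧ w.val < 16 ∧ ∀ x : Fin 12,
      c4 (aFun v x).castSucc = if h : (c4 x.castSucc).val < 12 then (aFun w ⟨_, h⟩).castSucc else 12) ∧
    (∀ x : Fin 12, (c4 x.castSucc).val < 12) ∧ c4 12 = 12 := by decide +kernel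

theorem block_split : ∀ v : Fin 64, v.val % 4 = 0 → act 4 v = axor (act 4 (axor v ⟨v.val / 16 * 16, by omega⟩))
    (act 4 ⟨v.val / 16 * 16, by omega⟩) ∧ (axor v ⟨v.val / 16 * 16, by omega⟩).val < 16 ∧
    (axor v ⟨v.val / 16 * 16, by omega⟩).val % 4 = 0 ∧
    (act 4 (axor v ⟨v.val / 16 * 16, by omega⟩)).val < 4 ∧
    act 4 ⟨v.val / 16 * 16, by omega⟩ = (⟨v.val / 16 * 16, by omega⟩ : Fin 64) := by decide +kernel

theorem low_swap : ∀ v : Fin 64, v.val < 4 →
    (act 4 v).val % 4 = 0 ∧ (act 4 v).val < 16 ∧ act 4 (act 4 v) = v ∧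
    ∀ w : Fin 64, w.val % 4 = 0 → w.val < 16 → (act 4 w).val < 4 := by decide +kernel

theorem fix_blocks : ∀ ext : Bool, ∀ x y : Fin 13, x ∉ compPts ext → y ∉ compPts ext →
    (∀ v : Fin 64, v.val % 4 = 0 → ((if h : x.val < 12 then (aFun v ⟨_, h⟩).castSucc else 12) = x ↔
      (if h : y.val < 12 then (aFun v ⟨_, h⟩).castSucc else 12) = y)) →
    ∃ v : Fin 64, v.val % 4 = 0 ∧ (if h : x.val < 12 then (aFun v ⟨_, h⟩).castSucc else 12) = y := by decide +kernel

theorem incl_pa_app (v : Fin 64) (x : Fin 13) :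
    incl (pa v).1 x = if h : x.val < 12 then (aFun v ⟨_, h⟩).castSucc else 12 := by
  induction x using Fin.lastCases with
  | last => rw [dif_neg (by simp), show (Fin.last 12 : Fin 13) = 12 from rfl, incl_last]
  | cast x => rw [dif_pos (show (Fin.castSucc x).val < 12 from x.isLt), incl_cast]; rfl

theorem c4_pa {v w : Fin 64}
    (h : ∀ x : Fin 12, c4 (aFun v x).castSucc = if h : (c4 x.castSucc).val < 12 then (aFun w ⟨_, h⟩).castSucc else 12) :
    c4 * incl (pa v).1 = incl (pa w).1 * c4 := by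
  refine Equiv.ext fun x => ?_
  induction x using Fin.lastCases with
  | last =>
    simp only [Perm.mul_apply, show (Fin.last 12 : Fin 13) = 12 from rfl, incl_last, c4_facts.2.2.2.2]
  | cast x =>
    simp only [Perm.mul_apply, incl_pa_app w, incl_cast]
    exact h x

theorem five_table : ∀ f : Fin 5 → Fin 5, Function.Injective f →
    let pt : Fin 5 → Fin 13 := fun i => if h : i.val < 4 then ⟨i.val + 8, by omega⟩ else 12
    let a : Fin 5 → Fin 5 := fun i => if i.val = 0 then 1 else if i.val = 1 then 0 else if i.val = 2 then 3 else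
      if i.val = 3 then 2 else 4
    let c : Fin 5 → Fin 5 := fun i => if i.val = 0 then 1 else if i.val = 1 then 2 else if i.val = 2 then 0 else i
    (∀ i, f (f (f i)) = i) → f 4 ≠ 4 → (∀ i, f (c (f (c i))) = i) → (∀ i, a (f (a (f i))) = i) →
      ∀ i, pt (f i) = cyc 10 (pt i) := by decide +kernel

theorem ext_elts : incl (pa 16).1 * cyc 10 * (incl (pa 16).1)⁻¹ = (cyc 10)⁻¹ ∧
    cyc 10 * cyc 8 * (cyc 10 * cyc 8) = 1 ∧ incl (pa 16).1 ∈ AK true ∧ cyc 10 ∈ AK true ∧ cyc 8 ∈ AK true ∧
    cyc 8 ∈ AK false ∧ (∀ v : Fin 64, v.val % 4 = 0 → v.val < 16 → cyc 10 * incl (pa v).1 = incl (pa v).1 * cyc 10) ∧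
    act 4 16 = 16 ∧ cyc 10 * cyc 10 * cyc 10 = 1 ∧ cyc 10 ≠ 1 := by
  refine ⟨?_, ?_, incl_Lb_mem true (pa_mem_Lb (v := 16) rfl), (cyc_mem true 10 (by decide)).2 (by decide),
    (cyc_mem true 8 (by decide)).2 (by decide), (cyc_mem false 8 (by decide)).2 (by decide), ?_, ?_, ?_, ?_⟩
  · refine Equiv.ext fun x => ?_
    have h : ∀ x, incl (pa 16).1 x = if h : x.val < 12 then (aFun 16 ⟨_, h⟩).castSucc else 12 := incl_pa_app 16
    rw [Perm.mul_apply, Perm.mul_apply, show (incl (pa 16).1)⁻¹ = incl (pa 16).1 from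
      inv_eq_of_mul_eq_one_right (by rw [← map_mul, ← Subgroup.coe_mul, pa_sq]; exact map_one incl), h, h]
    revert x; decide +kernel
  · decide +kernel
  · intro v hv hv'
    refine Equiv.ext fun x => ?_
    rw [Perm.mul_apply, Perm.mul_apply, incl_pa_app, incl_pa_app]
    revert x v; decide +kernel
  · decide +kernel
  · decide +kernel
  · decide +kernel

theorem five_commutator : ∃ a b : P13, a ∈ AK true ∧ b ∈ AK true ∧ cyc 10 = a * b * a⁻¹ * b⁻¹ ∧
    ∀ v : Fin 64, v.val % 4 = 0 → v.val < 16 → ∀ x : Fin 13,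
      a (if h : x.val < 12 then (aFun v ⟨_, h⟩).castSucc else 12) =
        (if h : (a x).val < 12 then (aFun v ⟨_, h⟩).castSucc else 12) ∧
      b (if h : x.val < 12 then (aFun v ⟨_, h⟩).castSucc else 12) =
        (if h : (b x).val < 12 then (aFun v ⟨_, h⟩).castSucc else 12) := by
  refine ⟨swap (8 : Fin 13) 9 * swap (9 : Fin 13) 10, swap (8 : Fin 13) 12 * swap (12 : Fin 13) 11, ?_⟩
  decide +kernel

theorem five_block : ∀ x : Fin 13, 4 ≤ x.val → x.val < 8 → ∀ y : Fin 13,
    ((if h : y.val < 12 then (aFun 4 ⟨_, h⟩).castSucc else 12) = y ↔ 8 ≤ y.val ∨ y.val < 4) ∧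
    (4 ≤ y.val → y.val < 8 → ∃ v : Fin 64, v.val % 4 = 0 ∧ v.val < 16 ∧
      (if h : x.val < 12 then (aFun v ⟨_, h⟩).castSucc else 12) = y) := by decide +kernel

variable {G : Type*} [Group G] [Finite G] {S : Setting G} (hA : ∀ v, S.o v = oAlt v) {K : Subgroup G} (hK : IsComp S K)

include hA hK in
/-- The local data. -/
theorem exists_local (ext : Bool) (e : K ≃* alternatingGroup (Fin (cdeg ext))) :
    ∃ D : AltLocal G ext, D.j.range = K ∧ ∀ x, D.f x = S.φ (toMh x) := by
  obtain ⟨j, hjinj, hjr, hjm⟩ := exists_match hA hK ext e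
  have hjK : ∀ x, j x ∈ K := fun x => by rw [← hjr]; exact ⟨x, rfl⟩
  have hjel : ∀ (v : Fin 64) (hv : v.val % 4 = 0), j ⟨incl (pa v).1, incl_Lb_mem ext (pa_mem_Lb hv)⟩ = S.el v :=
    fun v hv => hjm _ (pa_mem_Lb hv)
  -- the component is perfect
  have hperf : K ≤ Subgroup.closure {x | ∃ a ∈ K, ∃ b ∈ K, ⁅a, b⁆ = x} := by
    haveI : IsSimpleGroup (alternatingGroup (Fin (cdeg ext))) :=
      alternatingGroup.isSimpleGroup (by cases ext <;> simp [cdeg])
    have hnc : ¬ ∀ a b : alternatingGroup (Fin (cdeg ext)), a * b = b * a := by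
      intro h
      haveI : IsSimpleGroup K := e.isSimpleGroup
      have hab : ∀ a b : AK ext, a * b = b * a := fun a b => hjinj (by
        have := h (e ⟨j a, hjK a⟩) (e ⟨j b, hjK b⟩)
        rw [← map_mul e, ← map_mul e] at this
        rw [map_mul, map_mul]
        exact congrArg Subtype.val (e.injective this))
      have := congrArg Subtype.val (hab ⟨c4, c4_mem ext⟩ ⟨incl (pa 4).1, incl_Lb_mem ext (pa_mem_Lb (v := 4) rfl)⟩)
      have h4 := Equiv.congr_fun this 4
      simp only [Subgroup.coe_mul, Perm.mul_apply, incl_pa_app] at h4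
      exact absurd h4 (by decide +kernel)
    have hc : commutator (alternatingGroup (Fin (cdeg ext))) = ⊤ := by
      rcases Subgroup.Normal.eq_bot_or_eq_top (inferInstance : (commutator (alternatingGroup (Fin (cdeg ext)))).Normal)
        with h | h
      · exact absurd (fun a b => commutatorElement_eq_one_iff_mul_comm.1 (by
          rw [← Subgroup.mem_bot, ← h]; exact Subgroup.commutator_mem_commutator trivial trivial)) hnc
      · exact h
    intro k hk
    have hmem : e ⟨k, hk⟩ ∈ commutator (alternatingGroup (Fin (cdeg ext))) := hc ▸ trivial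
    rw [commutator_eq_closure] at hmem
    have h2 : (K.subtype.comp e.symm.toMonoidHom) (e ⟨k, hk⟩) ∈
        (Subgroup.closure (commutatorSet (alternatingGroup (Fin (cdeg ext))))).map (K.subtype.comp e.symm.toMonoidHom) :=
      ⟨_, hmem, rfl⟩
    rw [MonoidHom.map_closure] at h2
    refine Subgroup.closure_mono ?_ (by simpa using h2)
    rintro _ ⟨_, ⟨a, b, rfl⟩, rfl⟩
    exact ⟨_, (e.symm a).2, _, (e.symm b).2, (map_commutatorElement (K.subtype.comp e.symm.toMonoidHom) a b).symm⟩
  set φB := S.φ (pk 4) with hφB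
  have hφB2 : φB * φB = 1 := by rw [hφB, ← map_mul, sB_model.2, map_one]
  have hφBi : φB⁻¹ = φB := inv_eq_of_mul_eq_one_right hφB2
  have hswap : ∀ v : Fin 64, φB * S.el v * φB = S.el (act 4 v) := fun v => by
    have := S.φ_el 4 v
    rwa [← hφB, hφBi] at this
  set y := j ⟨c4, c4_mem ext⟩ with hy
  set r := φB * y * φB with hr
  have hyconj : ∀ v w : Fin 64, v.val % 4 = 0 → w.val % 4 = 0 →
      c4 * incl (pa v).1 = incl (pa w).1 * c4 → y * S.el v = S.el w * y := fun v w hv hw h => by
    rw [hy, ← hjel v hv, ← hjel w hw, ← map_mul, ← map_mul]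
    exact congrArg j (Subtype.ext h)
  have hy2 : ∀ v : Fin 64, v.val % 16 = 0 → y * S.el v = S.el v * y := fun v hv =>
    hyconj v v (by omega) (by omega) (c4_pa (c4_facts.2.1 v hv))
  have hy0 : ∀ v : Fin 64, v.val < 4 → y * S.el v = S.el v * y := fun v hv =>
    C0_comm_low S (hK.le (hjK _)) hv
  -- the rotation of the first block fixes the component
  have hrfix : ∀ v : Fin 64, v.val % 4 = 0 → r * S.el v = S.el v * r := by
    intro v hv
    obtain ⟨h1, -, -, h3, h4⟩ := block_split v hv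
    have hyv : y * S.el (act 4 v) = S.el (act 4 v) * y := by
      rw [h1, ← S.el_mul, ← mul_assoc, hy0 _ h3, mul_assoc, hy2 _ (by rw [h4]; simp), mul_assoc]
    calc r * S.el v = φB * (y * (φB * S.el v * φB)) * φB := by
          rw [hr]; simp [mul_assoc, hφB2]
      _ = φB * (S.el (act 4 v) * y) * φB := by rw [hswap, hyv]
      _ = φB * S.el (act 4 v) * φB * (φB * y * φB) := by simp [mul_assoc, ← mul_assoc φB φB, hφB2]
      _ = S.el v * r := by
          rw [hr, hswap]
          have hinv : act 4 (act 4 v) = v := by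
            have key : ∀ v : Fin 64, act 4 (act 4 v) = v := by decide +kernel
            exact key v
          rw [hinv]
  have hrV : r ∈ Subgroup.normalizer (V0 S : Set G) := by
    refine Cfsg.Lib.ZStarApps.mem_normalizer_of_maps ?_
    rintro _ ⟨v, hv, rfl⟩
    obtain ⟨ha4, ha16, hinv, hback⟩ := low_swap v hv
    obtain ⟨w, hw4, hw16, hcw⟩ := c4_facts.2.2.1 _ ha4 ha16
    have := hyconj _ w ha4 hw4 (c4_pa hcw)
    refine ⟨act 4 w, hback w hw4 hw16, ?_⟩
    rw [hr, mul_inv_rev, mul_inv_rev, hφBi]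
    calc S.el (act 4 w) = φB * S.el w * φB := (hswap w).symm
      _ = φB * (y * S.el (act 4 v) * y⁻¹) * φB := by rw [this, mul_inv_cancel_right]
      _ = φB * y * φB * S.el v * (φB * (y⁻¹ * φB)) := by rw [← hswap v]; simp [mul_assoc]
  have hrC0 : ∀ x ∈ C0 S, r * x * r⁻¹ ∈ C0 S := fun x hx =>
    (Subgroup.mem_normalizer_iff.1 (normalizer_V0_C0 S hrV) x).1 hx
  have hrK : ∀ k ∈ K, r * k * r⁻¹ ∈ K := by
    intro k hk
    suffices h : Subgroup.closure {x | ∃ a ∈ K, ∃ b ∈ K, ⁅a, b⁆ = x} ≤ K.comap (MulAut.conj r).toMonoidHom from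
      h (hperf hk)
    rw [Subgroup.closure_le]
    rintro _ ⟨a, ha, b, hb, rfl⟩
    show r * ⁅a, b⁆ * r⁻¹ ∈ K
    rw [show r * ⁅a, b⁆ * r⁻¹ = ⁅r * a * r⁻¹, r * b * r⁻¹⁆ by simp [commutatorElement_def, mul_assoc]]
    exact hK.comm _ (hrC0 a (hK.le ha)) _ (hrC0 b (hK.le hb))
  have hr3 : r * r * r = 1 := by
    have h1 : y * y * y = 1 := by
      rw [hy, ← map_mul, ← map_mul, ← map_one j]
      exact congrArg j (Subtype.ext c4_facts.1)
    calc r * r * r = φB * (y * (φB * φB) * y * (φB * φB) * y) * φB := by rw [hr]; simp [mul_assoc]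
      _ = 1 := by rw [hφB2, mul_one, mul_one, h1, mul_one, hφB2]
  have hcent : ∀ k ∈ K, r * k = k * r := by
    -- transport to the alternating group
    let i0 : alternatingGroup (Fin (cdeg ext)) →* AK ext :=
      ((Perm.viaEmbeddingHom (ptE ext)).comp (alternatingGroup (Fin (cdeg ext))).subtype).codRestrict _
        fun σ => via_mem ext (Perm.mem_alternatingGroup.1 σ.2)
    have hi0 : Function.Bijective i0 := ⟨fun a b h => Subtype.ext (Perm.viaEmbeddingHom_injective _ (congrArg Subtype.val h)),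
      fun z => by
        obtain ⟨σ, hσ, hσz⟩ := exists_via_AK ext z.2
        exact ⟨⟨σ, Perm.mem_alternatingGroup.2 hσ⟩, Subtype.ext hσz⟩⟩
    let ι := MulEquiv.ofBijective i0 hi0
    let J : AK ext →* K := j.codRestrict K hjK
    have hJ : Function.Bijective J := ⟨fun a b h => hjinj (congrArg Subtype.val h), fun k => by
      obtain ⟨x, hx⟩ : (k : G) ∈ j.range := hjr ▸ k.2
      exact ⟨x, Subtype.ext hx⟩⟩
    let E : alternatingGroup (Fin (cdeg ext)) ≃* K := ι.trans (MulEquiv.ofBijective J hJ)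
    let cK : K →* K := MonoidHom.mk' (fun k => ⟨r * k * r⁻¹, hrK k k.2⟩) fun a b => Subtype.ext (by
      show r * ((a : G) * b) * r⁻¹ = r * a * r⁻¹ * (r * b * r⁻¹)
      group)
    have hcK : Function.Bijective cK := Finite.injective_iff_bijective.1 fun a b h => Subtype.ext (by
      have := congrArg Subtype.val h
      exact mul_left_cancel (mul_right_cancel (this : r * a * r⁻¹ = r * b * r⁻¹)))
    let γ : MulAut (alternatingGroup (Fin (cdeg ext))) := (E.trans (MulEquiv.ofBijective cK hcK)).trans E.symm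
    obtain ⟨σ, hσ⟩ := (Cfsg.Lib.SolvStruct.AltAut.conjNormal_bijective (n := cdeg ext) (by cases ext <;> simp [cdeg])
      (by cases ext <;> simp [cdeg])).2 γ
    have hγ : ∀ x, E (MulAut.conjNormal σ x) = cK (E x) := fun x => by
      rw [hσ]; exact E.apply_symm_apply _
    -- the cube is trivial
    have hσ3 : σ * σ * σ = 1 := by
      refine (Cfsg.Lib.SolvStruct.AltAut.conjNormal_bijective (n := cdeg ext) (by cases ext <;> simp [cdeg])
        (by cases ext <;> simp [cdeg])).1 (MulEquiv.ext fun x => E.injective ?_)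
      rw [map_mul, map_mul, map_one, MulAut.mul_apply, MulAut.mul_apply, hγ, hγ, hγ]
      apply Subtype.ext
      show r * (r * (r * (E x : G) * r⁻¹) * r⁻¹) * r⁻¹ = (E x : G)
      calc _ = (r * r * r) * (E x : G) * (r * r * r)⁻¹ := by group
        _ = _ := by rw [hr3]; group
    -- the square is trivial
    set Sp := Perm.viaEmbeddingHom (ptE ext) σ
    have hS : ∀ v : Fin 64, v.val % 4 = 0 → Sp * incl (pa v).1 = incl (pa v).1 * Sp := by
      intro v hv
      obtain ⟨x, hx⟩ := ι.surjective ⟨incl (pa v).1, incl_Lb_mem ext (pa_mem_Lb hv)⟩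
      have hEx : (E x : G) = S.el v := by
        show j (ι x) = S.el v
        rw [hx, hjel v hv]
      have hfix : MulAut.conjNormal σ x = x := E.injective (by
        rw [hγ]; apply Subtype.ext
        show r * (E x : G) * r⁻¹ = (E x : G)
        rw [hEx, hrfix v hv, mul_inv_cancel_right])
      have h := congrArg (fun z : alternatingGroup (Fin (cdeg ext)) => Perm.viaEmbeddingHom (ptE ext) (z : Perm _)) hfix
      have hv' : Perm.viaEmbeddingHom (ptE ext) (x : Perm _) = incl (pa v).1 := congrArg Subtype.val hx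
      simp only [MulAut.conjNormal_apply, map_mul, map_inv, hv'] at h
      exact mul_inv_eq_iff_eq_mul.1 h
    have hσ2 : σ * σ = 1 := by
      refine Perm.viaEmbeddingHom_injective (ptE ext) ?_
      rw [map_mul, map_one]
      refine Equiv.ext fun z => ?_
      rw [Perm.mul_apply, Perm.one_apply]
      by_cases hz : z ∈ compPts ext
      · have := Perm.viaEmbedding_apply_of_notMem σ (ptE ext) z fun ⟨i, hi⟩ => (ptE_range ext z).1 ⟨i, hi⟩ hz
        rw [Perm.viaEmbeddingHom_apply] at *
        rw [this, this]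
      obtain ⟨i, rfl⟩ := (ptE_range ext z).2 hz
      have hSi : Sp (ptE ext i) = ptE ext (σ i) := Perm.viaEmbedding_apply σ (ptE ext) i
      have hout : ptE ext (σ i) ∉ compPts ext := (ptE_range ext _).1 ⟨_, rfl⟩
      have happ : ∀ (v : Fin 64) (_ : v.val % 4 = 0) z, Sp (incl (pa v).1 z) = incl (pa v).1 (Sp z) :=
        fun v hv z => congrArg (fun w : P13 => w z) (hS v hv)
      obtain ⟨v, hv, hvz⟩ := fix_blocks ext (ptE ext i) (ptE ext (σ i)) hz hout fun v hv => by
        rw [← incl_pa_app, ← incl_pa_app, ← hSi, ← happ v hv]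
        exact Sp.injective.eq_iff.symm
      rw [← incl_pa_app] at hvz
      rw [hSi, ← hvz, happ v hv, hSi, ← hvz]
      show incl (pa v).1 (incl (pa v).1 _) = _
      rw [← Perm.mul_apply, ← map_mul, ← Subgroup.coe_mul, pa_sq]
      simp
    have hσ1 : σ = 1 := by
      rw [hσ2, one_mul] at hσ3; exact hσ3
    intro k hk
    obtain ⟨x, hx⟩ := E.surjective ⟨k, hk⟩
    have := hγ x
    rw [hσ1, map_one, MulAut.one_apply, hx] at this
    exact mul_inv_eq_iff_eq_mul.1 (congrArg Subtype.val this).symm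
  let f : Hb →* G := S.φ.comp toMh
  have hfB : ∀ hB : sB ∈ Hb, f ⟨sB, hB⟩ = φB := fun hB => by
    show S.φ (toMh _) = _
    rw [toMh_eq hB sB_model.1]
  have hagree : ∀ x (h1 : x ∈ Hb) (h2 : x ∈ AK ext), f ⟨x, h1⟩ = j ⟨x, h2⟩ := by
    intro x h1 h2
    obtain ⟨m, hm⟩ := exists_model h1
    have hmL : m ∈ Lb := fun z hz => Fin.castSucc_injective _ (by
      rw [← incl_cast, hm]; exact h2.2 _ (low_mem_compPts ext _ hz))
    show S.φ (toMh _) = _
    rw [toMh_eq h1 hm, ← hjm m hmL]
    exact congrArg j (Subtype.ext hm)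
  have hcomm : ∀ x (h1 : x ∈ Hb), (∀ i : Fin 13, i.val < 4 → x i = i) → ∀ (hB : sB ∈ Hb) (hc : c4 ∈ AK ext),
      Commute (f ⟨x, h1⟩) (f ⟨sB, hB⟩ * j ⟨c4, hc⟩ * f ⟨sB, hB⟩) := by
    intro x h1 hfix hB hc
    obtain ⟨m, hm⟩ := exists_model h1
    have hmL : m ∈ Lb := fun z hz => Fin.castSucc_injective _ (by
      rw [← incl_cast, hm]; exact hfix _ hz)
    rw [hfB]
    show S.φ (toMh _) * (φB * y * φB) = φB * y * φB * S.φ (toMh _)
    rw [toMh_eq h1 hm]
    exact (hcent _ (Lb_le_comp hA hK hmL)).symm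
  have hextra : ext = true → ∀ (hB : sB ∈ Hb) (hc : cyc 10 ∈ AK ext), Commute (f ⟨sB, hB⟩) (j ⟨cyc 10, hc⟩) := by
    intro hext
    subst hext
    intro hB hc
    obtain ⟨hainv, hzc, haK, hz, hc8, hc8', hzpa, hact, hz3, hz1⟩ := ext_elts
    have hle : AK false ≤ AK true := fun u hu => ⟨hu.1, fun p hp => hu.2 p (by
      have key : ∀ p : Fin 13, p ∈ compPts true → p ∈ compPts false := by decide +kernel
      exact key p hp)⟩
    let D₀ : AltLocal G false :=
      { f := f
        j := j.comp (Subgroup.inclusion hle)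
        agree := fun u h1 h2 => hagree u h1 (hle h2)
        comm := fun u h1 hfix hB hc => hcomm u h1 hfix hB (hle hc)
        extra := fun h => absurd h (by decide) }
    have hc8fix : φB * j ⟨cyc 8, hc8⟩ * φB = j ⟨cyc 8, hc8⟩ := by
      have h := D₀.B_conj (k := 8) (by decide) (by decide)
      rw [if_neg (by decide), D₀.T_eq_j (by decide) (by decide), D₀.fT_eq abar_facts.2.2.2.1, D₀.jT_eq hc8'] at h
      change f ⟨sB, _⟩ * j ⟨cyc 8, _⟩ * (f ⟨sB, _⟩)⁻¹ = j ⟨cyc 8, _⟩ at h
      rwa [hfB, hφBi] at h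
    set z := j ⟨cyc 10, hc⟩ with hzdef
    set w := φB * z * φB with hw
    have hz1c : ∀ v : Fin 64, v.val % 4 = 0 → v.val < 16 → z * S.el v = S.el v * z := fun v hv hv' => by
      rw [hzdef, ← hjel v hv, ← map_mul, ← map_mul]
      exact congrArg j (Subtype.ext (hzpa v hv hv'))
    obtain ⟨a, b, ha, hb, hab, hcab⟩ := five_commutator
    have hswapC : ∀ (u : P13) (hu : u ∈ AK true), (∀ v : Fin 64, v.val % 4 = 0 → v.val < 16 → ∀ p : Fin 13,
        u (if h : p.val < 12 then (aFun v ⟨_, h⟩).castSucc else 12) =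
          (if h : (u p).val < 12 then (aFun v ⟨_, h⟩).castSucc else 12)) →
        φB * j ⟨u, hu⟩ * φB ∈ C0 S := by
      intro u hu hcu
      suffices h : ∀ v : Fin 64, v.val < 4 → φB * j ⟨u, hu⟩ * φB * S.el v = S.el v * (φB * j ⟨u, hu⟩ * φB) from
        (mem_C0 S).2 ⟨h 1 (by decide), h 2 (by decide)⟩
      intro v hv
      obtain ⟨ha4, ha16, hinv, -⟩ := low_swap v hv
      have h1 : j ⟨u, hu⟩ * S.el (act 4 v) = S.el (act 4 v) * j ⟨u, hu⟩ := by
        rw [← hjel _ ha4, ← map_mul, ← map_mul]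
        refine congrArg j (Subtype.ext (Equiv.ext fun p => ?_))
        show u (incl _ p) = incl _ (u p)
        rw [incl_pa_app, incl_pa_app]; exact hcu _ ha4 ha16 p
      calc φB * j ⟨u, hu⟩ * φB * S.el v = φB * (j ⟨u, hu⟩ * (φB * S.el v * φB)) * φB := by simp [mul_assoc, hφB2]
        _ = φB * (S.el (act 4 v) * j ⟨u, hu⟩) * φB := by rw [hswap, h1]
        _ = φB * S.el (act 4 v) * φB * (φB * j ⟨u, hu⟩ * φB) := by simp [mul_assoc, ← mul_assoc φB φB, hφB2]
        _ = _ := by rw [hswap, hinv]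
    have hwK : w ∈ K := by
      have hzab : z = ⁅j ⟨a, ha⟩, j ⟨b, hb⟩⁆ := by
        rw [hzdef, ← map_commutatorElement]
        exact congrArg j (Subtype.ext hab)
      have : w = ⁅φB * j ⟨a, ha⟩ * φB, φB * j ⟨b, hb⟩ * φB⁆ := by
        rw [hw, hzab]
        simp only [commutatorElement_def, mul_inv_rev, hφBi]
        simp [mul_assoc, ← mul_assoc φB φB, hφB2]
      rw [this]
      exact hK.comm _ (hswapC a ha fun v hv hv' p => (hcab v hv hv' p).1)
        _ (hswapC b hb fun v hv hv' p => (hcab v hv hv' p).2)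
    obtain ⟨⟨ω, hω⟩, hωw⟩ : w ∈ j.range := hjr ▸ hwK
    have hω1c : ∀ v : Fin 64, v.val % 4 = 0 → v.val < 16 → ω * incl (pa v).1 = incl (pa v).1 * ω := by
      intro v hv hv'
      have hback := (low_swap 0 (by decide)).2.2.2 v hv hv'
      have hz0 : z * S.el (act 4 v) = S.el (act 4 v) * z := C0_comm_low S (hK.le (hjK _)) hback
      have h : w * S.el v = S.el v * w := by
        calc w * S.el v = φB * (z * (φB * S.el v * φB)) * φB := by
              rw [hw]; simp [mul_assoc, hφB2]
          _ = φB * (φB * S.el v * φB * z) * φB := by rw [hswap, hz0]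
          _ = S.el v * w := by rw [hw]; simp [mul_assoc, ← mul_assoc φB φB, hφB2]
      rw [← hωw, ← hjel v hv, ← map_mul, ← map_mul] at h
      exact congrArg Subtype.val (hjinj h)
    have hω3 : ω * ω * ω = 1 := by
      have h : w * w * w = 1 := by
        calc w * w * w = φB * (z * (φB * φB) * z * (φB * φB) * z) * φB := by rw [hw]; simp [mul_assoc]
          _ = 1 := by
            rw [hφB2, mul_one, mul_one, show z * z * z = 1 by
              rw [hzdef, ← map_mul, ← map_mul, ← map_one j]; exact congrArg j (Subtype.ext hz3), mul_one, hφB2]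
      rw [← hωw, ← map_mul, ← map_mul, ← map_one j] at h
      exact congrArg Subtype.val (hjinj h)
    have hfl : φB * S.el 16 * φB = S.el 16 := by rw [hswap, hact]
    have hωa : incl (pa 16).1 * ω * (incl (pa 16).1)⁻¹ = ω⁻¹ := by
      have h1 : S.el 16 * z * (S.el 16)⁻¹ = z⁻¹ := by
        rw [hzdef, ← hjel 16 rfl, ← map_inv, ← map_inv, ← map_mul, ← map_mul]
        exact congrArg j (Subtype.ext hainv)
      have h : S.el 16 * w * (S.el 16)⁻¹ = w⁻¹ := by
        have h16 : φB * S.el 16 = S.el 16 * φB := by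
          conv_rhs => rw [← hfl]
          simp [mul_assoc, hφB2]
        have h16' : φB * (S.el 16)⁻¹ = (S.el 16)⁻¹ * φB := by
          rw [inv_eq_of_mul_eq_one_right (S.el_sq 16)]; exact h16
        calc S.el 16 * w * (S.el 16)⁻¹ = φB * (S.el 16 * z * (S.el 16)⁻¹) * φB := by
              rw [hw, ← mul_assoc, ← mul_assoc, ← h16, mul_assoc _ φB (S.el 16)⁻¹, h16']; simp [mul_assoc]
          _ = w⁻¹ := by rw [h1, hw]; simp [mul_inv_rev, hφBi, mul_assoc]
      rw [← hωw, ← hjel 16 rfl, ← map_inv, ← map_inv, ← map_mul, ← map_mul] at h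
      exact congrArg Subtype.val (hjinj h)
    have hωc : ω * cyc 8 * (ω * cyc 8) = 1 := by
      have h1 : z * j ⟨cyc 8, hc8⟩ * (z * j ⟨cyc 8, hc8⟩) = 1 := by
        rw [hzdef, ← map_mul, ← map_mul, ← map_one j]; exact congrArg j (Subtype.ext hzc)
      have h : w * j ⟨cyc 8, hc8⟩ * (w * j ⟨cyc 8, hc8⟩) = 1 := by
        rw [← hc8fix, hw]
        calc _ = φB * (z * j ⟨cyc 8, hc8⟩ * (z * j ⟨cyc 8, hc8⟩)) * φB := by
              simp [mul_assoc, ← mul_assoc φB φB, hφB2]
          _ = 1 := by rw [h1, mul_one, hφB2]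
      rw [← hωw, ← map_mul, ← map_mul, ← map_one j] at h
      exact congrArg Subtype.val (hjinj h)
    have hlow : ∀ p : Fin 13, p.val < 4 → ω p = p := fun p hp => hω.2 p (low_mem_compPts true p hp)
    have happ : ∀ (v : Fin 64), v.val % 4 = 0 → v.val < 16 → ∀ p, ω (incl (pa v).1 p) = incl (pa v).1 (ω p) :=
      fun v hv hv' p => congrArg (fun u : P13 => u p) (hω1c v hv hv')
    have hmid : ∀ p : Fin 13, 4 ≤ p.val → p.val < 8 → ω p = p := by
      intro p hp hp'
      obtain ⟨hiff, -⟩ := five_block p hp hp' (ω p)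
      have hy8 : 4 ≤ (ω p).val ∧ (ω p).val < 8 := by
        by_contra hcon
        have h := hiff.2 (by omega)
        rw [← incl_pa_app, ← happ 4 rfl (by decide)] at h
        have h' := ω.injective h
        rw [incl_pa_app] at h'
        have := ((five_block p hp hp' p).1).1 h'
        omega
      obtain ⟨v, hv, hv', hvp⟩ := (five_block p hp hp' (ω p)).2 hy8.1 hy8.2
      rw [← incl_pa_app] at hvp
      have h3 : ω (ω (ω p)) = p := Equiv.congr_fun hω3 p
      rw [← hvp, happ v hv hv', ← hvp, happ v hv hv', happ v hv hv', ← hvp] at h3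
      have hvv : ∀ q, incl (pa v).1 (incl (pa v).1 q) = q := fun q => by
        rw [← Perm.mul_apply, ← map_mul, ← Subgroup.coe_mul, pa_sq]; simp
      rw [hvv] at h3
      exact hvp.symm.trans h3
    let pt : Fin 5 → Fin 13 := fun i => if h : i.val < 4 then ⟨i.val + 8, by omega⟩ else 12
    have hptr : ∀ p : Fin 13, 8 ≤ p.val → ∃ i, pt i = p := by decide +kernel
    have hpt8 : ∀ i, 8 ≤ (pt i).val := by decide +kernel
    have hptinj : ∀ i k, pt i = pt k → i = k := by decide +kernel
    have hωpt : ∀ i, ∃ k, pt k = ω (pt i) := fun i => hptr _ (by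
      by_contra hlt
      have h8 := hpt8 i
      by_cases h4 : (ω (pt i)).val < 4
      · rw [ω.injective (hlow (ω (pt i)) h4)] at h4; omega
      · have e := ω.injective (hmid (ω (pt i)) (by omega) (by omega))
        rw [e] at hlt; omega)
    choose g hg using hωpt
    have hginj : Function.Injective g := fun i k h => hptinj _ _ (ω.injective (by rw [← hg, ← hg, h]))
    let fa : Fin 5 → Fin 5 := fun i => if i.val = 0 then 1 else if i.val = 1 then 0 else if i.val = 2 then 3 else
      if i.val = 3 then 2 else 4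
    let fc : Fin 5 → Fin 5 := fun i => if i.val = 0 then 1 else if i.val = 1 then 2 else if i.val = 2 then 0 else i
    have hfa : ∀ i, incl (pa 16).1 (pt i) = pt (fa i) := fun i => by
      rw [incl_pa_app]; revert i; decide +kernel
    have hfc : ∀ i, cyc 8 (pt i) = pt (fc i) := by decide +kernel
    have hg3 : ∀ i, g (g (g i)) = i := fun i => hptinj _ _ (by rw [hg, hg, hg]; exact Equiv.congr_fun hω3 (pt i))
    have hgc : ∀ i, g (fc (g (fc i))) = i := fun i => hptinj _ _ (by
      rw [hg, ← hfc, hg, ← hfc]; exact Equiv.congr_fun hωc (pt i))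
    have hga : ∀ i, fa (g (fa (g i))) = i := fun i => hptinj _ _ (by
      rw [← hfa, hg, ← hfa, hg]
      have h := Equiv.congr_fun hωa (ω (pt i))
      rw [Perm.mul_apply, Perm.mul_apply, show ω⁻¹ (ω (pt i)) = pt i from ω.symm_apply_apply _,
        show (incl (pa 16).1)⁻¹ = incl (pa 16).1 from inv_eq_of_mul_eq_one_right (by
          rw [← map_mul, ← Subgroup.coe_mul, pa_sq]; exact map_one incl)] at h
      exact h)
    have hg4 : g 4 ≠ 4 := by
      intro h4
      have h12 : ω 12 = 12 := by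
        have := hg 4
        rw [h4] at this
        simpa [pt] using this.symm
      have hall : ∀ q : Fin 5 → Fin 5, Function.Injective q → (∀ i, q (q (q i)) = i) → q 4 = 4 →
          (∀ i, fa (q (fa (q i))) = i) → ∀ i, q i = i := by decide +kernel
      have hid := hall g hginj hg3 h4 hga
      have hω1 : ω = 1 := Equiv.ext fun p => by
        rcases Nat.lt_or_ge p.val 4 with hp | hp
        · exact hlow p hp
        rcases Nat.lt_or_ge p.val 8 with hp8 | hp8
        · exact hmid p hp hp8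
        obtain ⟨i, rfl⟩ := hptr p hp8
        rw [← hg, hid]; rfl
      apply hz1
      have hw1 : w = 1 := by rw [← hωw]; exact (congrArg j (Subtype.ext hω1)).trans (map_one j)
      have hz' : z = 1 := by
        calc z = φB * (φB * z * φB) * φB := by simp [mul_assoc, ← mul_assoc φB φB, hφB2]
          _ = 1 := by rw [← hw, hw1, mul_one, hφB2]
      exact congrArg Subtype.val (hjinj (hz'.trans (map_one j).symm))
    have hfin := five_table g hginj hg3 hg4 hgc hga
    have hωz : ω = cyc 10 := Equiv.ext fun p => by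
      have hzlow : ∀ p : Fin 13, p.val < 8 → cyc 10 p = p := by decide +kernel
      rcases Nat.lt_or_ge p.val 8 with hp8 | hp8
      · rw [hzlow p hp8]
        rcases Nat.lt_or_ge p.val 4 with hp | hp
        · exact hlow p hp
        · exact hmid p hp hp8
      obtain ⟨i, rfl⟩ := hptr p hp8
      rw [← hg]; exact hfin i
    show f ⟨sB, hB⟩ * z = z * f ⟨sB, hB⟩
    rw [hfB]
    have hwz : w = z := by rw [← hωw, hzdef]; exact congrArg j (Subtype.ext hωz)
    calc φB * z = φB * z * φB * φB := by simp [mul_assoc, hφB2]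
      _ = z * φB := by rw [← hw, hwz]
  exact ⟨⟨f, j, hagree, hcomm, hextra⟩, hjr, fun x => rfl⟩

end Cfsg.Lib.AltTwelveCent
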