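import Mathlib
import Cfsg.Agent.AltTwelveType.AltOrbit

/-!
The flips of an even number of the first four pairs: an elementary subgroup of order eight of the model, closed
among the involutions of its Sylow subgroup, with the elements moving it about.
-/

set_option autoImplicit false
set_option maxRecDepth 100000
set_option maxHeartbeats 1000000

namespace Cfsg.Lib.AltTwelveCent

open Equiv Cfsg.Lib.AltTwelveType

/-- The pairs flipped. -/
def flMask (f : Fin 8) : ℕ := [0, 3, 5, 6, 9, 10, 12, 15].getD f.val 0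

/-- The point map of a flip. -/
def flFun (f : Fin 8) (x : Fin 12) : Fin 12 :=
  if (flMask f).testBit (x.val / 2) then ⟨(x.val ^^^ 1) % 12, Nat.mod_lt _ (by norm_num)⟩ else x

theorem flFun_invol : ∀ f : Fin 8, ∀ x : Fin 12, flFun f (flFun f x) = x := by decide +kernel

/-- A flip as a permutation. -/
def flPerm (f : Fin 8) : Perm (Fin 12) := ⟨flFun f, flFun f, flFun_invol f, flFun_invol f⟩

theorem flPerm_mem : ∀ f : Fin 8, Perm.sign (flPerm f) = 1 ∧ ∀ x, flPerm f (αp x) = αp (flPerm f x) := by
  decide +kernel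

/-- A flip in the model. -/
def fl (f : Fin 8) : Mh := ⟨flPerm f, mem_of (flPerm_mem f).1 (flPerm_mem f).2⟩

/-- The exchange of two pairs. -/
def psPerm (i j : Fin 4) : Perm (Fin 12) :=
  swap (⟨2 * i.val, by omega⟩ : Fin 12) ⟨2 * j.val, by omega⟩ *
    swap (⟨2 * i.val + 1, by omega⟩ : Fin 12) ⟨2 * j.val + 1, by omega⟩

theorem psPerm_mem : ∀ i j : Fin 4, Perm.sign (psPerm i j) = 1 ∧ ∀ x, psPerm i j (αp x) = αp (psPerm i j x) := by
  decide +kernel

/-- The exchange in the model. -/
def ps (i j : Fin 4) : Mh := ⟨psPerm i j, mem_of (psPerm_mem i j).1 (psPerm_mem i j).2⟩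

theorem ext_apply {m n : Mh} (h : ∀ x, m.1 x = n.1 x) : m = n := Subtype.ext (Equiv.ext h)

theorem fl_values : fl 0 = 1 ∧ fl 1 = pa 1 ∧ fl 7 = pa 5 := by
  refine ⟨ext_apply ?_, ext_apply ?_, ext_apply ?_⟩ <;> decide +kernel

/-- The elementary subgroup of the flips. -/
def Am : Subgroup Mh where
  carrier := {m | ∃ f : Fin 8, m = fl f}
  one_mem' := ⟨0, fl_values.1.symm⟩
  mul_mem' := by
    rintro _ _ ⟨f, rfl⟩ ⟨g, rfl⟩
    have key : ∀ f g : Fin 8, ∃ h : Fin 8, ∀ x, flFun f (flFun g x) = flFun h x := by decide +kernel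
    obtain ⟨h, hh⟩ := key f g
    exact ⟨h, ext_apply hh⟩
  inv_mem' := by
    rintro _ ⟨f, rfl⟩
    exact ⟨f, inv_eq_of_mul_eq_one_right (ext_apply (flFun_invol f))⟩

theorem fl_mem (f : Fin 8) : fl f ∈ Am := ⟨f, rfl⟩

theorem fl_sq (f : Fin 8) : fl f * fl f = 1 := ext_apply (flFun_invol f)

theorem fl_comm (f g : Fin 8) : fl f * fl g = fl g * fl f := by
  have key : ∀ f g : Fin 8, ∀ x, flFun f (flFun g x) = flFun g (flFun f x) := by decide +kernel
  exact ext_apply (key f g)

theorem fl_move : ∀ f : Fin 8, f ≠ 0 → f ≠ 7 → ∃ i j k l : Fin 4,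
    (∀ x, psPerm i j (psPerm k l (aFun 5 x)) = aFun 5 (psPerm i j (psPerm k l x))) ∧
    ∀ x, psPerm i j (psPerm k l (flFun 1 x)) = flFun f (psPerm i j (psPerm k l x)) := by decide +kernel

theorem fl_translate : ∀ f : Fin 8, f ≠ 0 → f ≠ 7 → ∃ i j k l : Fin 4,
    (∀ x, psPerm i j (psPerm k l (aFun 5 x)) = aFun 5 (psPerm i j (psPerm k l x))) ∧
    ∀ x, psPerm i j (psPerm k l (flFun f x)) = flFun f (aFun 5 (psPerm i j (psPerm k l x))) := by decide +kernel

/-- The point map of an element of the Sylow subgroup. -/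
def smF (p : Fin 64 × Fin 24) (x : Fin 12) : Fin 12 := aFun p.1 (kFun p.2 x)

/-- Product in coordinates. -/
def cMul (p q : Fin 64 × Fin 24) : Fin 64 × Fin 24 := (axor p.1 (act p.2 q.1), kmul p.2 q.2)
/-- Inverse in coordinates. -/
def cInv (p : Fin 64 × Fin 24) : Fin 64 × Fin 24 := (act (kinv p.2) p.1, kinv p.2)

/-- Membership in the subgroup of flips. -/
def inFlips (p : Fin 64 × Fin 24) : Bool :=
  (List.finRange 8).any fun f => (List.finRange 12).all fun x => smF p x == flFun f x

/-- The number of moved points. -/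
def movedPts (g : Fin 12 → Fin 12) : ℕ := ((List.finRange 12).filter fun x => decide (g x ≠ x)).length

/-- An involution of the Sylow subgroup in the small class together with its translate is a flip. -/
def closedTest : Bool :=
  (List.finRange 64).all fun a => (List.finRange 24).all fun k => decide (8 ≤ k.val) ||
    !((List.finRange 12).all fun x => smF (a, k) (smF (a, k) x) == x) || !(movedPts (smF (a, k)) == 4) ||
      !(movedPts (fun x => smF (a, k) (aFun 5 x)) == 4) || inFlips (a, k)

theorem closedTest_true : closedTest = true := by decide +kernel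

/-- Some element of the coset is an involution. -/
def invCoset (p : Fin 64 × Fin 24) : Bool :=
  (List.finRange 8).any fun f => (List.finRange 12).all fun x => smF p (flFun f (smF p (flFun f x))) == x

/-- A normal subgroup properly above the flips has an involution outside them. -/
def outTest : Bool :=
  (List.finRange 64).all fun a => (List.finRange 24).all fun k => decide (8 ≤ k.val) || inFlips (a, k) ||
    invCoset (a, k) ||
      (List.finRange 24).any fun l => decide (l.val < 8) && (List.finRange 64).any fun b =>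
        let t := cMul (cMul (cInv (a, k)) (cInv (b, l))) (cMul (a, k) (b, l))
        !inFlips t && invCoset t

theorem outTest_true : outTest = true := by decide +kernel

theorem fl_coord : ∀ f : Fin 8, ∃ a : Fin 64, ∃ k : Fin 24, k.val < 8 ∧ ∀ x, flFun f x = smF (a, k) x := by
  decide +kernel

theorem Am_le : Am ≤ Sm := by
  rintro _ ⟨f, rfl⟩
  obtain ⟨a, k, hk, h⟩ := fl_coord f
  exact ⟨a, k, hk, ext_apply h⟩

theorem flips_of_bool {a : Fin 64} {k : Fin 24} (h : inFlips (a, k) = true) : pa a * pk k ∈ Am := by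
  simp only [inFlips, List.any_eq_true, List.all_eq_true, List.mem_finRange, true_and, forall_const, beq_iff_eq] at h
  obtain ⟨f, hf⟩ := h
  exact ⟨f, ext_apply hf⟩

theorem mem_of_flips {a : Fin 64} {k : Fin 24} (h : pa a * pk k ∈ Am) : inFlips (a, k) = true := by
  simp only [inFlips, List.any_eq_true, List.all_eq_true, List.mem_finRange, true_and, forall_const, beq_iff_eq]
  obtain ⟨f, hf⟩ := h
  exact ⟨f, fun x => Equiv.congr_fun (congrArg Subtype.val hf) x⟩

theorem movedPts_support (m : Mh) : movedPts m.1 = (Equiv.Perm.support (m.1 : Perm (Fin 12))).card := by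
  rw [movedPts, ← List.toFinset_card_of_nodup ((List.nodup_finRange 12).filter _)]
  congr 1
  ext x
  simp

theorem moved_conj (c m : Mh) : movedPts (c * m * c⁻¹).1 = movedPts m.1 := by
  rw [movedPts_support, movedPts_support]
  show (Equiv.Perm.support ((c.1 : Perm (Fin 12)) * m.1 * c.1⁻¹)).card = _
  rw [Equiv.Perm.support_conj, Finset.card_map]


theorem moved_weight : ∀ v : Fin 64, movedPts (aFun v) = 4 ↔ weight v = 1 := by decide +kernel

/-- The element of given coordinates. -/
def pc (p : Fin 64 × Fin 24) : Mh := pa p.1 * pk p.2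

theorem pc_mul (p q : Fin 64 × Fin 24) : pc p * pc q = pc (cMul p q) := by
  unfold pc cMul
  calc pa p.1 * pk p.2 * (pa q.1 * pk q.2) = pa p.1 * (pk p.2 * pa q.1) * pk q.2 := by group
    _ = _ := by rw [pk_pa, ← pa_mul, ← pk_mul]; group

theorem pc_inv (p : Fin 64 × Fin 24) : (pc p)⁻¹ = pc (cInv p) := by
  unfold pc cInv
  rw [mul_inv_rev, pa_inv, pk_inv, pk_pa]

theorem invCoset_mem {p : Fin 64 × Fin 24} (h : invCoset p = true) :
    ∃ f : Fin 8, pc p * fl f * (pc p * fl f) = 1 := by
  simp only [invCoset, List.any_eq_true, List.all_eq_true, List.mem_finRange, true_and, forall_const, beq_iff_eq] at h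
  obtain ⟨f, hf⟩ := h
  exact ⟨f, ext_apply hf⟩

/-- A normal subgroup of the Sylow subgroup with no further involutions is the subgroup of flips. -/
theorem le_flips {N : Subgroup Mh} (hN : N ≤ Sm) (hA : Am ≤ N) (hn : ∀ u ∈ Sm, ∀ s ∈ N, u * s * u⁻¹ ∈ N)
    (hinv : ∀ s ∈ N, s * s = 1 → s ∈ Am) : N ≤ Am := by
  intro s hs
  obtain ⟨a, k, hk, rfl⟩ := hN hs
  have h := outTest_true
  simp only [outTest, List.all_eq_true, List.mem_finRange, forall_const, Bool.or_eq_true, decide_eq_true_eq,
    List.any_eq_true, true_and, Bool.and_eq_true, Bool.not_eq_true'] at h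
  rcases h a k with ((h8 | hf) | hc) | ⟨l, hl, b, hb, hc⟩
  · omega
  · exact flips_of_bool hf
  · obtain ⟨f, hf⟩ := invCoset_mem hc
    exact (Subgroup.mul_mem_cancel_right Am (fl_mem f)).1 (hinv _ (mul_mem hs (hA (fl_mem f))) hf)
  · exfalso
    set t := cMul (cMul (cInv (a, k)) (cInv (b, l))) (cMul (a, k) (b, l)) with ht
    have he : pc t = (pc (a, k))⁻¹ * (pc (b, l))⁻¹ * (pc (a, k) * pc (b, l)) := by
      rw [ht, ← pc_mul, ← pc_mul, ← pc_mul, pc_inv, pc_inv]
    have hu : pc (b, l) ∈ Sm := ⟨b, l, hl, rfl⟩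
    have htN : pc t ∈ N := by
      rw [he, show (pc (a, k))⁻¹ * (pc (b, l))⁻¹ * (pc (a, k) * pc (b, l)) =
        (pc (a, k))⁻¹ * ((pc (b, l))⁻¹ * pc (a, k) * (pc (b, l))⁻¹⁻¹) by group]
      exact mul_mem (inv_mem hs) (hn _ (inv_mem hu) _ hs)
    obtain ⟨f, hf⟩ := invCoset_mem hc
    have := (Subgroup.mul_mem_cancel_right Am (fl_mem f)).1 (hinv _ (mul_mem htN (hA (fl_mem f))) hf)
    rw [mem_of_flips this] at hb
    cases hb

/-- An involution of the Sylow subgroup in the small class together with its translate is a flip. -/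
theorem closed_mem {s : Mh} (hs : s ∈ Sm) (h2 : s * s = 1) (h4 : movedPts s.1 = 4)
    (h4' : movedPts (s * pa 5).1 = 4) : s ∈ Am := by
  obtain ⟨a, k, hk, rfl⟩ := hs
  have h := closedTest_true
  simp only [closedTest, List.all_eq_true, List.mem_finRange, forall_const, Bool.or_eq_true, decide_eq_true_eq,
    Bool.not_eq_true', List.all_eq_false, beq_iff_eq, beq_eq_false_iff_ne, true_and] at h
  rcases h a k with (((h8 | ⟨x, hx⟩) | hm) | hm) | hf
  · omega
  · exact absurd (Equiv.congr_fun (congrArg Subtype.val h2) x) hx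
  · exact absurd h4 hm
  · exact absurd h4' hm
  · exact flips_of_bool hf

end Cfsg.Lib.AltTwelveCent
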