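import Cfsg.Agent.AltTwelveCent.AltSub
import Cfsg.Agent.AltTwelveCent.AltPair
import Cfsg.Agent.Goldschmidt.Final
import Cfsg.Agent.Ree.Field.Final
import Cfsg.Agent.Goldschmidt.Consequences.ThmA.Thm

/-!
The centralizer of a product of two block involutions: the flips of four pairs are strongly closed in it, hence
normal, so it lies in the simple subgroup.
-/

set_option autoImplicit false
set_option linter.unusedSectionVars false
set_option linter.style.haveILetI false
set_option maxRecDepth 100000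
set_option maxHeartbeats 1000000

namespace Cfsg.Lib.AltTwelveCent

open Subgroup Cfsg.Lib.AltTwelveType

universe u

theorem Sm_comm_five {s : Mh} (hs : s ∈ Sm) : s * pa 5 = pa 5 * s := by
  obtain ⟨a, k, hk, rfl⟩ := hs
  have key : ∀ k : Fin 24, k.val < 8 → act k 5 = 5 := by decide +kernel
  rw [mul_assoc, pk_pa, key k hk, ← mul_assoc, pa_mul, axor_comm, ← pa_mul, mul_assoc]

theorem five_not : pa 5 ≠ 1 ∧ fl 1 * pa 5 ≠ 1 := by
  constructor <;> intro h
  · exact absurd (pa_inj (h.trans pa_zero.symm)) (by decide)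
  · rw [fl_values.2.1, pa_mul] at h
    exact absurd (pa_inj (h.trans pa_zero.symm)) (by decide +kernel)

variable {G : Type u} [Group G] [Finite G] {S : Setting G} (hA : ∀ v, S.o v = oAlt v)

include hA

theorem moved_of_conj {s : Mh} (hs : s * s = 1) (hc : IsConj (S.el 1) (S.φ s)) : movedPts s.1 = 4 := by
  obtain ⟨c, b, hb⟩ := invol_into_A hs
  have hcb : IsConj (S.el 1) (S.el b) := hc.trans (isConj_iff.2 ⟨S.φ c, by
    rw [Setting.el, ← hb, map_mul, map_mul, map_inv]⟩)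
  have hw : weight b = 1 := by
    rw [← (Setting.conj_iff_weight hA).1 hcb]; decide +kernel
  rw [← moved_conj c s, hb]
  exact (moved_weight b).2 hw

/-- The flips are normal in the centralizer. -/
theorem flips_normal {x : G} (hx : x * S.el 5 = S.el 5 * x) {f : Fin 8} :
    x * S.φ (fl f) * x⁻¹ ∈ Am.map S.φ := by
  haveI : Fact (Nat.Prime 2) := ⟨Nat.prime_two⟩
  set X := centralizer ({S.el 5} : Set G) with hX
  have memX : ∀ {y : G}, y ∈ X ↔ y * S.el 5 = S.el 5 * y := fun {y} => mem_centralizer_singleton_iff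
  have hsylX : (S.syl : Subgroup G) ≤ X := by
    rw [S.syl_eq]
    rintro _ ⟨s, hs, rfl⟩
    exact memX.2 (by rw [Setting.el, ← map_mul, ← map_mul, Sm_comm_five hs])
  have hφX : ∀ {m : Mh}, m * pa 5 = pa 5 * m → S.φ m ∈ X := fun {m} hm =>
    memX.2 (by rw [Setting.el, ← map_mul, ← map_mul, hm])
  set A := Am.map S.φ with hAdef
  have hAsyl : A ≤ (S.syl : Subgroup G) := by rw [S.syl_eq]; exact Subgroup.map_mono Am_le
  have hflA : ∀ g : Fin 8, S.φ (fl g) ∈ A := fun g => ⟨fl g, fl_mem g, rfl⟩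
  have hflX : ∀ g : Fin 8, S.φ (fl g) ∈ X := fun g => hsylX (hAsyl (hflA g))
  -- the small flips are conjugate to the first one, also after translation
  have hclass : ∀ g : Fin 8, g ≠ 0 → g ≠ 7 →
      IsConj (S.el 1) (S.φ (fl g)) ∧ IsConj (S.el 1) (S.φ (fl g * pa 5)) ∧
      ∃ n ∈ X, n * S.φ (fl g) * n⁻¹ = S.φ (fl g) * S.el 5 := by
    intro g hg0 hg7
    obtain ⟨i, j, k, l, -, hm⟩ := fl_move g hg0 hg7
    have e : ps i j * ps k l * fl 1 * (ps i j * ps k l)⁻¹ = fl g := mul_inv_eq_iff_eq_mul.2 (ext_apply hm)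
    have h1 : IsConj (S.el 1) (S.φ (fl g)) := isConj_iff.2 ⟨S.φ (ps i j * ps k l), by
      rw [← e, map_mul _ _ ((ps i j * ps k l)⁻¹), map_mul _ _ (fl 1), map_inv, fl_values.2.1]; rfl⟩
    obtain ⟨i, j, k, l, h5, ht⟩ := fl_translate g hg0 hg7
    have h5' : ps i j * ps k l * pa 5 = pa 5 * (ps i j * ps k l) := ext_apply h5
    have e' : ps i j * ps k l * fl g * (ps i j * ps k l)⁻¹ = fl g * pa 5 := mul_inv_eq_iff_eq_mul.2 (ext_apply ht)
    have h2 : S.φ (ps i j * ps k l) * S.φ (fl g) * (S.φ (ps i j * ps k l))⁻¹ = S.φ (fl g * pa 5) := by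
      rw [← map_inv, ← map_mul, ← map_mul, e']
    exact ⟨h1, h1.trans (isConj_iff.2 ⟨_, h2⟩), _, hφX h5', by rw [h2, map_mul]; rfl⟩
  -- strong closure
  let SX : Sylow 2 X := S.syl.subtype hsylX
  set AX := A.subgroupOf X with hAX
  have hAXmem : ∀ {y : X}, y ∈ AX ↔ (y : G) ∈ A := fun {y} => mem_subgroupOf
  have hsc : Cfsg.IsStronglyClosed AX (SX : Subgroup X) := by
    refine ⟨fun y hy => mem_subgroupOf.2 (hAsyl (hAXmem.1 hy)), fun a ha g hg => hAXmem.2 ?_⟩
    obtain ⟨_, ⟨k, rfl⟩, hk⟩ := hAXmem.1 ha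
    have hg' : (g : G) * a * (g : G)⁻¹ ∈ (S.syl : Subgroup G) := hg
    rw [S.syl_eq] at hg'
    obtain ⟨s, hs, hse⟩ := hg'
    show (g : G) * a * (g : G)⁻¹ ∈ A
    rw [← hk] at hse ⊢
    have hg5 : (g : G) * S.el 5 * (g : G)⁻¹ = S.el 5 := mul_inv_eq_iff_eq_mul.2 (memX.1 g.2)
    by_cases hk0 : k = 0
    · rw [hk0, fl_values.1]; simp
    by_cases hk7 : k = 7
    · rw [hk7, fl_values.2.2, show S.φ (pa 5) = S.el 5 from rfl, hg5]
      exact ⟨fl 7, fl_mem 7, by rw [fl_values.2.2]; rfl⟩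
    obtain ⟨c1, c2, -⟩ := hclass k hk0 hk7
    have hs2 : s * s = 1 := S.inj (by
      rw [map_mul, hse, map_one, show ∀ y : G, (g : G) * y * (g : G)⁻¹ * ((g : G) * y * (g : G)⁻¹) =
        (g : G) * (y * y) * (g : G)⁻¹ from fun y => by group, ← map_mul, fl_sq, map_one, mul_one, mul_inv_cancel])
    have hs5 : s * pa 5 * (s * pa 5) = 1 := by
      rw [show s * pa 5 * (s * pa 5) = s * (pa 5 * s) * pa 5 by group, ← Sm_comm_five hs,
        show s * (s * pa 5) * pa 5 = s * s * (pa 5 * pa 5) by group, hs2, pa_sq, one_mul]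
    have e1 : IsConj (S.el 1) (S.φ s) := c1.trans (isConj_iff.2 ⟨g, hse.symm⟩)
    have e2 : IsConj (S.el 1) (S.φ (s * pa 5)) := c2.trans (isConj_iff.2 ⟨g, by
      rw [map_mul, map_mul, hse, show S.φ (pa 5) = S.el 5 from rfl]
      calc _ = (g : G) * S.φ (fl k) * (g : G)⁻¹ * ((g : G) * S.el 5 * (g : G)⁻¹) := by group
        _ = _ := by rw [hg5]⟩)
    rw [← hse]
    exact ⟨s, closed_mem hs hs2 (moved_of_conj hA hs2 e1) (moved_of_conj hA hs5 e2), rfl⟩
  -- odd normal subgroups are trivial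
  have hodd : ∀ N : Subgroup X, N.Normal → Odd (Nat.card N) → N = ⊥ := by
    intro N hN hNodd
    refine (map_eq_bot_iff_of_injective _ X.subtype_injective).1 (Setting.odd_normalised_alt hA
      (by rwa [card_map_of_injective X.subtype_injective]) ?_)
    rintro w _ ⟨p, hp, rfl⟩
    exact ⟨⟨S.el w, hsylX (S.AG_le (S.el_mem w))⟩ * p * ⟨S.el w, hsylX (S.AG_le (S.el_mem w))⟩⁻¹,
      hN.conj_mem p hp _, rfl⟩
  set K := Subgroup.normalClosure (AX : Set X) with hK
  haveI : K.Normal := Subgroup.normalClosure_normal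
  have hAK : AX ≤ K := Subgroup.le_normalClosure
  have hcoreK : Cfsg.pPrimeCore 2 K = ⊥ := by
    haveI : (Cfsg.pPrimeCore 2 K).Characteristic := Cfsg.Lib.Components.pPrimeCore_characteristic
    have h1 := hodd ((Cfsg.pPrimeCore 2 K).map K.subtype) inferInstance (by
      rw [card_map_of_injective K.subtype_injective]
      exact Nat.Coprime.odd_of_right (Cfsg.Lib.Components.coprime_card_pPrimeCore (G := K) 2))
    exact (map_eq_bot_iff_of_injective _ K.subtype_injective).1 h1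
  have hcomm : IsMulCommutative AX := ⟨⟨fun a b => Subtype.ext (Subtype.ext (by
    obtain ⟨_, ⟨i, rfl⟩, hi⟩ := hAXmem.1 a.2
    obtain ⟨_, ⟨j, rfl⟩, hj⟩ := hAXmem.1 b.2
    show ((a : X) : G) * ((b : X) : G) = ((b : X) : G) * ((a : X) : G)
    rw [← hi, ← hj, ← map_mul, ← map_mul, fl_comm]))⟩⟩
  obtain ⟨-, -, ⟨T, hAT, hTeq⟩, -⟩ := Cfsg.Lib.Goldschmidt.ThmA.closure_structure Cfsg.Lib.Goldschmidt.goldProp
    Cfsg.Lib.Ree.Field.noFieldProp SX AX hcomm hsc K hK K (MonoidHom.id K) Function.surjective_id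
    (by rw [hcoreK]; exact (MonoidHom.ker_eq_bot_iff _).2 fun _ _ h => h)
  rw [Subgroup.map_id] at hAT hTeq
  -- involutions of the normal closure are in the flips up to conjugacy
  have hTinv : ∀ t ∈ (T : Subgroup K), t * t = 1 → (t : X) ∈ AX := by
    intro t ht ht2
    have h1 : t ∈ Cfsg.omegaOne 2 (T : Subgroup K) := subset_closure ⟨ht, by rw [pow_two, ht2]⟩
    have h2 : t ∈ AX.subgroupOf K := by rw [hTeq]; exact mem_sup_right h1
    exact h2
  have hinvK : ∀ t : K, t * t = 1 → ∃ a : K, ((a⁻¹ * t * a : K) : X) ∈ AX := by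
    intro t ht
    have hp : IsPGroup 2 (zpowers t) := by
      rintro ⟨_, i, rfl⟩
      refine ⟨1, Subtype.ext ?_⟩
      show (t ^ i) ^ (2 ^ 1) = 1
      rw [pow_one, ← zpow_natCast, ← zpow_mul, mul_comm, zpow_mul, zpow_natCast, pow_two, ht, one_zpow]
    obtain ⟨a, ha⟩ := Cfsg.Lib.InvolCalc.exists_conj_le T hp
    exact ⟨a, hTinv _ (ha t (mem_zpowers t)) (by
      rw [show a⁻¹ * t * a * (a⁻¹ * t * a) = a⁻¹ * (t * t) * a by group, ht, mul_one, inv_mul_cancel])⟩
  -- the Sylow subgroup of the normal closure is abelian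
  have hTcomm : ∀ p ∈ (T : Subgroup K), ∀ q ∈ (T : Subgroup K), p * q = q * p := by
    obtain ⟨z, hz⟩ := Cfsg.Lib.InvolCalc.exists_conj_le SX (T.2.map K.subtype)
    -- the intersection with the Sylow subgroup is the group of flips
    let N : Subgroup Mh := Sm ⊓ (K.map X.subtype).comap S.φ
    have hSmX : ∀ {s : Mh}, s ∈ Sm → S.φ s ∈ X := fun {s} hs => hsylX (by rw [S.syl_eq]; exact ⟨s, hs, rfl⟩)
    have hNle : N ≤ Am := by
      refine le_flips inf_le_left ?_ ?_ ?_
      · rintro _ ⟨g, rfl⟩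
        exact ⟨Am_le (fl_mem g), ⟨⟨S.φ (fl g), hflX g⟩, hAK (hAXmem.2 (hflA g)), rfl⟩⟩
      · rintro v hv s ⟨hs, y, hy, hys⟩
        refine ⟨Sm.mul_mem (Sm.mul_mem hv hs) (Sm.inv_mem hv), ⟨⟨S.φ v, hSmX hv⟩ * y * ⟨S.φ v, hSmX hv⟩⁻¹,
          (inferInstance : K.Normal).conj_mem y hy _, ?_⟩⟩
        rw [map_mul, map_mul, map_inv, map_mul, map_mul, map_inv, hys]; rfl
      · rintro s ⟨hs, y, hy, hys⟩ hs2
        have hy2 : (⟨y, hy⟩ : K) * ⟨y, hy⟩ = 1 := Subtype.ext (Subtype.ext (by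
          show (y : G) * y = 1
          rw [show (y : G) = S.φ s from hys, ← map_mul, hs2, map_one]))
        obtain ⟨a, ha⟩ := hinvK _ hy2
        have hysyl : (y : X) ∈ (SX : Subgroup X) := by
          show (y : G) ∈ (S.syl : Subgroup G)
          rw [show (y : G) = S.φ s from hys, S.syl_eq]; exact ⟨s, hs, rfl⟩
        have h := hsc.2 _ ha (a : X) (by
          rwa [show (a : X) * ((a⁻¹ * ⟨y, hy⟩ * a : K) : X) * (a : X)⁻¹ = y by
            simp only [Subgroup.coe_mul, Subgroup.coe_inv]; group])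
        rw [show (a : X) * ((a⁻¹ * ⟨y, hy⟩ * a : K) : X) * (a : X)⁻¹ = y by
            simp only [Subgroup.coe_mul, Subgroup.coe_inv]; group] at h
        obtain ⟨m, hm, hme⟩ := hAXmem.1 h
        exact S.inj (hme.trans hys) ▸ hm
    have hzA : ∀ p ∈ (T : Subgroup K), z⁻¹ * (p : X) * z ∈ AX := by
      intro p hp
      have h1 : ((z⁻¹ * (p : X) * z : X) : G) ∈ (S.syl : Subgroup G) := hz _ ⟨p, hp, rfl⟩
      rw [S.syl_eq] at h1
      obtain ⟨s, hs, hse⟩ := h1
      refine hAXmem.2 ⟨s, hNle ⟨hs, z⁻¹ * (p : X) * z, ?_, hse.symm⟩, hse⟩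
      have := (inferInstance : K.Normal).conj_mem (p : X) p.2 z⁻¹
      rwa [inv_inv] at this
    intro p hp q hq
    apply Subtype.ext
    show (p : X) * q = q * p
    have h := congrArg Subtype.val (hcomm.is_comm.comm ⟨_, hzA p hp⟩ ⟨_, hzA q hq⟩)
    have h' : z⁻¹ * ((p : X) * q) * z = z⁻¹ * ((q : X) * p) * z := by
      calc z⁻¹ * ((p : X) * q) * z = z⁻¹ * (p : X) * z * (z⁻¹ * q * z) := by group
        _ = z⁻¹ * (q : X) * z * (z⁻¹ * p * z) := h
        _ = _ := by group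
    exact mul_left_cancel (mul_right_cancel h')
  -- the central flip is not in the derived subgroup
  have hw7 : (⟨S.φ (fl 7), hflX 7⟩ : X) ∈ K := hAK (hAXmem.2 (hflA 7))
  have hw5 : (⟨S.φ (fl 7), hflX 7⟩ : X) ≠ 1 := fun h => by
    have h2 : S.φ (fl 7) = 1 := congrArg Subtype.val h
    rw [fl_values.2.2] at h2
    exact five_not.1 (S.inj (h2.trans (map_one _).symm))
  have hwnot : (⟨_, hw7⟩ : K) ∉ commutator K := by
    intro hw
    letI : CommGroup (T : Subgroup K) :=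
      { (inferInstance : Group (T : Subgroup K)) with
        mul_comm := fun p q => Subtype.ext (hTcomm _ p.2 _ q.2) }
    set w : K := ⟨_, hw7⟩ with hwdef
    have hwT : w ∈ (T : Subgroup K) := hAT (hAXmem.2 (hflA 7))
    have hcen : ∀ g : K, g * w = w * g := fun g => Subtype.ext (Subtype.ext (by
      show ((g : X) : G) * S.φ (fl 7) = S.φ (fl 7) * ((g : X) : G)
      rw [fl_values.2.2]
      exact memX.1 (g : X).2))
    have h1 : MonoidHom.transfer (MonoidHom.id (T : Subgroup K)) w = 1 :=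
      Abelianization.commutator_subset_ker _ hw
    rw [MonoidHom.transfer_eq_pow _ _ (fun k g₀ _ => by
      have hzk : Commute g₀ (w ^ k) := (show Commute g₀ w from hcen g₀).pow_right k
      rw [mul_assoc, ← hzk.eq, inv_mul_cancel_left])] at h1
    have hpow : w ^ (T : Subgroup K).index = 1 := congrArg Subtype.val h1
    obtain ⟨j, hj⟩ : Odd (T : Subgroup K).index := Nat.not_even_iff_odd.1 fun h =>
      T.not_dvd_index (even_iff_two_dvd.1 h)
    have hsq : w ^ 2 = 1 := Subtype.ext (Subtype.ext (by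
      show S.φ (fl 7) ^ 2 = 1
      rw [← map_pow, pow_two, fl_sq, map_one]))
    rw [hj, pow_succ, pow_mul, hsq, one_pow, one_mul] at hpow
    exact hw5 (congrArg Subtype.val hpow)
  haveI : ((commutator K).map K.subtype).Normal := inferInstance
  have hmeet : ∀ y : K, y ∈ commutator K → (y : X) ∈ AX → y = 1 := by
    intro y hy hyA
    obtain ⟨_, ⟨g, rfl⟩, hg⟩ := hAXmem.1 hyA
    by_contra hy1
    have hg0 : g ≠ 0 := fun h => hy1 (Subtype.ext (Subtype.ext (by
      show ((y : X) : G) = 1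
      rw [← hg, h, fl_values.1, map_one])))
    by_cases hg7 : g = 7
    · refine hwnot ?_
      rwa [show (⟨_, hw7⟩ : K) = y from Subtype.ext (Subtype.ext (by
        show S.φ (fl 7) = ((y : X) : G)
        rw [← hg, hg7]))]
    obtain ⟨-, -, n, hn, hne⟩ := hclass g hg0 hg7
    obtain ⟨y', hy', hy'e⟩ := (inferInstance : ((commutator K).map K.subtype).Normal).conj_mem _
      ⟨y, hy, rfl⟩ ⟨n, hn⟩
    refine hwnot ?_
    have : (⟨_, hw7⟩ : K) = y⁻¹ * y' := Subtype.ext (Subtype.ext (by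
      show S.φ (fl 7) = ((y : X) : G)⁻¹ * ((y' : X) : G)
      rw [show (y' : X) = ⟨n, hn⟩ * (y : X) * (⟨n, hn⟩ : X)⁻¹ from hy'e]
      show S.φ (fl 7) = ((y : X) : G)⁻¹ * (n * ((y : X) : G) * n⁻¹)
      rw [← hg, hne, inv_mul_cancel_left, fl_values.2.2]; rfl))
    rw [this]
    exact mul_mem (inv_mem hy) hy'
  -- the normal closure is abelian
  have hKcomm : ∀ p q : K, p * q = q * p := by
    have hbot : commutator K = ⊥ := by
      refine (map_eq_bot_iff_of_injective _ K.subtype_injective).1 (hodd _ inferInstance ?_)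
      rw [card_map_of_injective K.subtype_injective, ← Nat.not_even_iff_odd]
      intro he
      obtain ⟨t, ht, h2⟩ := Cfsg.Lib.StrongEmb.exists_involution_of_even he
      obtain ⟨a, ha⟩ := hinvK t (Cfsg.Lib.InvolCalc.sq_of_order_two h2)
      have := hmeet _ (by simpa using (inferInstance : (commutator K).Normal).conj_mem t ht a⁻¹) ha
      exact Cfsg.Lib.InvolCalc.ne_one_of_order_two h2 (by
        calc t = a * (a⁻¹ * t * a) * a⁻¹ := by group
          _ = 1 := by rw [this, mul_one, mul_inv_cancel])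
    intro p q
    rw [← commutatorElement_eq_one_iff_mul_comm, ← mem_bot, ← hbot]
    exact commutator_mem_commutator (mem_top p) (mem_top q)
  -- conclusion
  have hxK : (⟨x, memX.2 hx⟩ : X) * ⟨S.φ (fl f), hflX f⟩ * (⟨x, memX.2 hx⟩ : X)⁻¹ ∈ K :=
    (inferInstance : K.Normal).conj_mem _ (hAK (hAXmem.2 (hflA f))) _
  obtain ⟨a, ha⟩ := hinvK ⟨_, hxK⟩ (Subtype.ext (Subtype.ext (by
    show x * S.φ (fl f) * x⁻¹ * (x * S.φ (fl f) * x⁻¹) = 1
    rw [show x * S.φ (fl f) * x⁻¹ * (x * S.φ (fl f) * x⁻¹) = x * (S.φ (fl f) * S.φ (fl f)) * x⁻¹ by group,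
      ← map_mul, fl_sq, map_one, mul_one, mul_inv_cancel])))
  rw [mul_assoc, hKcomm, mul_inv_cancel_right] at ha
  exact hAXmem.1 ha

/-- The centralizer lies in the simple subgroup. -/
theorem cent_five_le {H : Subgroup G} (hH : AltSub S H)
    (h1 : centralizer ({S.el 1} : Set G) ≤ H) : centralizer ({S.el 5} : Set G) ≤ H := by
  intro x hx
  rw [mem_centralizer_singleton_iff] at hx
  obtain ⟨_, ⟨g, rfl⟩, hge⟩ := flips_normal hA hx (f := 1)
  rw [fl_values.2.1, show S.φ (pa 1) = S.el 1 from rfl] at hge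
  have hg0 : g ≠ 0 := fun h => by
    rw [h, fl_values.1, map_one, eq_comm, conj_eq_one_iff, ← S.el_zero] at hge
    exact absurd (S.el_inj hge) (by decide)
  have hg7 : g ≠ 7 := fun h => by
    rw [h, fl_values.2.2, show S.φ (pa 5) = S.el 5 from rfl] at hge
    have h2 : x * S.el 5 = x * S.el 1 := by
      rw [hx, hge]; group
    exact absurd (S.el_inj (mul_left_cancel h2)) (by decide)
  obtain ⟨i, j, k, l, -, hm⟩ := fl_move g hg0 hg7
  have e : ps i j * ps k l * pa 1 = fl g * (ps i j * ps k l) := by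
    rw [← fl_values.2.1]; exact ext_apply hm
  set p := S.φ (ps i j * ps k l) with hp
  have hpH : p ∈ H := hH.range_le ⟨_, rfl⟩
  have hmem : p⁻¹ * x ∈ H := h1 (mem_centralizer_singleton_iff.2 (by
    have e' : p * S.el 1 = S.φ (fl g) * p := by rw [hp, Setting.el, ← map_mul, ← map_mul, e]
    calc p⁻¹ * x * S.el 1 = p⁻¹ * (x * S.el 1 * x⁻¹) * x := by group
      _ = p⁻¹ * S.φ (fl g) * p * (p⁻¹ * x) := by rw [hge]; group
      _ = S.el 1 * (p⁻¹ * x) := by rw [mul_assoc p⁻¹ (S.φ (fl g)) p, ← e', inv_mul_cancel_left]))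
  exact (Subgroup.mul_mem_cancel_left H (inv_mem hpH)).1 hmem

end Cfsg.Lib.AltTwelveCent
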