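import Cfsg.Agent.AltTwelveCent.AltCentTwo
import Cfsg.Agent.AltTwelveType.AltCentOne

/-!
The recognition of the alternating groups of degree twelve and thirteen, from the normalization of the first block.
-/

set_option autoImplicit false

namespace Cfsg.Lib.AltTwelveCent

open Cfsg.Lib.AltTwelveType

universe u

/-- The alternating case, given that the centralizer of the first block involution fixes the block four group. -/
theorem alt_case_of {G : Type u} [Group G] [Finite G] {S : Setting G} (hA : ∀ v, S.o v = oAlt v)
    (hone : ∀ x, x * S.el 1 = S.el 1 * x → ∀ v : Fin 64, v.val < 4 →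
      ∃ w : Fin 64, w.val < 4 ∧ x * S.el v * x⁻¹ = S.el w) :
    Nonempty (G ≃* ↥(alternatingGroup (Fin 12))) ∨ Nonempty (G ≃* ↥(alternatingGroup (Fin 13))) := by
  obtain ⟨H, hH⟩ := exists_altSub hA
  have h1 := hH.cent_one_le hone
  have htop := hH.eq_top hA h1 (cent_five_le hA hH h1)
  subst htop
  rcases hH.model with h | h <;> rcases h with ⟨e⟩
  · exact Or.inl ⟨(equivTwelve.trans (e.trans Subgroup.topEquiv)).symm⟩
  · exact Or.inr ⟨(equivThirteen.trans (e.trans Subgroup.topEquiv)).symm⟩

/-- The alternating case of the recognition. -/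
theorem alt_case {G : Type u} [Group G] [Finite G] (S : Setting G) (hA : ∀ v, S.o v = oAlt v) :
    Nonempty (G ≃* ↥(alternatingGroup (Fin 12))) ∨ Nonempty (G ≃* ↥(alternatingGroup (Fin 13))) :=
  alt_case_of hA (Setting.cent_one hA)

end Cfsg.Lib.AltTwelveCent
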