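import Mathlib
import Cfsg.Agent.AltTwelveCent.AltBuild
import Cfsg.Agent.AltTwelveType.Crit
import Cfsg.Agent.AltTwelveType.AltOdd

/-!
The simple subgroup: the image of the alternating group contains the centralizer of the central involution and
realises the fusion in the elementary subgroup.
-/

set_option autoImplicit false
set_option linter.unusedSectionVars false
set_option linter.style.haveILetI false
set_option maxRecDepth 100000
set_option maxHeartbeats 1000000

namespace Cfsg.Lib.AltTwelveCent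

open Equiv Cfsg.Lib.AltTwelveType

/-- The three cycle inducing a block cycle. -/
def bCyc (b : Fin 3) : P13 :=
  swap (⟨4 * b.val + 1, by omega⟩ : Fin 13) ⟨4 * b.val + 2, by omega⟩ *
    swap (⟨4 * b.val + 2, by omega⟩ : Fin 13) ⟨4 * b.val + 3, by omega⟩

theorem bCyc_facts : ∀ b : Fin 3, bCyc b ∈ AT false ∧ bCyc b ∈ AT true ∧ ∀ v : Fin 64, ∀ x : Fin 13,
    bCyc b (if h : x.val < 12 then (aFun v ⟨_, h⟩).castSucc else 12) =
      if h : (bCyc b x).val < 12 then (aFun (blockCycle b v) ⟨_, h⟩).castSucc else 12 := by decide +kernel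

theorem weight_range : ∀ v : Fin 64, v ≠ 0 → weight v = 1 ∨ weight v = 2 ∨ weight v = 3 := by decide +kernel

theorem axor_ne_zero : ∀ w : Fin 64, w ≠ 21 → axor 21 w ≠ 0 := by decide +kernel

theorem flip_one : ∃ k : Fin 24, act k 1 = 1 ∧ act k 3 = 2 := by decide +kernel

theorem low_cases : ∀ w : Fin 64, w.val < 4 → w = 0 ∨ w = 1 ∨ w = 2 ∨ w = 3 := by decide +kernel

/-- A simple subgroup containing the centralizer of the central involution and realising the fusion. -/
structure AltSub {G : Type*} [Group G] [Finite G] (S : Setting G) (H : Subgroup G) : Prop where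
  model : Nonempty (AT false ≃* H) ∨ Nonempty (AT true ≃* H)
  range_le : S.φ.range ≤ H
  c0_le : C0 S ≤ H
  trans : ∀ v w : Fin 64, weight v = weight w → ∃ h ∈ H, h * S.el v * h⁻¹ = S.el w

namespace AltSub

variable {G : Type*} [Group G] [Finite G] {S : Setting G} {H : Subgroup G} (hH : AltSub S H)
include hH

theorem isSimple : IsSimpleGroup H := by
  rcases hH.model with h | h <;> obtain ⟨e⟩ := h
  · haveI := simple_AT false; exact e.symm.isSimpleGroup
  · haveI := simple_AT true; exact e.symm.isSimpleGroup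

theorem el_mem (v : Fin 64) : S.el v ∈ H := hH.range_le ⟨pa v, rfl⟩

/-- Elements conjugate in the subgroup have their centralizers in it together. -/
theorem cent_le_of_weight {v w : Fin 64} (h : weight v = weight w)
    (hv : Subgroup.centralizer ({S.el v} : Set G) ≤ H) : Subgroup.centralizer ({S.el w} : Set G) ≤ H := by
  obtain ⟨k, hk, hkw⟩ := hH.trans v w h
  intro x hx
  rw [Subgroup.mem_centralizer_singleton_iff] at hx
  have hmem : k⁻¹ * x * k ∈ H := hv (Subgroup.mem_centralizer_singleton_iff.2 (by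
    calc k⁻¹ * x * k * S.el v = k⁻¹ * (x * (k * S.el v * k⁻¹)) * k := by group
      _ = k⁻¹ * ((k * S.el v * k⁻¹) * x) * k := by rw [hkw, hx]
      _ = S.el v * (k⁻¹ * x * k) := by group))
  have := mul_mem (mul_mem hk hmem) (inv_mem hk)
  rwa [show k * (k⁻¹ * x * k) * k⁻¹ = x by group] at this

theorem cent_one_le (hone : ∀ x, x * S.el 1 = S.el 1 * x → ∀ v : Fin 64, v.val < 4 →
      ∃ w : Fin 64, w.val < 4 ∧ x * S.el v * x⁻¹ = S.el w) :
    Subgroup.centralizer ({S.el 1} : Set G) ≤ H := by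
  intro x hx
  rw [Subgroup.mem_centralizer_singleton_iff] at hx
  obtain ⟨w, hw, hxw⟩ := hone x hx 2 (by decide)
  rcases low_cases w hw with rfl | rfl | rfl | rfl
  · exfalso
    rw [S.el_zero, conj_eq_one_iff, ← S.el_zero] at hxw
    exact absurd (S.el_inj hxw) (by decide)
  · exfalso
    have h2 : x * S.el 2 = x * S.el 1 := by rw [mul_inv_eq_iff_eq_mul.1 hxw, hx]
    exact absurd (S.el_inj (mul_left_cancel h2)) (by decide)
  · exact hH.c0_le ((mem_C0 S).2 ⟨hx, mul_inv_eq_iff_eq_mul.1 hxw⟩)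
  · obtain ⟨k, hk1, hk3⟩ := flip_one
    have hkH : S.φ (pk k) ∈ H := hH.range_le ⟨_, rfl⟩
    have h0 : S.φ (pk k) * x ∈ C0 S := by
      refine (mem_C0 S).2 ⟨?_, ?_⟩
      · have e := S.φ_el k 1
        rw [hk1, mul_inv_eq_iff_eq_mul] at e
        rw [mul_assoc, hx, ← mul_assoc, e, mul_assoc]
      · have e := S.φ_el k 3
        rw [hk3, mul_inv_eq_iff_eq_mul] at e
        rw [mul_assoc, mul_inv_eq_iff_eq_mul.1 hxw, ← mul_assoc, e, mul_assoc]
    exact (Subgroup.mul_mem_cancel_left H hkH).1 (hH.c0_le h0)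

theorem conj_alpha (hA : ∀ v, S.o v = oAlt v) (v : Fin 64) (hv : S.o v = true) :
    ∃ h ∈ H, h * S.α * h⁻¹ = S.el v := by
  rw [← S.el_alpha]
  refine hH.trans 21 v ((Setting.conj_iff_weight hA).1 ?_)
  rw [S.el_alpha]
  exact S.o_iff.1 hv

theorem cent_alpha : Subgroup.centralizer ({S.el 21} : Set G) ≤ H := by
  intro x hx
  rw [Subgroup.mem_centralizer_singleton_iff, S.el_alpha] at hx
  obtain ⟨m, rfl⟩ := S.mem_cent.1 hx
  exact hH.range_le ⟨m, rfl⟩

/-- The subgroup is everything. -/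
theorem eq_top (hA : ∀ v, S.o v = oAlt v)
    (h1 : Subgroup.centralizer ({S.el 1} : Set G) ≤ H) (h5 : Subgroup.centralizer ({S.el 5} : Set G) ≤ H) : H = ⊤ := by
  refine S.top_of_criterion hH.isSimple hH.range_le (hH.conj_alpha hA)
    (fun N hN hodd => Setting.odd_normalised_alt hA hodd fun w p hp => hN.conj_mem p hp _) fun w _ hw => ?_
  rcases weight_range _ (axor_ne_zero w hw) with h | h | h
  · exact hH.cent_le_of_weight (h.trans (by decide +kernel : 1 = weight (1 : Fin 64))).symm h1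
  · exact hH.cent_le_of_weight (h.trans (by decide +kernel : 2 = weight (5 : Fin 64))).symm h5
  · exact hH.cent_le_of_weight (h.trans (by decide +kernel : 3 = weight (21 : Fin 64))).symm hH.cent_alpha

end AltSub

variable {G : Type*} [Group G] [Finite G] {S : Setting G}

/-- The subgroup exists. -/
theorem exists_altSub (hA : ∀ v, S.o v = oAlt v) : ∃ H : Subgroup G, AltSub S H := by
  obtain ⟨K, hK⟩ := exists_comp S
  obtain ⟨ext, ⟨e⟩⟩ : ∃ ext : Bool, Nonempty (K ≃* alternatingGroup (Fin (cdeg ext))) := by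
    rcases comp_cases hA hK with h | h
    · exact ⟨false, h⟩
    · exact ⟨true, h⟩
  obtain ⟨D, hDK, hDf⟩ := exists_local hA hK ext e
  obtain ⟨ψ, hψf, hψj⟩ := D.exists_hom
  have hφψ : ∀ m : Mh, ψ ⟨incl m.1, Hb_le_AT ext (incl_mem_Hb m)⟩ = S.φ m := fun m => by
    rw [hψf _ (incl_mem_Hb m), hDf, toMh_eq (incl_mem_Hb m) rfl]
  have hinj : Function.Injective ψ := by
    haveI := simple_AT ext
    rcases (inferInstance : ψ.ker.Normal).eq_bot_or_eq_top with h | h
    · exact (MonoidHom.ker_eq_bot_iff ψ).1 h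
    · refine absurd ?_ S.α_ne
      have h2 : (⟨incl αm.1, Hb_le_AT ext (incl_mem_Hb αm)⟩ : AT ext) ∈ ψ.ker := h ▸ Subgroup.mem_top _
      rwa [MonoidHom.mem_ker, hφψ] at h2
  have hrange : S.φ.range ≤ ψ.range := by
    rintro _ ⟨m, rfl⟩
    exact ⟨_, hφψ m⟩
  have hKH : K ≤ ψ.range := by
    rw [← hDK]
    rintro _ ⟨⟨x, hx⟩, rfl⟩
    obtain ⟨h', he⟩ := hψj x hx
    exact ⟨_, he⟩
  have hcyc : ∀ b : Fin 3, ∃ h ∈ ψ.range, ∀ v, h * S.el v * h⁻¹ = S.el (blockCycle b v) := by
    intro b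
    have hb : bCyc b ∈ AT ext := by cases ext <;> [exact (bCyc_facts b).1; exact (bCyc_facts b).2.1]
    refine ⟨ψ ⟨bCyc b, hb⟩, ⟨_, rfl⟩, fun v => mul_inv_eq_iff_eq_mul.2 ?_⟩
    show _ * S.φ (pa v) = S.φ (pa (blockCycle b v)) * _
    rw [← hφψ, ← hφψ, ← map_mul, ← map_mul]
    refine congrArg ψ (Subtype.ext (Equiv.ext fun x => ?_))
    show bCyc b (incl (pa v).1 x) = incl (pa (blockCycle b v)).1 (bCyc b x)
    rw [incl_pa_app, incl_pa_app]
    exact (bCyc_facts b).2.2 v x
  have hit : ∀ (b : Fin 3) (n : ℕ), ∃ h ∈ ψ.range, ∀ v, h * S.el v * h⁻¹ = S.el ((blockCycle b)^[n] v) := by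
    intro b n
    induction n with
    | zero => exact ⟨1, one_mem _, fun v => by simp⟩
    | succ n ih =>
      obtain ⟨h, hh, he⟩ := ih
      obtain ⟨c, hc, hce⟩ := hcyc b
      refine ⟨h * c, mul_mem hh hc, fun v => ?_⟩
      rw [Function.iterate_succ_apply, show h * c * S.el v * (h * c)⁻¹ = h * (c * S.el v * c⁻¹) * h⁻¹ by group,
        hce, he]
  refine ⟨ψ.range, ?_, hrange, ?_, ?_⟩
  · cases ext
    · exact Or.inl ⟨MonoidHom.ofInjective hinj⟩
    · exact Or.inr ⟨MonoidHom.ofInjective hinj⟩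
  · intro x hx
    obtain ⟨v, hv, hvx⟩ := hK.split x hx
    have h := mul_mem (hrange ⟨pa v, rfl⟩ : S.el v ∈ ψ.range) (hKH hvx)
    rwa [← mul_assoc, S.el_sq, one_mul] at h
  · intro v w hvw
    obtain ⟨k, i, j, l, e⟩ := weight_trans v w hvw
    obtain ⟨a, ha, hae⟩ := hit 0 i.val
    obtain ⟨b, hb, hbe⟩ := hit 1 j.val
    obtain ⟨c, hc, hce⟩ := hit 2 l.val
    refine ⟨S.φ (pk k) * (a * (b * c)), mul_mem (hrange ⟨_, rfl⟩) (mul_mem ha (mul_mem hb hc)), ?_⟩
    calc S.φ (pk k) * (a * (b * c)) * S.el v * (S.φ (pk k) * (a * (b * c)))⁻¹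
        = S.φ (pk k) * (a * (b * (c * S.el v * c⁻¹) * b⁻¹) * a⁻¹) * (S.φ (pk k))⁻¹ := by group
      _ = S.el w := by rw [hce, hbe, hae, S.φ_el]; exact congrArg S.el e

end Cfsg.Lib.AltTwelveCent
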